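import Groth.Agent.ASp.SchDenseImage
import Groth.Agent.ASp.Points
import Groth.Agent.ASp.Morph

/-!
Auxiliary facts: equality of maps into separated spaces, dense affine opens, finite sets in Jacobson spaces.
-/

set_option autoImplicit false
set_option backward.isDefEq.respectTransparency false
set_option backward.isDefEq.respectTransparency.types false
set_option linter.style.haveILetI false

universe u

open CategoryTheory CategoryTheory.Limits AlgebraicGeometry TopologicalSpace

namespace Groth.Agent.CurveSchLib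

open _root_.AlgSp Groth.Agent.ASp

variable {S : Scheme.{u}}

/-- Maps from a reduced scheme to a separated space agreeing on a dominant scheme are equal. -/
theorem eq_of_dominant {X : Sp S} (hX : IsSeparatedSp X) {T T' : Over S} [IsReduced T.left] (i : T' ⟶ T)
    [IsDominant i.left] (f g : (yon S).obj T ⟶ X) (h : (yon S).map i ≫ f = (yon S).map i ≫ g) : f = g := by
  let q : (yon S).obj T ⟶ X ⨯ X := prod.lift f g
  obtain ⟨P, a, c, hP⟩ : ∃ (P : Over S) (a : (yon S).obj P ⟶ X) (c : P ⟶ T),
      IsPullback a ((yon S).map c) (Limits.diag X) q :=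
    ⟨_, hX.1.fst q, hX.1.snd q, hX.1.isPullback q⟩
  haveI : IsClosedImmersion c.left := hX.2 q a c hP
  obtain ⟨l, hl⟩ := (yon S).map_surjective (hP.lift ((yon S).map i ≫ f) ((yon S).map i) (by
    apply Limits.prod.hom_ext
    · simp [q]
    · simp [q, h]))
  have hli : l ≫ c = i := (yon S).map_injective (by rw [Functor.map_comp, hl, hP.lift_snd])
  haveI : IsDominant (l.left ≫ c.left) := by rw [← Over.comp_left, hli]; infer_instance
  haveI : IsDominant c.left := IsDominant.of_comp l.left c.left
  haveI : Surjective c.left :=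
    surjective_of_isDominant_of_isClosed_range _ (Scheme.Hom.isClosedEmbedding _).isClosed_range
  haveI := isIso_of_isClosedImmersion_of_surjective c.left
  haveI : IsIso ((Over.forget S).map c) := inferInstanceAs (IsIso c.left)
  haveI : IsIso c := isIso_of_reflects_iso c (Over.forget S)
  have h1 := hP.w =≫ Limits.prod.fst
  have h2 := hP.w =≫ Limits.prod.snd
  simp only [q, Category.assoc, prod.lift_fst, prod.lift_snd, Category.comp_id] at h1 h2
  rw [← cancel_epi ((yon S).map c)]
  exact h1.symm.trans h2

/-- Finite locally closed subsets of a Jacobson space are closed. -/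
theorem isClosed_of_finite_of_isLocallyClosed {X : Type*} [TopologicalSpace X] [JacobsonSpace X] {F : Set X}
    (hfin : F.Finite) (hF : IsLocallyClosed F) : IsClosed F := by
  have hC : IsClosed (F ∩ closedPoints X) := by
    rw [← (F ∩ closedPoints X).biUnion_of_singleton]
    exact (hfin.inter_of_left _).isClosed_biUnion fun x hx => hx.2
  have he : F ∩ closedPoints X = F := by
    refine Set.inter_eq_left.2 fun x hx => by_contra fun hxc => ?_
    obtain ⟨y, ⟨hy, hy'⟩, hyc⟩ := nonempty_inter_closedPoints (Z := F ∩ (F ∩ closedPoints X)ᶜ)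
      ⟨x, hx, fun h => hxc h.2⟩ (hF.inter hC.isOpen_compl.isLocallyClosed)
    exact hy' ⟨hy, hyc⟩
  exact he ▸ hC

/-- A Noetherian scheme contains a dense affine open. -/
theorem exists_dense_affineOpen (T : Scheme.{u}) [NoetherianSpace ↥T] :
    ∃ U : T.Opens, IsAffineOpen U ∧ Dense (U : Set ↥T) := by
  classical
  haveI : Finite (irreducibleComponents ↥T) := (NoetherianSpace.finite_irreducibleComponents).to_subtype
  have h : ∀ C : irreducibleComponents ↥T, ∃ V : T.Opens, IsAffineOpen V ∧ (V : Set ↥T).Nonempty ∧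
      (V : Set ↥T) ⊆ (C : Set ↥T) ∧ ∀ D : irreducibleComponents ↥T, D ≠ C → Disjoint (V : Set ↥T) D := by
    intro C
    let O : Set ↥T := (⋃ D ∈ {D : irreducibleComponents ↥T | D ≠ C}, (D : Set ↥T))ᶜ
    have hO : IsOpen O := isOpen_compl_iff.2 ((Set.toFinite _).isClosed_biUnion fun D _ =>
      isClosed_of_mem_irreducibleComponents _ D.2)
    have hOC : O ⊆ C := fun x hx => by
      obtain ⟨D, hD, hxD⟩ : ∃ D ∈ irreducibleComponents ↥T, x ∈ D :=
        ⟨irreducibleComponent x, irreducibleComponent_mem_irreducibleComponents x, mem_irreducibleComponent⟩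
      by_contra hxC
      exact hx (Set.mem_biUnion (x := ⟨D, hD⟩) (fun e => hxC ((congrArg Subtype.val e) ▸ hxD)) hxD)
    have hne : O.Nonempty := by
      by_contra hO'
      rw [Set.not_nonempty_iff_eq_empty, Set.compl_empty_iff] at hO'
      have hfin : (Subtype.val '' {D : irreducibleComponents ↥T | D ≠ C} : Set (Set ↥T)).Finite :=
        (Set.toFinite _).image _
      obtain ⟨D, hD, hCD⟩ := isIrreducible_iff_sUnion_isClosed.1 C.2.1 hfin.toFinset
        (fun D hD => by
          obtain ⟨D, -, rfl⟩ := hfin.mem_toFinset.1 hD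
          exact isClosed_of_mem_irreducibleComponents _ D.2)
        (by
          intro x _
          obtain ⟨D, hD, hxD⟩ := Set.mem_iUnion₂.1 (hO'.ge (Set.mem_univ x))
          exact ⟨D.1, hfin.mem_toFinset.2 ⟨D, hD, rfl⟩, hxD⟩)
      obtain ⟨D, hD', rfl⟩ := hfin.mem_toFinset.1 hD
      exact hD' (Subtype.ext (le_antisymm (C.2.2 D.2.1 hCD) hCD))
    obtain ⟨x, hx⟩ := hne
    obtain ⟨_, ⟨V : T.Opens, hV, rfl⟩, hxV, hVO⟩ := T.isBasis_affineOpens.exists_subset_of_mem_open hx hO
    exact ⟨V, hV, ⟨x, hxV⟩, hVO.trans hOC, fun D hD => Set.disjoint_left.2 fun y hy hyD =>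
      hVO hy (Set.mem_biUnion hD hyD)⟩
  choose V hV hne hsub hdisj using h
  refine ⟨iSup V, IsAffineOpen.iSup_of_disjoint hV fun C D hCD => ?_, fun x => ?_⟩
  · exact Opens.coe_disjoint.1 ((hdisj C D hCD.symm).mono_right (hsub D))
  · let C : irreducibleComponents ↥T :=
      ⟨irreducibleComponent x, irreducibleComponent_mem_irreducibleComponents x⟩
    have h1 : (C : Set ↥T) ⊆ closure ((C : Set ↥T) ∩ (V C : Set ↥T)) := by
      refine subset_closure_inter_of_isPreirreducible_of_isOpen C.2.1.2 (V C).2 ?_
      obtain ⟨y, hy⟩ := hne C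
      exact ⟨y, hsub C hy, hy⟩
    refine closure_mono ?_ (h1 mem_irreducibleComponent)
    exact Set.inter_subset_right.trans (by simpa using Set.subset_iUnion (fun C => (V C : Set ↥T)) C)

end Groth.Agent.CurveSchLib
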