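import Mathlib
import Groth.Agent.SepLib.LfpDense
import Groth.Agent.S4989
import Groth.Agent.S2155
import Groth.Agent.S1561

/-!
Idempotents of the generic fibre of a flat algebra with geometrically reduced fibres over a normal domain extend.
-/

set_option autoImplicit false
set_option backward.isDefEq.respectTransparency false
set_option linter.style.haveILetI false

universe u

open TensorProduct CategoryTheory CategoryTheory.Limits AlgebraicGeometry

namespace Groth.Agent.CurveSchLib

attribute [local instance] Algebra.TensorProduct.rightAlgebra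

/-- A minimal prime of a reduced algebra of finite type over a perfect field is a smooth point. -/
theorem mem_smoothLocus_of_minimal {k C : Type u} [Field k] [PerfectField k] [CommRing C] [Algebra k C]
    [Algebra.FiniteType k C] [_root_.IsReduced C] (Q : PrimeSpectrum C) (hQ : Q.asIdeal ∈ minimalPrimes C)
    [LocallyOfFinitePresentation (Spec.map (CommRingCat.ofHom (algebraMap k C)))] :
    Q ∈ (Spec.map (CommRingCat.ofHom (algebraMap k C))).smoothLocus := by
  rw [S1561.mem_iff_regular]
  let L := Localization.AtPrime Q.asIdeal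
  haveI : Subsingleton (PrimeSpectrum L) := by
    refine ⟨fun a b => ?_⟩
    have key : ∀ c : PrimeSpectrum L, (c.asIdeal.comap (algebraMap C L)) = Q.asIdeal := fun c => by
      have h1 := ((IsLocalization.AtPrime.orderIsoOfPrime L Q.asIdeal) ⟨c.asIdeal, c.2⟩).2
      exact le_antisymm h1.2 (hQ.2 ⟨h1.1, bot_le⟩ h1.2)
    refine PrimeSpectrum.ext ((IsLocalization.orderEmbedding Q.asIdeal.primeCompl L).injective ?_)
    exact (key a).trans (key b).symm
  letI := ((PrimeSpectrum.subsingleton_iff_isField_of_isReduced (R := L)).1 inferInstance).toField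
  haveI : IsRegularLocalRing L := inferInstance
  exact IsRegularLocalRing.of_ringEquiv
    (IsLocalization.algEquiv Q.asIdeal.primeCompl L ((Spec.structureSheaf C).presheaf.stalk Q)).toRingEquiv

variable {R A : Type u} [CommRing R] [CommRing A] [Algebra R A]

/-- The base change of the spectrum of an algebra to a field is cartesian. -/
theorem isPullback_spec_tensor (Ω : Type u) [CommRing Ω] [Algebra R Ω] :
    IsPullback (Spec.map (CommRingCat.ofHom (Algebra.TensorProduct.includeRight : A →ₐ[R] Ω ⊗[R] A).toRingHom))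
      (Spec.map (CommRingCat.ofHom (algebraMap Ω (Ω ⊗[R] A))))
      (Spec.map (CommRingCat.ofHom (algebraMap R A))) (Spec.map (CommRingCat.ofHom (algebraMap R Ω))) :=
  (isPullback_SpecMap_of_isPushout _ _ _ _ (CommRingCat.isPushout_tensorProduct R Ω A)).flip

/-- Solutions of `a² = r a` are divisible by `r`. -/
theorem dvd_of_sq_eq_smul [IsDomain R] [IsIntegrallyClosed R] [Module.Flat R A] [Algebra.FinitePresentation R A]
    (hred : ∀ (Ω : Type u) [Field Ω] [IsAlgClosed Ω] [Algebra R Ω], _root_.IsReduced (Ω ⊗[R] A))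
    (a : A) (r : R) (h : a * a = r • a) : ∃ b : A, a = r • b := by
  let f : Spec (CommRingCat.of A) ⟶ Spec (CommRingCat.of R) := Spec.map (CommRingCat.ofHom (algebraMap R A))
  haveI hfp : LocallyOfFinitePresentation f :=
    (HasRingHomProperty.Spec_iff (P := @LocallyOfFinitePresentation)).2
      (RingHom.finitePresentation_algebraMap.2 inferInstance)
  haveI : Flat f := (HasRingHomProperty.Spec_iff (P := @Flat)).2 (RingHom.flat_algebraMap_iff.2 inferInstance)
  -- at smooth points `a` is divisible
  have hsm : ∀ P : PrimeSpectrum A, P ∈ f.smoothLocus → ∃ c : A, c ∉ P.asIdeal ∧ ∃ b, c * a = r • b := by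
    intro P hP
    let T := (Spec.structureSheaf A).presheaf.stalk P
    haveI : IsDomain T := by
      refine ((S4989.result f P hP).2.2 ?_).1
      let p : PrimeSpectrum R := f.base P
      let e := (IsLocalization.algEquiv p.asIdeal.primeCompl (Localization.AtPrime p.asIdeal)
        ((Spec.structureSheaf R).presheaf.stalk p)).toRingEquiv
      haveI : IsDomain (Localization.AtPrime p.asIdeal) :=
        IsLocalization.isDomain_localization p.asIdeal.primeCompl_le_nonZeroDivisors
      haveI : IsIntegrallyClosed (Localization.AtPrime p.asIdeal) :=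
        isIntegrallyClosed_of_isLocalization _ p.asIdeal.primeCompl p.asIdeal.primeCompl_le_nonZeroDivisors
      exact ⟨e.symm.toMulEquiv.isDomain, IsIntegrallyClosed.of_equiv e⟩
    have h0 : algebraMap A T a * algebraMap A T (a - algebraMap R A r) = 0 := by
      rw [← map_mul, mul_sub, h, Algebra.smul_def, mul_comm a (algebraMap R A r), sub_self, map_zero]
    rcases mul_eq_zero.1 h0 with h1 | h1 <;>
      obtain ⟨⟨c, hc⟩, hc0⟩ := (IsLocalization.map_eq_zero_iff P.asIdeal.primeCompl T _).1 h1
    · exact ⟨c, hc, 0, by rw [smul_zero]; exact hc0⟩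
    · refine ⟨c, hc, c, ?_⟩
      simp only [mul_sub, sub_eq_zero] at hc0
      rw [hc0, Algebra.smul_def, mul_comm]
  -- relative schematic density of the smooth locus
  let α := {c : A // ∃ b, c * a = r • b}
  let g : α → A := Subtype.val
  have H : ∀ (p : Ideal R) [p.IsPrime] (y : (A ⊗[R] p.ResidueField) ⊗[A] A),
      (∀ i, ∃ n : ℕ, g i ^ n • y = 0) → y = 0 := by
    intro p _
    let Ω := AlgebraicClosure p.ResidueField
    rw [← SepLib.fibre_sep_iff (A := R) (R := A) g p.ResidueField Ω]
    intro y hy
    haveI := hred Ω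
    let C := Ω ⊗[R] A
    let Φ : (A ⊗[R] Ω) ⊗[A] A ≃ₗ[A] A ⊗[R] Ω := TensorProduct.rid A _
    let σ : A ⊗[R] Ω ≃ₐ[R] C := Algebra.TensorProduct.comm R A Ω
    refine Φ.map_eq_zero_iff.1 (σ.injective ?_)
    rw [map_zero]
    have hz : ∀ Q ∈ minimalPrimes C, σ (Φ y) ∈ Q := by
      intro Q hQ
      haveI : Q.IsPrime := hQ.1.1
      let q : PrimeSpectrum C := ⟨Q, inferInstance⟩
      let fΩ : Spec (CommRingCat.of C) ⟶ Spec (CommRingCat.of Ω) := Spec.map (CommRingCat.ofHom (algebraMap Ω C))
      haveI : LocallyOfFinitePresentation fΩ :=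
        MorphismProperty.of_isPullback (isPullback_spec_tensor (R := R) (A := A) Ω) hfp
      have hq : q ∈ fΩ.smoothLocus := mem_smoothLocus_of_minimal q hQ
      have h2 := (SetLike.ext_iff.1 (S2155.result f _ fΩ _ (isPullback_spec_tensor (R := R) (A := A) Ω)
        (Or.inl inferInstance)) q).1 hq
      obtain ⟨c, hc, hcb⟩ := hsm _ h2
      obtain ⟨n, hn⟩ := hy ⟨c, hcb⟩
      have h3 : σ (Φ (c ^ n • y)) = 0 := by
        rw [show c ^ n • y = 0 from hn, map_zero, map_zero]
      rw [map_smul, Algebra.smul_def, map_mul,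
        show σ (algebraMap A (A ⊗[R] Ω) (c ^ n)) = (Algebra.TensorProduct.includeRight : A →ₐ[R] C) (c ^ n) from
          Algebra.TensorProduct.comm_tmul (R := R) (c ^ n) (1 : Ω)] at h3
      refine (Ideal.IsPrime.mem_or_mem ‹Q.IsPrime› (h3 ▸ Q.zero_mem)).resolve_left fun hmem => ?_
      rw [map_pow] at hmem
      exact hc (Ideal.IsPrime.mem_of_pow_mem ‹Q.IsPrime› n hmem)
    have : σ (Φ y) ∈ sInf (minimalPrimes C) := Submodule.mem_sInf.2 hz
    rwa [show minimalPrimes C = (⊥ : Ideal C).minimalPrimes from rfl, Ideal.sInf_minimalPrimes, show (⊥ : Ideal C).radical = nilradical C from rfl, nilradical_eq_zero,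
      Ideal.zero_eq_bot, Ideal.mem_bot] at this
  let R' := R ⧸ Ideal.span {r}
  have key := SepLib.powSep_baseChange_of_fibres (A := R) (R := A) (M := A) g H R'
  have hker : (1 : A ⊗[R] R') ⊗ₜ[A] a = 0 := by
    refine key.eq_zero fun i => ⟨1, ?_⟩
    obtain ⟨b, hb⟩ := i.2
    rw [pow_one, algebraMap_smul, TensorProduct.smul_tmul', TensorProduct.smul_tmul, smul_eq_mul]
    show (1 : A ⊗[R] R') ⊗ₜ[A] (i.1 * a) = 0
    rw [hb, show r • b = (algebraMap R A r) • b from (algebraMap_smul A r b).symm, ← TensorProduct.smul_tmul]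
    have hr : (algebraMap R A r) • (1 : A ⊗[R] R') = 0 := by
      rw [Algebra.TensorProduct.one_def, TensorProduct.smul_tmul', smul_eq_mul, mul_one,
        Algebra.algebraMap_eq_smul_one r, TensorProduct.smul_tmul, Algebra.smul_def, mul_one,
        show algebraMap R R' r = 0 from Ideal.Quotient.eq_zero_iff_mem.2 (Ideal.mem_span_singleton_self r),
        TensorProduct.tmul_zero]
    rw [hr, TensorProduct.zero_tmul]
  have h1 : a ⊗ₜ[R] (1 : R') = 0 := by
    have := congrArg (TensorProduct.rid A (A ⊗[R] R')) hker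
    rw [TensorProduct.rid_tmul, map_zero, Algebra.TensorProduct.one_def, TensorProduct.smul_tmul', smul_eq_mul, mul_one] at this
    exact this
  have h2 : a ∈ (Ideal.span {r}) • (⊤ : Submodule R A) := by
    rw [← Submodule.Quotient.mk_eq_zero]
    have := congrArg (TensorProduct.tensorQuotEquivQuotSMul A (Ideal.span {r})) h1
    rwa [map_zero, show (1 : R') = Ideal.Quotient.mk _ 1 from rfl, TensorProduct.tensorQuotEquivQuotSMul_tmul_mk,
      one_smul] at this
  rw [Submodule.ideal_span_singleton_smul] at h2
  obtain ⟨b, -, rfl⟩ := Submodule.mem_smul_pointwise_iff_exists _ _ _ |>.1 h2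
  exact ⟨b, rfl⟩

end Groth.Agent.CurveSchLib
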