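import Groth.Agent.CurveSchLib.ConnGlue
import Groth.Agent.CurveSchLib.IdemExtend
import Groth.Agent.GenIrredLib.Counts
import Groth.Agent.S1339

/-!
Openness of the locus where the coequalizer of two maps has connected geometric fibres.
-/

set_option autoImplicit false
set_option backward.isDefEq.respectTransparency false
set_option linter.style.haveILetI false

universe u

open TensorProduct CategoryTheory CategoryTheory.Limits AlgebraicGeometry

namespace Groth.Agent.CurveSchLib

theorem card_connectedComponents_eq_one_iff (X : Type u) [TopologicalSpace X] :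
    ENat.card (ConnectedComponents X) = 1 ↔ ConnectedSpace X := by
  rw [le_antisymm_iff, ENat.card_le_one_iff_subsingleton, ENat.one_le_card_iff_nonempty]
  constructor
  · rintro ⟨h, hne⟩
    haveI : Nonempty X := hne.map fun c => (ConnectedComponents.surjective_coe c).choose
    haveI : PreconnectedSpace X := preconnectedSpace_iff_connectedComponent.2 fun x =>
      Set.eq_univ_of_forall fun y => ConnectedComponents.coe_eq_coe'.1 (Subsingleton.elim _ _)
    exact { toNonempty := inferInstance }
  · intro h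
    haveI := h
    exact ⟨inferInstance, ⟨ConnectedComponents.mk (Classical.arbitrary X)⟩⟩

variable {Λ Q : Type u} [CommRing Λ] [CommRing Q] [Algebra Λ Q]

/-- Connectedness over an algebraically closed field is read off the number of geometric components. -/
theorem onlyTrivialIdem_iff_nGeomConnComp (K : Type u) [Field K] [IsAlgClosed K] [Algebra Λ K]
    (p : PrimeSpectrum Λ) (hp : p.asIdeal = RingHom.ker (algebraMap Λ K)) :
    OnlyTrivialIdem (K ⊗[Λ] Q) ↔
      MoreMor.nGeomConnComp (Spec.map (CommRingCat.ofHom (algebraMap Λ Q))) p = 1 := by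
  have hsq := isPullback_spec_tensor (R := Λ) (A := Q) K
  have hz : Spec.map (CommRingCat.ofHom (algebraMap Λ K)) (IsLocalRing.closedPoint K) = p := by
    refine PrimeSpectrum.ext ?_
    show Ideal.comap (algebraMap Λ K) (IsLocalRing.maximalIdeal K) = p.asIdeal
    rw [IsLocalRing.isField_iff_maximalIdeal_eq.1 (Field.toIsField K), hp]
    rfl
  have h := congrArg Prod.snd (GenIrredLib.counts_eq_nGeom (Spec.map (CommRingCat.ofHom (algebraMap Λ Q))) K
    (Spec.map (CommRingCat.ofHom (algebraMap Λ K))) p hz)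
  rw [← GenIrredLib.counts_congr hsq.isoPullback.hom.homeomorph] at h
  have h' : ENat.card (_root_.ConnectedComponents (PrimeSpectrum (K ⊗[Λ] Q))) =
      MoreMor.nGeomConnComp (Spec.map (CommRingCat.ofHom (algebraMap Λ Q))) p := h
  rw [← connectedSpace_primeSpectrum_iff, ← h']
  exact (card_connectedComponents_eq_one_iff _).symm

variable {A C : Type u} [CommRing A] [CommRing C] [Algebra Λ A] [Algebra Λ C]

/-- An element of a generic fibre has a denominator. -/
theorem exists_smul_eq (R K : Type u) [CommRing R] [IsDomain R] [Field K] [Algebra Λ R] [Algebra Λ K] [Algebra R K]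
    [IsScalarTower Λ R K] [IsFractionRing R K] (e : K ⊗[Λ] A) :
    ∃ (r : R) (a : R ⊗[Λ] A), r ≠ 0 ∧
      Algebra.TensorProduct.map (IsScalarTower.toAlgHom Λ R K) (AlgHom.id Λ A) a = r • e := by
  induction e using TensorProduct.induction_on with
  | zero => exact ⟨1, 0, one_ne_zero, by simp⟩
  | tmul x b =>
    obtain ⟨n, d, hd, rfl⟩ := IsFractionRing.div_surjective (A := R) x
    refine ⟨d, n ⊗ₜ b, nonZeroDivisors.ne_zero hd, ?_⟩
    rw [Algebra.TensorProduct.map_tmul, TensorProduct.smul_tmul', Algebra.smul_def,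
      mul_div_cancel₀ _ (IsFractionRing.to_map_ne_zero_of_mem_nonZeroDivisors hd)]
    rfl
  | add x y hx hy =>
    obtain ⟨r, a, hr, ha⟩ := hx
    obtain ⟨r', a', hr', ha'⟩ := hy
    refine ⟨r * r', r' • a + r • a', mul_ne_zero hr hr', ?_⟩
    have hsm : ∀ (c : R) (z : R ⊗[Λ] A), Algebra.TensorProduct.map (IsScalarTower.toAlgHom Λ R K) (AlgHom.id Λ A) (c • z) =
        c • Algebra.TensorProduct.map (IsScalarTower.toAlgHom Λ R K) (AlgHom.id Λ A) z := by
      intro c z
      induction z using TensorProduct.induction_on with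
      | zero => simp
      | tmul u v => simp [TensorProduct.smul_tmul', Algebra.smul_def]
      | add u v hu hv => simp only [smul_add, map_add, hu, hv]
    rw [map_add, hsm, hsm, ha, ha', smul_smul, smul_smul, smul_add, mul_comm r' r]

theorem bcHom_natural {R R' : Type u} [CommRing R] [CommRing R'] [Algebra Λ R] [Algebra Λ R'] (φ : R →ₐ[Λ] R')
    (f : A →ₐ[Λ] C) (z : R ⊗[Λ] A) :
    bcHom R' f (Algebra.TensorProduct.map φ (AlgHom.id Λ A) z) =
      Algebra.TensorProduct.map φ (AlgHom.id Λ C) (bcHom R f z) := by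
  induction z using TensorProduct.induction_on with
  | zero => simp
  | tmul u v => simp
  | add u v hu hv => simp only [map_add, hu, hv]

/-- Over an integrally closed domain with geometrically reduced fibres, a saturated idempotent extends. -/
theorem exists_idem_extend [Module.Flat Λ A] [Module.Flat Λ C] [Algebra.FinitePresentation Λ A] (s t : A →ₐ[Λ] C)
    (R K : Type u) [CommRing R] [IsDomain R] [IsIntegrallyClosed R] [Field K] [Algebra Λ R] [Algebra Λ K] [Algebra R K]
    [IsScalarTower Λ R K] [IsFractionRing R K]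
    (hred : ∀ (Ω : Type u) [Field Ω] [IsAlgClosed Ω] [Algebra R Ω] [Algebra Λ Ω] [IsScalarTower Λ R Ω],
      _root_.IsReduced (Ω ⊗[Λ] A))
    (e : K ⊗[Λ] A) (he : IsIdempotentElem e) (hst : bcHom K s e = bcHom K t e) :
    ∃ b : R ⊗[Λ] A, IsIdempotentElem b ∧ bcHom R s b = bcHom R t b ∧
      Algebra.TensorProduct.map (IsScalarTower.toAlgHom Λ R K) (AlgHom.id Λ A) b = e := by
  let ι := IsScalarTower.toAlgHom Λ R K
  have hι : Function.Injective ι := IsFractionRing.injective R K
  have hinjA : Function.Injective (Algebra.TensorProduct.map ι (AlgHom.id Λ A)) :=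
    Module.Flat.rTensor_preserves_injective_linearMap (M := A) ι.toLinearMap hι
  have hinjC : Function.Injective (Algebra.TensorProduct.map ι (AlgHom.id Λ C)) :=
    Module.Flat.rTensor_preserves_injective_linearMap (M := C) ι.toLinearMap hι
  obtain ⟨r, a, hr, ha⟩ := exists_smul_eq R K e
  have hsmul : ∀ (c : R) (z : R ⊗[Λ] A), Algebra.TensorProduct.map ι (AlgHom.id Λ A) (c • z) =
      c • Algebra.TensorProduct.map ι (AlgHom.id Λ A) z := by
    intro c z
    induction z using TensorProduct.induction_on with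
    | zero => simp
    | tmul u v => simp [ι, TensorProduct.smul_tmul', Algebra.smul_def]
    | add u v hu hv => simp only [smul_add, map_add, hu, hv]
  have haa : a * a = r • a := hinjA (by rw [map_mul, hsmul, ha, smul_mul_smul_comm, he.eq, smul_smul])
  obtain ⟨b, hb⟩ := dvd_of_sq_eq_smul (R := R) (A := R ⊗[Λ] A) (fun Ω _ _ _ => by
    letI : Algebra Λ Ω := ((algebraMap R Ω).comp (algebraMap Λ R)).toAlgebra
    haveI : IsScalarTower Λ R Ω := IsScalarTower.of_algebraMap_eq fun _ => rfl
    haveI := hred Ω
    let σ := Algebra.TensorProduct.cancelBaseChange Λ R R Ω A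
    exact isReduced_of_injective σ σ.injective) a r haa
  have hbe : Algebra.TensorProduct.map ι (AlgHom.id Λ A) b = e := by
    have h1 : r • Algebra.TensorProduct.map ι (AlgHom.id Λ A) b = r • e := by rw [← hsmul, ← hb, ha]
    have hu : IsUnit (algebraMap R K r) := (IsUnit.mk0 _ ((map_ne_zero_iff _ hι).2 hr))
    rw [← algebraMap_smul K r, ← algebraMap_smul K r e] at h1
    exact hu.smul_left_cancel.1 h1
  refine ⟨b, hinjA ?_, hinjC ?_, hbe⟩
  · rw [map_mul, hbe, he.eq]
  · rw [← bcHom_natural, ← bcHom_natural, hbe, hst]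

/-- The locus of connected coequalizers is open inside the locus of reduced fibres, given the properness input. -/
theorem isOpen_coeqConn [Algebra.FinitePresentation Λ A] [Algebra.FinitePresentation Λ C] [Module.Flat Λ A]
    [Module.Flat Λ C] (s t : A →ₐ[Λ] C) (μ : C →ₐ[Λ] A) (hμs : μ.comp s = AlgHom.id Λ A)
    (hμt : μ.comp t = AlgHom.id Λ A) (hgen : Algebra.adjoin Λ (Set.range s ∪ Set.range t) = ⊤)
    (O : Set (PrimeSpectrum Λ)) (hO : IsOpen O)
    (hred : ∀ (Ω : Type u) [Field Ω] [IsAlgClosed Ω] [Algebra Λ Ω] (p : PrimeSpectrum Λ), p ∈ O →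
      p.asIdeal = RingHom.ker (algebraMap Λ Ω) → _root_.IsReduced (Ω ⊗[Λ] A))
    (hprop : ∀ (R : Type u) [CommRing R] [IsDomain R] [IsLocalRing R] [Algebra Λ R] (k : Type u) [Field k] [Algebra Λ k]
      (ψ : R →ₐ[Λ] k), RingHom.ker ψ = IsLocalRing.maximalIdeal R → ∀ e : R ⊗[Λ] A, IsIdempotentElem e →
      bcHom R s e = bcHom R t e → Algebra.TensorProduct.map ψ (AlgHom.id Λ A) e = 0 → e = 0) :
    IsOpen {p : PrimeSpectrum Λ | p ∈ O ∧ ∀ (K : Type u) [Field K] [IsAlgClosed K] [Algebra Λ K],
      p.asIdeal = RingHom.ker (algebraMap Λ K) → CoeqConn s t K} := by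
  obtain ⟨Q, _, _, hQ, hconn⟩ := exists_glue s t μ hμs hμt hgen
  let f := Spec.map (CommRingCat.ofHom (algebraMap Λ Q))
  haveI : LocallyOfFinitePresentation f :=
    (HasRingHomProperty.Spec_iff (P := @LocallyOfFinitePresentation)).2
      (RingHom.finitePresentation_algebraMap.2 hQ)
  let c : Set (PrimeSpectrum Λ) := {p | MoreMor.nGeomConnComp f p = 1}
  have hc : Topology.IsConstructible c := (S1339.result f 1).isConstructible
  have hset : ∀ p, (p ∈ O ∧ ∀ (K : Type u) [Field K] [IsAlgClosed K] [Algebra Λ K],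
      p.asIdeal = RingHom.ker (algebraMap Λ K) → CoeqConn s t K) ↔ p ∈ O ∧ p ∈ c := by
    intro p
    refine and_congr_right fun _ => ⟨fun h => ?_, fun h K _ _ _ hp => ?_⟩
    · have hp : p.asIdeal = RingHom.ker (algebraMap Λ (AlgebraicClosure p.asIdeal.ResidueField)) := by
        rw [IsScalarTower.algebraMap_eq Λ p.asIdeal.ResidueField, RingHom.ker_comp_of_injective _
          (algebraMap p.asIdeal.ResidueField _).injective, Ideal.ker_algebraMap_residueField]
      exact (onlyTrivialIdem_iff_nGeomConnComp _ p hp).1 ((hconn _).2 (h _ hp))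
    · exact (hconn _).1 ((onlyTrivialIdem_iff_nGeomConnComp K p hp).2 h)
  -- stability under generalisation
  have hgenst : ∀ η p : PrimeSpectrum Λ, η ≤ p → p ∈ O → η ∈ O → p ∈ c → η ∈ c := by
    intro η p hle hpO hηO hpc
    let K := AlgebraicClosure η.asIdeal.ResidueField
    have hη : η.asIdeal = RingHom.ker (algebraMap Λ K) := by
      rw [IsScalarTower.algebraMap_eq Λ η.asIdeal.ResidueField, RingHom.ker_comp_of_injective _
        (algebraMap η.asIdeal.ResidueField _).injective, Ideal.ker_algebraMap_residueField]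
    have hu : ∀ y : p.asIdeal.primeCompl, IsUnit (algebraMap Λ K y) := fun y =>
      IsUnit.mk0 _ fun h0 => y.2 (hle (hη.ge h0))
    let φ : Localization.AtPrime p.asIdeal →+* K := IsLocalization.lift hu
    obtain ⟨V, hV, hloc⟩ := IsLocalRing.exists_factor_valuationRing φ
    let ψ₀ : Localization.AtPrime p.asIdeal →+* V := φ.codRestrict V.toSubring hV
    letI : Algebra Λ V := (ψ₀.comp (algebraMap Λ _)).toAlgebra
    haveI : IsScalarTower Λ V K := IsScalarTower.of_algebraMap_eq fun x => (IsLocalization.lift_eq hu x).symm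
    haveI : IsLocalHom ψ₀ := hloc
    -- primes of `V` lie over generalisations of `p`
    have hunder : ∀ x : Λ, x ∉ p.asIdeal → IsUnit (algebraMap Λ V x) := fun x hx =>
      (IsLocalization.map_units (Localization.AtPrime p.asIdeal) (⟨x, hx⟩ : p.asIdeal.primeCompl)).map ψ₀
    let k := AlgebraicClosure (IsLocalRing.ResidueField V)
    let ψ : V →ₐ[Λ] k := IsScalarTower.toAlgHom Λ V k
    have hψ : RingHom.ker ψ = IsLocalRing.maximalIdeal V := by
      show RingHom.ker (algebraMap V k) = _
      rw [IsScalarTower.algebraMap_eq V (IsLocalRing.ResidueField V), RingHom.ker_comp_of_injective _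
        (algebraMap (IsLocalRing.ResidueField V) k).injective, IsLocalRing.ResidueField.algebraMap_eq,
        IsLocalRing.ker_residue]
    have hpk : p.asIdeal = RingHom.ker (algebraMap Λ k) := by
      ext x
      rw [RingHom.mem_ker, IsScalarTower.algebraMap_apply Λ V k, ← RingHom.mem_ker]
      rw [show RingHom.ker (algebraMap V k) = IsLocalRing.maximalIdeal V from hψ]
      refine ⟨fun hx => ?_, fun hx => by_contra fun h => (IsLocalRing.mem_maximalIdeal _).1 hx (hunder x h)⟩
      rw [IsLocalRing.mem_maximalIdeal, mem_nonunits_iff]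
      intro hxu
      exact (IsLocalization.AtPrime.isUnit_to_map_iff (Localization.AtPrime p.asIdeal) p.asIdeal x).1
        (isUnit_of_map_unit ψ₀ _ hxu) hx
    have hk : CoeqConn s t k := (hconn _).1 ((onlyTrivialIdem_iff_nGeomConnComp k p hpk).2 hpc)
    refine (onlyTrivialIdem_iff_nGeomConnComp K η hη).1 ((hconn _).2 ⟨?_, fun e he hst => ?_⟩)
    · by_contra hA
      rw [not_nontrivial_iff_subsingleton] at hA
      haveI := hk.1
      have h10 : (1 : V ⊗[Λ] A) = 0 :=
        Module.Flat.rTensor_preserves_injective_linearMap (M := A) (IsScalarTower.toAlgHom Λ V K).toLinearMap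
          (IsFractionRing.injective V K) (Subsingleton.elim _ _)
      exact one_ne_zero (α := k ⊗[Λ] A)
        (by rw [← map_one (Algebra.TensorProduct.map ψ (AlgHom.id Λ A)), h10, map_zero])
    obtain ⟨b, hb, hbst, hbe⟩ := exists_idem_extend s t V K (fun Ω _ _ _ _ _ => by
      let q : PrimeSpectrum Λ := ⟨RingHom.ker (algebraMap Λ Ω), RingHom.ker_isPrime _⟩
      refine hred Ω q (hO.stableUnderGeneralization ((PrimeSpectrum.le_iff_specializes q p).1 ?_) hpO) rfl
      intro x hx
      by_contra hxp
      have := (hunder x hxp).map (algebraMap V Ω)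
      rw [← IsScalarTower.algebraMap_apply, show algebraMap Λ Ω x = 0 from hx] at this
      exact not_isUnit_zero this) e he hst
    have hbk : bcHom k s (Algebra.TensorProduct.map ψ (AlgHom.id Λ A) b) =
        bcHom k t (Algebra.TensorProduct.map ψ (AlgHom.id Λ A) b) := by
      rw [bcHom_natural, bcHom_natural, hbst]
    rcases hk.2 _ (hb.map _) hbk with h0 | h0
    · left
      rw [← hbe, hprop V k ψ hψ b hb hbst h0, map_zero]
    · right
      have h1 : (1 : V ⊗[Λ] A) - b = 0 := hprop V k ψ hψ _ hb.one_sub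
        (by rw [map_sub, map_sub, map_one, map_one, hbst]) (by rw [map_sub, map_one, h0, sub_self])
      rw [← hbe, ← sub_eq_zero.1 h1, map_one]
  rw [show {p : PrimeSpectrum Λ | p ∈ O ∧ ∀ (K : Type u) [Field K] [IsAlgClosed K] [Algebra Λ K],
      p.asIdeal = RingHom.ker (algebraMap Λ K) → CoeqConn s t K} = O ∩ c from Set.ext hset]
  refine isOpen_iff_forall_mem_open.2 fun p hp => ?_
  obtain ⟨_, ⟨g, rfl⟩, hpg, hgO⟩ := PrimeSpectrum.isTopologicalBasis_basic_opens.exists_subset_of_mem_open hp.1 hO
  refine ⟨(PrimeSpectrum.basicOpen g : Set (PrimeSpectrum Λ)) ∩ c,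
    Set.inter_subset_inter_left _ hgO, ?_, hpg, hp.2⟩
  refine PrimeSpectrum.isOpen_of_stableUnderGeneralization_of_isConstructible ?_
    (PrimeSpectrum.isConstructible_basicOpen.inter hc)
  intro x y hxy hx
  have hy : y ∈ (PrimeSpectrum.basicOpen g : Set (PrimeSpectrum Λ)) :=
    (PrimeSpectrum.basicOpen g).2.stableUnderGeneralization hxy hx.1
  exact ⟨hy, hgenst y x ((PrimeSpectrum.le_iff_specializes y x).2 hxy) (hgO hx.1) (hgO hy) hx.2⟩

end Groth.Agent.CurveSchLib
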