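import Groth.Agent.CurveSchLib.GeomFibre
import Groth.Agent.CurvLocLib.SmoothSpace
import Groth.Agent.CurvLocLib.GeomFibScheme
import Groth.Agent.ASp.LqfLocus
import Groth.Agent.ASp.RedSub

/-!
The locus of the base over which the geometric fibres of a family of curves have finite non-smooth locus is open.
-/

set_option autoImplicit false
set_option backward.isDefEq.respectTransparency false
set_option backward.isDefEq.respectTransparency.types false
set_option linter.style.haveILetI false

universe u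

open CategoryTheory CategoryTheory.Limits AlgebraicGeometry

namespace Groth.Agent.CurveSchLib

open _root_.AlgSp Groth.Agent.ASp

variable {S : Scheme.{u}} {n : ℕ}

/-- The fibre predicate: finitely many non-smooth points. -/
abbrev NsP : FibPred.{u} := fun _ _ _ X' q =>
  Set.Finite {x : ↥X' | ¬ ∃ U : X'.Opens, x ∈ U ∧ Smooth (U.ι ≫ q)}

theorem invExt_nonsmooth : InvExt NsP.{u} := by
  intro Ω _ _ Ω' _ _ σ X' q X'' q' π hq hπ
  haveI := hq
  exact (CurvLocLib.finite_nonsmooth_iff (p := q) hπ).symm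

/-- Over a field a closed subscheme of a quasi-compact scheme is finite iff quasi-finite at all points. -/
theorem finite_iff_forall_quasiFiniteAt {k : Type u} [Field k] {W : Scheme.{u}} (g : W ⟶ Spec (CommRingCat.of k))
    [LocallyOfFiniteType g] [CompactSpace ↥W] :
    Finite ↥W ↔ ∀ w, g.QuasiFiniteAt w := by
  haveI : QuasiCompact g := CurveSchLib.quasiCompact_of_affine g
  constructor
  · intro h w
    haveI : LocallyQuasiFinite g := LocallyQuasiFinite.of_finite_preimage_singleton g fun y => Set.toFinite _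
    exact Scheme.Hom.quasiFiniteAt g w
  · intro h
    haveI := locallyQuasiFinite_of_forall_quasiFiniteAt g h
    haveI : Subsingleton ↥(Spec (CommRingCat.of k)) := inferInstanceAs (Subsingleton (PrimeSpectrum k))
    have := g.finite_preimage_singleton (IsLocalRing.closedPoint k)
    rw [show g ⁻¹' {IsLocalRing.closedPoint k} = Set.univ from
      Set.eq_univ_of_forall fun w => Subsingleton.elim _ _] at this
    exact Set.finite_univ_iff.1 this

theorem quasiFiniteAt_iff_isQfNbhd {U V : Over S} (h : U ⟶ V) [LocallyOfFiniteType h.left] (u : ↥U.left)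
    (hl : LocP @LocallyOfFiniteType ((yon S).map h)) :
    IsQfNbhd ((yon S).map h) (Points.ofPt (𝟙 ((yon S).obj U)) u) ↔ h.left.QuasiFiniteAt u :=
  isQfNbhd_iff_of_chart (X := ⟨_, IsAlgSpace.yon_obj U⟩) (Y := ⟨_, IsAlgSpace.yon_obj V⟩)
    (f := ObjectProperty.homMk ((yon S).map h)) hl (repWith_id _ _) (repWith_id _ _)
    ((Category.id_comp _).trans (Category.comp_id _).symm) u

theorem isClosedMor_of_isProperMor {F G : Sp S} (hG : IsAlgSpace G) {f : F ⟶ G} (h : IsProperMor f) :
    IsClosedMor f :=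
  h.2.2 hG (𝟙 _) (𝟙 _) f (IsPullback.of_horiz_isIso ⟨by simp⟩)

/-- The locus of geometric fibres with finite non-smooth locus is open. -/
theorem isOpen_allAt_nonsmooth {A : CurvSt.SpFamObj S n} (hA : CurvSt.IsCurveFam A) :
    IsOpen {s | AllAt A NsP s} := by
  obtain ⟨hX, hfl, hprop, hfp, hdim⟩ := hA
  have hB := IsAlgSpace.yon_obj (S := S) A.base
  let Bad : Set (Points A.X) := {x | ¬ LocPNear @Smooth A.f x}
  have hBad : IsClosed Bad := by
    obtain ⟨U, V, a, b, k, ha, has, hb, -, e⟩ := Groth.Agent.Inf.exists_chart (f := A.f) hX hB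
    haveI : LocallyOfFinitePresentation k.left := hfp.1 a b k ha hb e
    rw [← isOpen_compl_iff, Groth.Agent.ASp.isOpen_iff_chart ha has]
    convert k.left.smoothLocus.2 using 1
    ext u
    simp only [Set.mem_preimage, Set.mem_compl_iff, Bad, Set.mem_setOf_eq, not_not]
    rw [EtW.locPNear_iff_of_chart hX ha hb e, FlatLocus.exists_smooth_nhd_iff]
    rfl
  obtain ⟨Z, i, hZ, hi⟩ := exists_redInduced hX hBad
  have hci := hi.1
  have hrange : Set.range (Points.map i) = Bad := hi.2.1
  let g : Z ⟶ (yon S).obj A.base := i ≫ A.f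
  have hlft : LocP @LocallyOfFiniteType g :=
    locP_comp hX (locP_of_repWith (repWith_mono (fun _ _ h (hh : IsClosedImmersion h) =>
      (inferInstance : LocallyOfFiniteType h)) hci)) hprop.2.1.1
  let Zs : Space S := ⟨Z, hZ⟩
  let Ys : Space S := ⟨(yon S).obj A.base, hB⟩
  let gs : Zs ⟶ Ys := ObjectProperty.homMk g
  let Q : Set (Points Z) := {z | IsQfNbhd g z}
  have hQ : IsOpen Q := by
    obtain ⟨U, V, a, b, k, ha, has, hb, -, e⟩ := Groth.Agent.Inf.exists_chart (f := g) hZ hB
    haveI : LocallyOfFiniteType k.left := hlft a b k ha hb e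
    rw [isOpen_iff_chart ha has]
    convert k.left.isOpen_quasiFiniteAt using 1
    exact Set.ext fun u => isQfNbhd_iff_of_chart (f := gs) hlft ha hb e u
  have hcl : IsClosed (Points.map A.f '' (Points.map i '' Qᶜ)) :=
    isClosedMor_of_isProperMor hB hprop _
      (isClosedMor_of_isProperMor hX (isProperMor_of_repWith (repWith_mono (fun _ _ h (hh : IsClosedImmersion h) =>
        (inferInstance : IsProper h)) hci)) _ hQ.isClosed_compl)
  let e := Points.schemeHomeo A.base
  suffices key : ∀ s, AllAt A NsP s ↔ ∀ z, Points.map A.f (Points.map i z) = e s → z ∈ Q by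
    convert (hcl.preimage e.continuous).isOpen_compl using 1
    ext s
    rw [Set.mem_setOf_eq, key]
    exact ⟨fun h => by rintro ⟨_, ⟨z, hz, rfl⟩, hzs⟩; exact hz (h z hzs),
      fun h z hzs => by_contra fun hz => h ⟨_, ⟨z, hz, rfl⟩, hzs⟩⟩
  intro s
  -- for one geometric point
  suffices key : ∀ (Ω : Type u) [Field Ω] [IsAlgClosed Ω] (t : Spec (CommRingCat.of Ω) ⟶ A.base.left),
      t (IsLocalRing.closedPoint Ω) = s → ∀ (X' : Scheme.{u}) (q : X' ⟶ Spec (CommRingCat.of Ω))
      (j : (yon S).obj (A.ptOver (q ≫ t)) ⟶ A.X),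
      IsPullback j ((yon S).map (A.fibHom t q)) A.f ((yon S).map (A.ptHom t)) →
      (NsP Ω X' q ↔ ∀ z, Points.map A.f (Points.map i z) = e s → z ∈ Q) by
    refine ⟨fun h => ?_, fun h Ω _ _ t ht X' q j hj => (key Ω t ht X' q j hj).2 h⟩
    let L := AlgebraicClosure ↥(A.base.left.residueField s)
    let t : Spec (CommRingCat.of L) ⟶ A.base.left :=
      Spec.map (CommRingCat.ofHom (algebraMap ↥(A.base.left.residueField s) L)) ≫ A.base.left.fromSpecResidueField s
    obtain ⟨X', q, j, hj⟩ := exists_geomFibre ⟨hX, hfl, hprop, hfp, hdim⟩ L t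
    have ht : t (IsLocalRing.closedPoint L) = s := by
      rw [Scheme.Hom.comp_apply]
      exact Scheme.fromSpecResidueField_apply _ _
    exact (key L t ht X' q j hj).1 (h L t ht X' q j hj)
  intro Ω _ _ t ht X' q j hj
  have hXf := IsAlgSpace.yon_obj (S := S) (A.ptOver (q ≫ t))
  have hTf := IsAlgSpace.yon_obj (S := S) (A.ptOver t)
  haveI hq : LocallyOfFinitePresentation q :=
    locP_of_isPullback (P := @LocallyOfFinitePresentation) hj.flip hX hB hTf hfp.1 (𝟙 _) (𝟙 _) (A.fibHom t q)
      (repWith_id _ _) (repWith_id _ _) ((Category.id_comp _).trans (Category.comp_id _).symm)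
  haveI : CompactSpace ↥(A.ptOver t).left := inferInstanceAs (CompactSpace (PrimeSpectrum Ω))
  haveI : CompactSpace ↥X' := by
    have hp := proper_baseChange hX hB hTf hj hprop
    have hqc : IsQuasiCompactSp ((yon S).obj (A.ptOver (q ≫ t))) :=
      hp.2.1.2 hTf (isQuasiCompactSp_yon _) (𝟙 _) (𝟙 _) ((yon S).map (A.fibHom t q))
        (IsPullback.of_horiz_isIso ⟨by simp⟩)
    haveI := compactSpace_of_isQuasiCompactSp hqc
    exact (Points.schemeHomeo (A.ptOver (q ≫ t))).symm.compactSpace
  -- the pulled back closed subscheme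
  obtain ⟨W, a, c, hW⟩ : ∃ (W : Over S) (a : (yon S).obj W ⟶ Z) (c : W ⟶ A.ptOver (q ≫ t)),
      IsPullback a ((yon S).map c) i j := ⟨_, hci.1.fst j, hci.1.snd j, hci.1.isPullback j⟩
  haveI : IsClosedImmersion c.left := hci.2 j _ c hW
  have hbad : ∀ x : ↥X', (¬ ∃ U : X'.Opens, x ∈ U ∧ Smooth (U.ι ≫ q)) ↔ Points.ofPt j x ∈ Bad := by
    intro x
    have h1 := CurvLocLib.locPNear_smooth_baseChange_iff hX hB hfl hfp.1 hXf hTf hj (Points.ofPt (𝟙 _) x)
    rw [EtW.locPNear_iff_of_chart hXf (repWith_id _ _) (repWith_id _ _)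
      ((Category.id_comp _).trans (Category.comp_id _).symm) x, Points.map_ofPt, Category.id_comp] at h1
    exact not_congr h1
  have hrc : Set.range c.left = {x : ↥X' | ¬ ∃ U : X'.Opens, x ∈ U ∧ Smooth (U.ι ≫ q)} := by
    ext x
    refine Iff.trans ?_ (hbad x).symm
    rw [← hrange]
    constructor
    · rintro ⟨w, rfl⟩
      refine ⟨Points.ofPt a w, ?_⟩
      rw [Points.map_ofPt, hW.w, ofPt_yon_map_comp]
    · rintro ⟨z, hz⟩
      obtain ⟨w, -, hw⟩ := points_exists_of_isPullback hW z (Points.ofScheme _ x)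
        (by rw [hz, Points.ofPt_eq_map_ofScheme])
      obtain ⟨w, rfl⟩ := (Points.schemeHomeo W).surjective w
      rw [Points.map_yon_map_apply] at hw
      exact ⟨w, (Points.schemeHomeo _).injective hw⟩
  haveI : CompactSpace ↥(A.ptOver (q ≫ t)).left := ‹CompactSpace ↥X'›
  haveI : CompactSpace ↥W.left := c.left.isClosedEmbedding.compactSpace
  haveI : LocallyOfFiniteType (c ≫ A.fibHom t q).left := by
    show LocallyOfFiniteType (c.left ≫ q)
    infer_instance
  have hNs : NsP Ω X' q ↔ ∀ w, (c ≫ A.fibHom t q).left.QuasiFiniteAt w := by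
    refine Iff.trans ?_ (finite_iff_forall_quasiFiniteAt (k := Ω) (c ≫ A.fibHom t q).left)
    show Set.Finite _ ↔ _
    rw [← hrc]
    exact ⟨fun h => @Finite.of_injective _ _ h.to_subtype (Set.rangeFactorization c.left) fun w w' hh =>
      c.left.isClosedEmbedding.injective (congrArg Subtype.val hh), fun h => Set.finite_range _⟩
  have hsq : IsPullback a ((yon S).map (c ≫ A.fibHom t q)) g ((yon S).map (A.ptHom t)) := by
    rw [Functor.map_comp]
    exact hW.paste_vert hj
  have hbc : ∀ w, (c ≫ A.fibHom t q).left.QuasiFiniteAt w ↔ Points.ofPt a w ∈ Q := by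
    intro w
    have h := isQfNbhd_baseChange_iff (X' := ⟨_, IsAlgSpace.yon_obj W⟩) (Y' := ⟨_, hTf⟩) (f := gs) hlft
      (g := ObjectProperty.homMk ((yon S).map (A.ptHom t))) (p := ObjectProperty.homMk a)
      (f' := ObjectProperty.homMk ((yon S).map (c ≫ A.fibHom t q))) hsq (Points.ofPt (𝟙 _) w)
    rw [← quasiFiniteAt_iff_isQfNbhd (c ≫ A.fibHom t q) w (locP_of_isPullback hsq.flip hZ hB hTf hlft)]
    refine h.trans ?_
    show IsQfNbhd g (Points.map a _) ↔ _
    rw [Points.map_ofPt, Category.id_comp]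
    rfl
  rw [hNs, forall_congr' hbc]
  let pt : ↥(A.ptOver t).left := IsLocalRing.closedPoint Ω
  have hpt : Points.map ((yon S).map (A.ptHom t)) (Points.ofScheme (A.ptOver t) pt) = e s := by
    rw [show Points.ofScheme (A.ptOver t) pt = Points.schemeHomeo (A.ptOver t) pt from rfl,
      Points.map_yon_map_apply]
    exact congrArg e ht
  constructor
  · intro h z hz
    obtain ⟨w, hw, -⟩ := points_exists_of_isPullback hsq z (Points.ofScheme (A.ptOver t) pt)
      (by rw [hpt, ← hz, ← Points.map_comp])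
    obtain ⟨w, rfl⟩ := (Points.schemeHomeo W).surjective w
    have := h w
    rwa [Points.ofPt_eq_map_ofScheme, ← show Points.schemeHomeo W w = Points.ofScheme W w from rfl, hw] at this
  · intro h w
    refine h _ ?_
    haveI : Subsingleton ↥(A.ptOver t).left := inferInstanceAs (Subsingleton (PrimeSpectrum Ω))
    rw [← Points.map_comp, Points.map_ofPt, hsq.w, ofPt_yon_map_comp, Points.ofPt_eq_map_ofScheme,
      Subsingleton.elim ((c ≫ A.fibHom t q).left w) pt]
    exact hpt

end Groth.Agent.CurveSchLib
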