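import Groth.Agent.CurveSchLib.Reduced
import Groth.Agent.CurveSchLib.Nonsmooth
import Groth.Agent.CurveSchLib.ConnLocus
import Groth.Agent.ASp.SchDenseImage

/-!
Affine charts of a family of curves and connectedness of its geometric fibres.
-/

set_option autoImplicit false
set_option backward.isDefEq.respectTransparency false
set_option backward.isDefEq.respectTransparency.types false
set_option linter.style.haveILetI false

universe u

open CategoryTheory CategoryTheory.Limits AlgebraicGeometry TensorProduct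

namespace Groth.Agent.CurveSchLib

open _root_.AlgSp Groth.Agent.ASp

/-- The diagonal pulled back to the product of a chart with itself. -/
theorem isPullback_diagonal_of_chart {C : Type*} [Category C] {X Y U R P : C} {f : X ⟶ Y} [HasPullback f f]
    {a : U ⟶ X} {r1 r2 : R ⟶ U} (sq : IsPullback r1 r2 a a) {p1 p2 : P ⟶ U}
    (hP : IsPullback p1 p2 (a ≫ f) (a ≫ f)) (δ : R ⟶ P) (h1 : δ ≫ p1 = r1) (h2 : δ ≫ p2 = r2)
    (c : P ⟶ pullback f f) (c1 : c ≫ pullback.fst f f = p1 ≫ a) (c2 : c ≫ pullback.snd f f = p2 ≫ a) :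
    IsPullback (r1 ≫ a) δ (pullback.diagonal f) c := by
  have w : (r1 ≫ a) ≫ pullback.diagonal f = δ ≫ c := by
    refine pullback.hom_ext ?_ ?_
    · simp [c1, reassoc_of% h1]
    · simp [c2, reassoc_of% h2, sq.w]
  have key : ∀ (z : PullbackCone (pullback.diagonal f) c), (z.snd ≫ p1) ≫ a = z.fst ∧ (z.snd ≫ p2) ≫ a = z.fst := by
    intro z
    have e1 := z.condition =≫ pullback.fst f f
    have e2 := z.condition =≫ pullback.snd f f
    simp only [Category.assoc, pullback.diagonal_fst, pullback.diagonal_snd, Category.comp_id, c1, c2] at e1 e2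
    simp only [Category.assoc]
    exact ⟨e1.symm, e2.symm⟩
  refine IsPullback.of_isLimit' ⟨w⟩ (PullbackCone.IsLimit.mk w
    (fun z => sq.lift (z.snd ≫ p1) (z.snd ≫ p2) ((key z).1.trans (key z).2.symm)) ?_ ?_ ?_)
  · intro z
    rw [sq.lift_fst_assoc]
    exact (key z).1
  · intro z
    refine hP.hom_ext ?_ ?_
    · rw [Category.assoc, h1, sq.lift_fst]
    · rw [Category.assoc, h2, sq.lift_snd]
  · intro z m hm1 hm2
    refine sq.hom_ext ?_ ?_
    · rw [sq.lift_fst, ← hm2, Category.assoc, h1]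
    · rw [sq.lift_snd, ← hm2, Category.assoc, h2]

variable {S : Scheme.{u}} {Λ : Type u} [CommRing Λ] (b : Spec (CommRingCat.of Λ) ⟶ S)

/-- The object over `S` of an algebra over an affine base. -/
noncomputable abbrev sObj (D : Type u) [CommRing D] [Algebra Λ D] : Over S :=
  Over.mk (Spec.map (CommRingCat.ofHom (algebraMap Λ D)) ≫ b)

/-- The structure morphism. -/
noncomputable abbrev sStr (D : Type u) [CommRing D] [Algebra Λ D] : sObj b D ⟶ Over.mk b :=
  Over.homMk (Spec.map (CommRingCat.ofHom (algebraMap Λ D))) rfl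

variable {D D' : Type u} [CommRing D] [CommRing D'] [Algebra Λ D] [Algebra Λ D']

/-- The morphism of an algebra map. -/
noncomputable def sHom (g : D →ₐ[Λ] D') : sObj b D' ⟶ sObj b D :=
  Over.homMk (Spec.map (CommRingCat.ofHom g.toRingHom)) (by
    show Spec.map _ ≫ Spec.map _ ≫ b = _
    rw [← Category.assoc, ← Spec.map_comp, ← CommRingCat.ofHom_comp, show g.toRingHom.comp (algebraMap Λ D) = algebraMap Λ D' from RingHom.ext g.commutes]
    rfl)

theorem sHom_left (g : D →ₐ[Λ] D') : (sHom b g).left = Spec.map (CommRingCat.ofHom g.toRingHom) := rfl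

theorem sHom_sStr (g : D →ₐ[Λ] D') : sHom b g ≫ sStr b D = sStr b D' := by
  refine Over.OverMorphism.ext ?_
  show Spec.map _ ≫ Spec.map _ = _
  rw [← Spec.map_comp, ← CommRingCat.ofHom_comp, show g.toRingHom.comp (algebraMap Λ D) = algebraMap Λ D' from RingHom.ext g.commutes]
  rfl

theorem sHom_comp {D'' : Type u} [CommRing D''] [Algebra Λ D''] (g : D →ₐ[Λ] D') (h : D' →ₐ[Λ] D'') :
    sHom b (h.comp g) = sHom b h ≫ sHom b g := by
  refine Over.OverMorphism.ext ?_
  show Spec.map _ = Spec.map _ ≫ Spec.map _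
  rw [← Spec.map_comp]
  rfl

theorem exists_sHom (k : sObj b D' ⟶ sObj b D) (h : k ≫ sStr b D = sStr b D') :
    ∃ g : D →ₐ[Λ] D', sHom b g = k := by
  obtain ⟨φ, hφ⟩ := Spec.map_surjective k.left
  have h' : Spec.map φ ≫ Spec.map (CommRingCat.ofHom (algebraMap Λ D)) = Spec.map (CommRingCat.ofHom (algebraMap Λ D')) := by
    rw [hφ]; exact congrArg CommaMorphism.left h
  rw [← Spec.map_comp] at h'
  let g : D →ₐ[Λ] D' := { φ.hom with commutes' := fun c => congrArg (fun e => e.hom c) (Spec.map_injective h') }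
  exact ⟨g, Over.OverMorphism.ext hφ⟩

theorem isPullback_sHom_tensor (R : Type u) [CommRing R] [Algebra Λ R] :
    IsPullback (sHom b (Algebra.TensorProduct.includeRight : D →ₐ[Λ] R ⊗[Λ] D))
      (sHom b (Algebra.TensorProduct.includeLeft : R →ₐ[Λ] R ⊗[Λ] D)) (sStr b D) (sStr b R) := by
  refine IsPullback.of_map (Over.forget S) ?_ (isPullback_spec_tensor (R := Λ) (A := D) R)
  rw [sHom_sStr, sHom_sStr]

theorem isPullback_bcHom (R : Type u) [CommRing R] [Algebra Λ R] (g : D →ₐ[Λ] D') :
    IsPullback (sHom b (Algebra.TensorProduct.includeRight : D' →ₐ[Λ] R ⊗[Λ] D')) (sHom b (bcHom R g))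
      (sHom b g) (sHom b (Algebra.TensorProduct.includeRight : D →ₐ[Λ] R ⊗[Λ] D)) := by
  refine IsPullback.of_bot ?_ ?_ (isPullback_sHom_tensor b (D := D) R)
  · rw [sHom_sStr, ← sHom_comp]
    convert isPullback_sHom_tensor b (D := D') R using 2
    ext x
    simp [bcHom]
  · rw [← sHom_comp, ← sHom_comp]
    congr 1

/-- An affine chart of a space over an affine base, with its relation. -/
structure AffChart (F : Sp S) (fF : F ⟶ (yon S).obj (Over.mk b)) where
  /-- the coordinate ring of the chart -/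
  A : Type u
  /-- the coordinate ring of the relation -/
  C : Type u
  [ringA : CommRing A]
  [ringC : CommRing C]
  [algA : Algebra Λ A]
  [algC : Algebra Λ C]
  /-- the first projection -/
  s : A →ₐ[Λ] C
  /-- the second projection -/
  t : A →ₐ[Λ] C
  /-- the diagonal -/
  μ : C →ₐ[Λ] A
  hμs : μ.comp s = AlgHom.id Λ A
  hμt : μ.comp t = AlgHom.id Λ A
  hgen : Algebra.adjoin Λ (Set.range s ∪ Set.range t) = ⊤
  fpA : Algebra.FinitePresentation Λ A
  fpC : Algebra.FinitePresentation Λ C
  flatA : Module.Flat Λ A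
  flatC : Module.Flat Λ C
  /-- the chart -/
  a : (yon S).obj (sObj b A) ⟶ F
  ha : RepWith @Etale a
  has : RepWith @Surjective a
  ha' : a ≫ fF = (yon S).map (sStr b A)
  sq : IsPullback ((yon S).map (sHom b s)) ((yon S).map (sHom b t)) a a

attribute [instance] AffChart.ringA AffChart.ringC AffChart.algA AffChart.algC

/-- An affine scheme over the base is the spectrum of an algebra. -/
theorem exists_sObj_iso (U : Over S) [IsAffine U.left] (m : U ⟶ Over.mk b) :
    ∃ (D : Type u) (_ : CommRing D) (_ : Algebra Λ D) (e : sObj b D ≅ U), e.hom ≫ m = sStr b D := by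
  obtain ⟨φ, hφ⟩ := Spec.map_surjective (U.left.isoSpec.inv ≫ m.left)
  letI := φ.hom.toAlgebra
  refine ⟨Γ(U.left, ⊤), inferInstance, φ.hom.toAlgebra, Over.isoMk U.left.isoSpec.symm ?_, Over.OverMorphism.ext hφ.symm⟩
  show U.left.isoSpec.inv ≫ U.hom = Spec.map φ ≫ b
  rw [hφ, Category.assoc]
  exact congrArg (U.left.isoSpec.inv ≫ ·) (Over.w m).symm

/-- A separated finitely presented flat space over an affine base has an affine chart with affine relation. -/
theorem nonempty_affChart {F : Sp S} (hF : IsAlgSpace F) (fF : F ⟶ (yon S).obj (Over.mk b)) (hsep : IsSeparatedMor fF)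
    (hqc : IsQuasiCompactSp F) (hfl : LocP @Flat fF) (hfp : LocP @LocallyOfFinitePresentation fF) :
    Nonempty (AffChart b F fF) := by
  haveI := compactSpace_of_isQuasiCompactSp hqc
  obtain ⟨U, a₀, hUa, ha₀, has₀⟩ := exists_affine_chart hF
  haveI := hUa
  obtain ⟨m, hm⟩ := (yon S).map_surjective (a₀ ≫ fF)
  obtain ⟨A, iA, jA, e, he⟩ := exists_sObj_iso b U m
  haveI : IsIso e.hom.left := ((Over.forget S).mapIso e).isIso_hom
  obtain ⟨a, ha, has, ha'⟩ : ∃ a : (yon S).obj (sObj b A) ⟶ F, RepWith @Etale a ∧ RepWith @Surjective a ∧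
      a ≫ fF = (yon S).map (sStr b A) :=
    ⟨(yon S).map e.hom ≫ a₀,
      repWith_comp (repWith_yon_map (inferInstanceAs (Etale e.hom.left))) ha₀,
      repWith_comp (repWith_yon_map (inferInstanceAs (Surjective e.hom.left))) has₀,
      by rw [Category.assoc, ← hm, ← Functor.map_comp, he]⟩
  haveI hflA : Flat (sStr b A).left := hfl a (𝟙 _) _ ha (repWith_id _ _) (by rw [Category.comp_id]; exact ha')
  haveI hfpA : LocallyOfFinitePresentation (sStr b A).left :=
    hfp a (𝟙 _) _ ha (repWith_id _ _) (by rw [Category.comp_id]; exact ha')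
  obtain ⟨R, r1, r2, hR⟩ := exists_isPullback_yon ha.1 a
  -- the relation is affine
  have hP := isPullback_sHom_tensor b (D := A) A
  have hP' := isPullback_yon_map (S := S) hP
  obtain ⟨δ, hδ1, hδ2⟩ : ∃ δ : R ⟶ sObj b (A ⊗[Λ] A),
      δ ≫ sHom b (Algebra.TensorProduct.includeRight : A →ₐ[Λ] A ⊗[Λ] A) = r1 ∧
      δ ≫ sHom b (Algebra.TensorProduct.includeLeft : A →ₐ[Λ] A ⊗[Λ] A) = r2 := by
    have w : r1 ≫ sStr b A = r2 ≫ sStr b A := (yon S).map_injective (by
      rw [Functor.map_comp, Functor.map_comp, ← ha', reassoc_of% hR.w])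
    exact ⟨hP.lift r1 r2 w, hP.lift_fst _ _ _, hP.lift_snd _ _ _⟩
  have hdiag := isPullback_diagonal_of_chart (f := fF) hR (by rw [ha']; exact hP') ((yon S).map δ)
    (by rw [← Functor.map_comp, hδ1]) (by rw [← Functor.map_comp, hδ2])
    (pullback.lift ((yon S).map (sHom b (Algebra.TensorProduct.includeRight : A →ₐ[Λ] A ⊗[Λ] A)) ≫ a)
      ((yon S).map (sHom b (Algebra.TensorProduct.includeLeft : A →ₐ[Λ] A ⊗[Λ] A)) ≫ a)
      (by rw [Category.assoc, Category.assoc, ha']; exact hP'.w))
    (pullback.lift_fst _ _ _) (pullback.lift_snd _ _ _)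
  haveI hδ : IsClosedImmersion δ.left := hsep.2 _ _ δ hdiag
  haveI : IsAffine (sObj b (A ⊗[Λ] A)).left := inferInstanceAs (IsAffine (Spec (CommRingCat.of (A ⊗[Λ] A))))
  haveI : IsAffine R.left := isAffine_of_isAffineHom δ.left
  obtain ⟨C, iC, jC, e', he'⟩ := exists_sObj_iso b R (r1 ≫ sStr b A)
  obtain ⟨s, hs⟩ := exists_sHom b (e'.hom ≫ r1) (by rw [Category.assoc, he'])
  obtain ⟨t, ht⟩ := exists_sHom b (e'.hom ≫ r2) (by
    rw [Category.assoc, ← he']
    refine congrArg (e'.hom ≫ ·) ((yon S).map_injective ?_)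
    rw [Functor.map_comp, Functor.map_comp, ← ha', reassoc_of% hR.w])
  have sq : IsPullback ((yon S).map (sHom b s)) ((yon S).map (sHom b t)) a a := by
    refine hR.of_iso ((yon S).mapIso e'.symm) (Iso.refl _) (Iso.refl _) (Iso.refl _) ?_ ?_ (by simp) (by simp)
    · simp [hs]
    · simp [ht]
  obtain ⟨d, hd1, hd2⟩ : ∃ d : sObj b A ⟶ sObj b C, d ≫ sHom b s = 𝟙 _ ∧ d ≫ sHom b t = 𝟙 _ := by
    obtain ⟨d, hd⟩ := (yon S).map_surjective (sq.lift (𝟙 _) (𝟙 _) rfl)
    exact ⟨d, (yon S).map_injective (by rw [Functor.map_comp, hd, sq.lift_fst, CategoryTheory.Functor.map_id]),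
      (yon S).map_injective (by rw [Functor.map_comp, hd, sq.lift_snd, CategoryTheory.Functor.map_id])⟩
  obtain ⟨μ, hμ⟩ := exists_sHom b d (by
    rw [← sHom_sStr b s, ← Category.assoc, hd1, Category.id_comp])
  have hid : ∀ g : A →ₐ[Λ] A, sHom b g = 𝟙 _ → g = AlgHom.id Λ A := by
    intro g hg
    have : Spec.map (CommRingCat.ofHom g.toRingHom) = Spec.map (𝟙 (CommRingCat.of A)) := by
      rw [Spec.map_id]; exact congrArg CommaMorphism.left hg
    exact AlgHom.ext fun x => congrArg (fun f => f.hom x) (Spec.map_injective this)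
  -- generation
  obtain ⟨g, hg⟩ := exists_sHom b (e'.hom ≫ δ) (by
    rw [Category.assoc, ← he', ← hδ1, Category.assoc, sHom_sStr])
  have hgsurj : Function.Surjective g := by
    haveI : IsIso e'.hom.left := ((Over.forget S).mapIso e').isIso_hom
    haveI : IsClosedImmersion (Spec.map (CommRingCat.ofHom g.toRingHom)) := by
      rw [← sHom_left b g, hg]
      exact inferInstanceAs (IsClosedImmersion (e'.hom.left ≫ δ.left))
    obtain ⟨-, hsur⟩ := IsClosedImmersion.isAffine_surjective_of_isAffine (f := Spec.map (CommRingCat.ofHom g.toRingHom))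
    intro c
    obtain ⟨x, hx⟩ := hsur ((Scheme.ΓSpecIso (CommRingCat.of C)).inv c)
    refine ⟨(Scheme.ΓSpecIso (CommRingCat.of (A ⊗[Λ] A))).hom x, ?_⟩
    have h2 := congrArg (fun f => f.hom x) (Scheme.ΓSpecIso_naturality (CommRingCat.ofHom g.toRingHom))
    refine h2.symm.trans ?_
    show (Scheme.ΓSpecIso (CommRingCat.of C)).hom _ = c
    rw [show (Spec.map (CommRingCat.ofHom g.toRingHom)).appTop.hom' x = (Scheme.ΓSpecIso (CommRingCat.of C)).inv c from hx]
    exact congrArg (fun f => f.hom c) (Scheme.ΓSpecIso (CommRingCat.of C)).inv_hom_id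
  have hinj : ∀ g g' : A →ₐ[Λ] C, sHom b g = sHom b g' → g = g' := by
    intro g g' h
    exact AlgHom.ext fun x => congrArg (fun f => f.hom x) (Spec.map_injective (congrArg CommaMorphism.left h))
  have hsg : g.comp Algebra.TensorProduct.includeRight = s := hinj _ _ (by rw [sHom_comp, hg, hs, Category.assoc, hδ1])
  have htg : g.comp Algebra.TensorProduct.includeLeft = t := hinj _ _ (by rw [sHom_comp, hg, ht, Category.assoc, hδ2])
  have hgen : Algebra.adjoin Λ (Set.range s ∪ Set.range t) = ⊤ := by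
    refine top_le_iff.1 fun c _ => ?_
    obtain ⟨z, rfl⟩ := hgsurj c
    induction z using TensorProduct.induction_on with
    | zero => simp
    | tmul x y =>
      rw [show x ⊗ₜ[Λ] y = ((Algebra.TensorProduct.includeLeft : A →ₐ[Λ] A ⊗[Λ] A) x) *
        ((Algebra.TensorProduct.includeRight : A →ₐ[Λ] A ⊗[Λ] A) y) from by simp, map_mul]
      exact Subalgebra.mul_mem _ (Algebra.subset_adjoin (Or.inr ⟨x, (DFunLike.congr_fun htg x).symm⟩))
        (Algebra.subset_adjoin (Or.inl ⟨y, (DFunLike.congr_fun hsg y).symm⟩))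
    | add x y hx hy => rw [map_add]; exact add_mem (hx trivial) (hy trivial)
  haveI hfpA' : Algebra.FinitePresentation Λ A :=
    RingHom.finitePresentation_algebraMap.1 ((HasRingHomProperty.Spec_iff (P := @LocallyOfFinitePresentation)).1 hfpA)
  haveI hflA' : Module.Flat Λ A := RingHom.flat_algebraMap_iff.1 ((HasRingHomProperty.Spec_iff (P := @Flat)).1 hflA)
  haveI het : Etale (sHom b s).left :=
    ha.2 a _ (sHom b s) sq.flip
  haveI : LocallyOfFinitePresentation (sStr b C).left := by
    rw [← sHom_sStr b s]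
    show LocallyOfFinitePresentation ((sHom b s).left ≫ (sStr b A).left)
    infer_instance
  haveI : Flat (sStr b C).left := by
    rw [← sHom_sStr b s]
    show Flat ((sHom b s).left ≫ (sStr b A).left)
    infer_instance
  exact ⟨{
    A := A, C := C, ringA := iA, ringC := iC, algA := jA, algC := jC, s := s, t := t, μ := μ
    hμs := hid _ (by rw [sHom_comp, hμ, hd1])
    hμt := hid _ (by rw [sHom_comp, hμ, hd2])
    hgen := hgen, fpA := hfpA'
    fpC := RingHom.finitePresentation_algebraMap.1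
      ((HasRingHomProperty.Spec_iff (P := @LocallyOfFinitePresentation)).1 ‹LocallyOfFinitePresentation (sStr b C).left›)
    flatA := hflA'
    flatC := RingHom.flat_algebraMap_iff.1 ((HasRingHomProperty.Spec_iff (P := @Flat)).1 ‹Flat (sStr b C).left›)
    a := a, ha := ha, has := has, ha' := ha', sq := sq }⟩

end Groth.Agent.CurveSchLib
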