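import Groth.Agent.CurveSchLib.ConnChart

/-!
The locus of the base over which the geometric fibres of a family of curves are reduced and connected is open.
-/

set_option autoImplicit false
set_option backward.isDefEq.respectTransparency false
set_option backward.isDefEq.respectTransparency.types false
set_option linter.style.haveILetI false

universe u

open CategoryTheory CategoryTheory.Limits AlgebraicGeometry TensorProduct

namespace Groth.Agent.CurveSchLib

open _root_.AlgSp Groth.Agent.ASp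

/-- Connected fibres. -/
abbrev ConnP : FibPred.{u} := fun _ _ _ X' _ => ConnectedSpace ↥X'

/-- Reduced and connected fibres. -/
abbrev RedConnP : FibPred.{u} := fun _ _ _ X' _ => IsReduced X' ∧ ConnectedSpace ↥X'

theorem invExt_connected : InvExt ConnP.{u} := by
  intro Ω _ _ Ω' _ _ σ X' q X'' q' π hq hπ
  constructor
  · intro h
    haveI : ConnectedSpace ↥X' := h
    haveI := GeomIrred.geometricallyConnected_of_connectedSpace q
    exact GeometricallyConnected.geometrically_connectedSpace (f := q) _ _ _ hπ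
  · intro h
    haveI : ConnectedSpace ↥X'' := h
    obtain ⟨φ, rfl⟩ := Spec.map_surjective σ
    obtain ⟨-, h2⟩ := flat_surjective_specMap_field φ.hom
    haveI : Surjective π := MorphismProperty.of_isPullback hπ.flip h2
    exact π.surjective.connectedSpace π.continuous

theorem invExt_redConn : InvExt RedConnP.{u} := by
  intro Ω _ _ Ω' _ _ σ X' q X'' q' π hq hπ
  exact and_congr (invExt_reduced Ω Ω' σ X' q X'' q' π hq hπ) (invExt_connected Ω Ω' σ X' q X'' q' π hq hπ)

variable {S : Scheme.{u}} {Λ : Type u} [CommRing Λ] {b : Spec (CommRingCat.of Λ) ⟶ S}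
  {F : Sp S} {fF : F ⟶ (yon S).obj (Over.mk b)} (D : AffChart b F fF) {R : Type u} [CommRing R] [Algebra Λ R]
  {G : Sp S} {g : G ⟶ F} {gR : G ⟶ (yon S).obj (sObj b R)}
  (sqG : IsPullback g gR fF ((yon S).map (sStr b R)))

include sqG

/-- The chart of a base change. -/
theorem exists_bcChart : ∃ aR : (yon S).obj (sObj b (R ⊗[Λ] D.A)) ⟶ G,
    RepWith @Etale aR ∧ RepWith @Surjective aR ∧
    aR ≫ gR = (yon S).map (sHom b (Algebra.TensorProduct.includeLeft : R →ₐ[Λ] R ⊗[Λ] D.A)) ∧
    IsPullback ((yon S).map (sHom b (bcHom R D.t))) ((yon S).map (sHom b (bcHom R D.s))) aR aR := by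
  have hP := isPullback_yon_map (S := S) (isPullback_sHom_tensor b (D := D.A) R)
  let iA := (yon S).map (sHom b (Algebra.TensorProduct.includeRight : D.A →ₐ[Λ] R ⊗[Λ] D.A))
  obtain ⟨aR, h1, h2⟩ : ∃ aR, aR ≫ g = iA ≫ D.a ∧
      aR ≫ gR = (yon S).map (sHom b (Algebra.TensorProduct.includeLeft : R →ₐ[Λ] R ⊗[Λ] D.A)) :=
    ⟨sqG.lift (iA ≫ D.a) _ (by rw [Category.assoc, D.ha']; exact hP.w), sqG.lift_fst _ _ _, sqG.lift_snd _ _ _⟩
  have sqA : IsPullback iA aR D.a g := by
    refine IsPullback.of_bot ?_ h1.symm sqG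
    rw [h2, D.ha']
    exact hP
  refine ⟨aR, repWith_of_isPullback sqA D.ha, repWith_of_isPullback sqA D.has, h2, ?_⟩
  have sqC := isPullback_yon_map (S := S) (isPullback_bcHom b R D.s)
  have big := sqC.paste_horiz D.sq.flip
  refine IsPullback.of_right (h₁₂ := iA) (v₁₃ := D.a) (h₂₂ := g) ?_ ?_ sqA
  · rw [h1]
    convert big using 1
    · show (yon S).map _ ≫ (yon S).map _ = (yon S).map _ ≫ (yon S).map _
      rw [← Functor.map_comp, ← Functor.map_comp, ← sHom_comp, ← sHom_comp]
      simp [bcHom]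
  · refine sqG.hom_ext ?_ ?_
    · simp only [Category.assoc, h1, iA, ← Functor.map_comp_assoc, ← sHom_comp]
      rw [show (bcHom R D.s).comp (Algebra.TensorProduct.includeRight : D.A →ₐ[Λ] R ⊗[Λ] D.A) =
          (Algebra.TensorProduct.includeRight : D.C →ₐ[Λ] R ⊗[Λ] D.C).comp D.s from AlgHom.ext fun x => by simp [bcHom],
        show (bcHom R D.t).comp (Algebra.TensorProduct.includeRight : D.A →ₐ[Λ] R ⊗[Λ] D.A) =
          (Algebra.TensorProduct.includeRight : D.C →ₐ[Λ] R ⊗[Λ] D.C).comp D.t from AlgHom.ext fun x => by simp [bcHom],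
        sHom_comp, sHom_comp, Functor.map_comp, Functor.map_comp, Category.assoc, Category.assoc, D.sq.w]
    · simp only [Category.assoc, h2, ← Functor.map_comp, ← sHom_comp]
      congr 2
      ext x
      simp [bcHom]

/-- Saturated idempotents are the clopens of the base change. -/
theorem exists_clopen {aR : (yon S).obj (sObj b (R ⊗[Λ] D.A)) ⟶ G} (ha : RepWith @Etale aR)
    (has : RepWith @Surjective aR)
    (sqR : IsPullback ((yon S).map (sHom b (bcHom R D.t))) ((yon S).map (sHom b (bcHom R D.s))) aR aR)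
    (e : R ⊗[Λ] D.A) (he : IsIdempotentElem e) (hst : bcHom R D.s e = bcHom R D.t e) :
    ∃ H : Set (Points G), IsClopen H ∧
      Points.ofPt aR ⁻¹' H = (PrimeSpectrum.basicOpen e : Set (PrimeSpectrum (R ⊗[Λ] D.A))) := by
  let E : Set ↥(sObj b (R ⊗[Λ] D.A)).left := (PrimeSpectrum.basicOpen e : Set (PrimeSpectrum (R ⊗[Λ] D.A)))
  have hEc : IsClopen E := PrimeSpectrum.isClopen_iff.2 ⟨e, he, rfl⟩
  have hsat : ∀ u u', Points.ofPt aR u = Points.ofPt aR u' → u ∈ E → u' ∈ E := by
    intro u u' h hu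
    obtain ⟨r, hr1, hr2⟩ := points_exists_of_isPullback sqR (Points.ofScheme _ u) (Points.ofScheme _ u')
      (by rw [← Points.ofPt_eq_map_ofScheme, ← Points.ofPt_eq_map_ofScheme, h])
    obtain ⟨r, rfl⟩ := (Points.schemeHomeo _).surjective r
    rw [Points.map_yon_map_apply] at hr1 hr2
    have e1 := (Points.schemeHomeo _).injective hr1
    have e2 := (Points.schemeHomeo _).injective hr2
    rw [← e1] at hu
    rw [← e2]
    change bcHom R D.t e ∉ (r : PrimeSpectrum (R ⊗[Λ] D.C)).asIdeal at hu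
    change bcHom R D.s e ∉ (r : PrimeSpectrum (R ⊗[Λ] D.C)).asIdeal
    rwa [hst]
  have hpre : Points.ofPt aR ⁻¹' (Points.ofPt aR '' E) = E :=
    Set.Subset.antisymm (fun u ⟨u', hu', h⟩ => hsat u' u h hu') (Set.subset_preimage_image _ _)
  refine ⟨Points.ofPt aR '' E, ⟨?_, ?_⟩, hpre⟩
  · rw [← isOpen_compl_iff, isOpen_iff_chart ha has, Set.preimage_compl, hpre]
    exact hEc.1.isOpen_compl
  · rw [isOpen_iff_chart ha has, hpre]
    exact hEc.2

/-- Connectedness of the base change in terms of idempotents. -/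
theorem coeqConn_iff_connected : CoeqConn D.s D.t R ↔ ConnectedSpace (Points G) := by
  obtain ⟨aR, ha, has, -, sqR⟩ := exists_bcChart D sqG
  have hsurj := surjective_ofPt has
  constructor
  · rintro ⟨hn, h⟩
    haveI := hn
    haveI : Nonempty (Points G) := ⟨Points.ofPt aR (Classical.arbitrary (PrimeSpectrum (R ⊗[Λ] D.A)))⟩
    rw [connectedSpace_iff_clopen]
    refine ⟨inferInstance, fun H hH => ?_⟩
    obtain ⟨e, he, hHe⟩ := PrimeSpectrum.isClopen_iff.1
      (show IsClopen (Points.ofPt aR ⁻¹' H : Set (PrimeSpectrum (R ⊗[Λ] D.A))) from hH.preimage (Points.continuous_ofPt aR))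
    have hst : bcHom R D.s e = bcHom R D.t e := by
      refine PrimeSpectrum.basicOpen_injOn_isIdempotentElem (he.map (bcHom R D.s)) (he.map (bcHom R D.t)) ?_
      refine TopologicalSpace.Opens.ext (Set.ext fun r => ?_)
      have hs : ((sHom b (bcHom R D.s)).left r : PrimeSpectrum (R ⊗[Λ] D.A)) ∈ PrimeSpectrum.basicOpen e ↔
          Points.ofPt aR ((sHom b (bcHom R D.s)).left r) ∈ H := (Set.ext_iff.1 hHe _).symm
      have ht : ((sHom b (bcHom R D.t)).left r : PrimeSpectrum (R ⊗[Λ] D.A)) ∈ PrimeSpectrum.basicOpen e ↔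
          Points.ofPt aR ((sHom b (bcHom R D.t)).left r) ∈ H := (Set.ext_iff.1 hHe _).symm
      have heq : Points.ofPt aR ((sHom b (bcHom R D.s)).left r) = Points.ofPt aR ((sHom b (bcHom R D.t)).left r) := by
        rw [← ofPt_yon_map_comp, ← ofPt_yon_map_comp, sqR.w]
      show bcHom R D.s e ∉ r.asIdeal ↔ bcHom R D.t e ∉ r.asIdeal
      exact hs.trans ((iff_of_eq (congrArg (· ∈ H) heq)).trans ht.symm)
    rcases h e he hst with rfl | rfl
    · left
      refine Set.eq_empty_of_forall_notMem fun x hx => ?_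
      obtain ⟨u, rfl⟩ := hsurj x
      have : (u : PrimeSpectrum (R ⊗[Λ] D.A)) ∈ PrimeSpectrum.basicOpen (0 : R ⊗[Λ] D.A) := (Set.ext_iff.1 hHe u).1 hx
      exact this (Ideal.zero_mem _)
    · right
      refine Set.eq_univ_of_forall fun x => ?_
      obtain ⟨u, rfl⟩ := hsurj x
      exact (Set.ext_iff.1 hHe u).2 (fun h1 => (u : PrimeSpectrum (R ⊗[Λ] D.A)).2.ne_top ((Ideal.eq_top_iff_one _).2 h1))
  · intro h
    haveI := h
    refine ⟨?_, fun e he hst => ?_⟩
    · obtain ⟨x⟩ := h.toNonempty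
      obtain ⟨u, -⟩ := hsurj x
      exact PrimeSpectrum.nonempty_iff_nontrivial.1 ⟨(u : PrimeSpectrum (R ⊗[Λ] D.A))⟩
    obtain ⟨H, hH, hHe⟩ := exists_clopen D sqG ha has sqR e he hst
    rcases _root_.isClopen_iff.1 hH with rfl | rfl
    · left
      rw [Set.preimage_empty] at hHe
      exact he.eq_zero_of_isNilpotent ((PrimeSpectrum.basicOpen_eq_bot_iff e).1
        (TopologicalSpace.Opens.ext (by simpa using hHe.symm)))
    · right
      rw [Set.preimage_univ] at hHe
      refine (IsIdempotentElem.iff_eq_one_of_isUnit ?_).1 he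
      by_contra hu
      obtain ⟨M, hM, heM⟩ := exists_max_ideal_of_mem_nonunits hu
      exact (hHe.le (Set.mem_univ (⟨M, hM.isPrime⟩ : PrimeSpectrum (R ⊗[Λ] D.A)))) heM

/-- A saturated idempotent vanishing on the closed fibre vanishes, for a universally closed family. -/
theorem eq_zero_of_closed [IsLocalRing R] (hcl : IsClosedMor gR) {k : Type u} [Field k] [Algebra Λ k]
    (ψ : R →ₐ[Λ] k) (hψ : RingHom.ker ψ = IsLocalRing.maximalIdeal R) [Module.Flat Λ D.A]
    (e : R ⊗[Λ] D.A) (he : IsIdempotentElem e) (hst : bcHom R D.s e = bcHom R D.t e)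
    (h0 : Algebra.TensorProduct.map ψ (AlgHom.id Λ D.A) e = 0) : e = 0 := by
  obtain ⟨aR, ha, has, hgR, sqR⟩ := exists_bcChart D sqG
  obtain ⟨H, hH, hHe⟩ := exists_clopen D sqG ha has sqR e he hst
  by_contra hne
  obtain ⟨u₀, hu₀⟩ : ∃ u : PrimeSpectrum (R ⊗[Λ] D.A), u ∈ PrimeSpectrum.basicOpen e := by
    by_contra hno
    refine hne (he.eq_zero_of_isNilpotent ((PrimeSpectrum.basicOpen_eq_bot_iff e).1 ?_))
    exact TopologicalSpace.Opens.ext (Set.eq_empty_of_forall_notMem fun u hu => hno ⟨u, hu⟩)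
  have hc : IsClosed (Points.schemeHomeo (sObj b R) ⁻¹' (Points.map gR '' H)) :=
    (hcl _ hH.1).preimage (Points.schemeHomeo _).continuous
  have key : ∀ v : ↥(sObj b (R ⊗[Λ] D.A)).left, Points.map gR (Points.ofPt aR v) =
      Points.schemeHomeo (sObj b R)
        ((sHom b (Algebra.TensorProduct.includeLeft : R →ₐ[Λ] R ⊗[Λ] D.A)).left v) := fun v => by
    rw [Points.map_ofPt, hgR, Points.ofPt_eq_map_ofScheme]
    exact Points.map_yon_map_apply _ _
  let x₀ := (sHom b (Algebra.TensorProduct.includeLeft : R →ₐ[Λ] R ⊗[Λ] D.A)).left u₀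
  have hm : (IsLocalRing.closedPoint R : PrimeSpectrum R) ∈
      (Points.schemeHomeo (sObj b R) ⁻¹' (Points.map gR '' H) : Set (PrimeSpectrum R)) := by
    refine (show (x₀ : PrimeSpectrum R) ⤳ IsLocalRing.closedPoint R from
      IsLocalRing.specializes_closedPoint _).mem_closed hc ?_
    exact ⟨Points.ofPt aR u₀, (Set.ext_iff.1 hHe u₀).2 hu₀, key _⟩
  obtain ⟨z, hz, hzm⟩ := hm
  obtain ⟨v, rfl⟩ := surjective_ofPt has z
  rw [key] at hzm
  have hv : ((sHom b (Algebra.TensorProduct.includeLeft : R →ₐ[Λ] R ⊗[Λ] D.A)).left v : PrimeSpectrum R) =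
      IsLocalRing.closedPoint R := (Points.schemeHomeo _).injective hzm
  have hev : (v : PrimeSpectrum (R ⊗[Λ] D.A)) ∈ PrimeSpectrum.basicOpen e := (Set.ext_iff.1 hHe v).1 hz
  let m := IsLocalRing.maximalIdeal R
  let mk : R →ₐ[Λ] R ⧸ m := Ideal.Quotient.mkₐ Λ m
  let κk : (R ⧸ m) →ₐ[Λ] k := Ideal.Quotient.liftₐ m ψ (fun x hx => RingHom.mem_ker.1 (hψ.ge hx))
  have hκ : κk.comp mk = ψ := Ideal.Quotient.liftₐ_comp m ψ _
  haveI : (m : Ideal R).IsMaximal := IsLocalRing.maximalIdeal.isMaximal R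
  letI := Ideal.Quotient.field m
  have hinj : Function.Injective (Algebra.TensorProduct.map κk (AlgHom.id Λ D.A)) :=
    Module.Flat.rTensor_preserves_injective_linearMap (M := D.A) κk.toLinearMap κk.toRingHom.injective
  have h1 : Algebra.TensorProduct.map mk (AlgHom.id Λ D.A) e = 0 := by
    refine hinj ?_
    rw [map_zero]
    have hcomp : ∀ z : R ⊗[Λ] D.A, Algebra.TensorProduct.map κk (AlgHom.id Λ D.A)
        (Algebra.TensorProduct.map mk (AlgHom.id Λ D.A) z) = Algebra.TensorProduct.map ψ (AlgHom.id Λ D.A) z := fun z => by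
      induction z using TensorProduct.induction_on with
      | zero => simp
      | tmul x y => simp [← hκ]
      | add x y hx hy => simp only [map_add, hx, hy]
    rw [hcomp, h0]
  have h2 : e ∈ m.map (Algebra.TensorProduct.includeLeft : R →ₐ[Λ] R ⊗[Λ] D.A) := by
    have h3 := (Algebra.TensorProduct.rTensor_ker (C := D.A) mk Ideal.Quotient.mk_surjective).le (RingHom.mem_ker.2 h1)
    rwa [show RingHom.ker mk = m from Ideal.mk_ker] at h3
  refine hev (Ideal.map_le_iff_le_comap.2 ?_ h2)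
  exact (congrArg PrimeSpectrum.asIdeal hv).ge

end Groth.Agent.CurveSchLib
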