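import Mathlib

/-!
An affine scheme of finite presentation whose geometric fibres have the connected components of the coequalizer of
two maps `s t : A → C`.
-/

set_option autoImplicit false

universe u

open TensorProduct

namespace Groth.Agent.CurveSchLib

/-- An idempotent polynomial is constant. -/
theorem polynomial_idempotent_eq_C {R : Type u} [CommRing R] (p : Polynomial R) (hp : IsIdempotentElem p) :
    p = Polynomial.C (p.eval 0) := by
  have key : ∀ r : Polynomial R, IsIdempotentElem r → r.eval 0 = 0 → r = 0 := by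
    intro r hr h0
    have hd : ∀ k : ℕ, Polynomial.X ^ (k + 1) ∣ r := by
      intro k
      induction k with
      | zero => simpa [Polynomial.X_dvd_iff, Polynomial.coeff_zero_eq_eval_zero] using h0
      | succ k ih =>
        have h2 : Polynomial.X ^ ((k + 1) + (k + 1)) ∣ r * r := by
          rw [pow_add]; exact mul_dvd_mul ih ih
        rw [hr.eq] at h2
        exact (pow_dvd_pow _ (by omega)).trans h2
    ext k
    simpa using (Polynomial.X_pow_dvd_iff.1 (hd k)) k (by omega)
  have hc : IsIdempotentElem (Polynomial.C (p.eval 0)) :=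
    (hp.map (Polynomial.evalRingHom (0 : R))).map Polynomial.C
  have h1 := key _ (hp.mul hc.one_sub) (by
    have := (hp.map (Polynomial.evalRingHom (0 : R))).eq
    simp only [Polynomial.coe_evalRingHom] at this
    simp [mul_sub, this])
  have h2 := key _ (hc.mul hp.one_sub) (by
    have := (hp.map (Polynomial.evalRingHom (0 : R))).eq
    simp only [Polynomial.coe_evalRingHom] at this
    simp [mul_sub, this])
  linear_combination h1 - h2

/-- No non-trivial idempotents. -/
def OnlyTrivialIdem (R : Type u) [CommRing R] : Prop :=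
  Nontrivial R ∧ ∀ e : R, IsIdempotentElem e → e = 0 ∨ e = 1

theorem connectedSpace_primeSpectrum_iff (R : Type u) [CommRing R] :
    ConnectedSpace (PrimeSpectrum R) ↔ OnlyTrivialIdem R := by
  constructor
  · intro h
    haveI : Nonempty (PrimeSpectrum R) := h.toNonempty
    refine ⟨PrimeSpectrum.nonempty_iff_nontrivial.1 inferInstance, fun e he => ?_⟩
    rcases _root_.isClopen_iff.1 (PrimeSpectrum.isClopen_iff.2 ⟨e, he, rfl⟩ :
        IsClopen (PrimeSpectrum.basicOpen e : Set (PrimeSpectrum R))) with h1 | h1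
    · left
      have : IsNilpotent e := PrimeSpectrum.basicOpen_eq_bot_iff e |>.1 (TopologicalSpace.Opens.ext (by simpa using h1))
      exact he.eq_zero_of_isNilpotent this
    · right
      have hu : IsUnit e := by
        by_contra hu
        obtain ⟨M, hM, heM⟩ := exists_max_ideal_of_mem_nonunits hu
        have hx : (⟨M, hM.isPrime⟩ : PrimeSpectrum R) ∈ (PrimeSpectrum.basicOpen e : Set (PrimeSpectrum R)) := h1.ge trivial
        exact hx heM
      exact (IsIdempotentElem.iff_eq_one_of_isUnit hu).1 he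
  · rintro ⟨hn, h⟩
    haveI := hn
    rw [connectedSpace_iff_clopen]
    refine ⟨inferInstance, fun s hs => ?_⟩
    obtain ⟨e, he, rfl⟩ := PrimeSpectrum.isClopen_iff.1 hs
    rcases h e he with rfl | rfl
    · left; simp
    · right; simp

variable {Λ A C : Type u} [CommRing Λ] [CommRing A] [CommRing C] [Algebra Λ A] [Algebra Λ C]
  (K : Type u) [CommRing K] [Algebra Λ K]

/-- Base change of an algebra map to `K`. -/
noncomputable abbrev bcHom {B D : Type u} [CommRing B] [CommRing D] [Algebra Λ B] [Algebra Λ D] (f : B →ₐ[Λ] D) :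
    K ⊗[Λ] B →ₐ[Λ] K ⊗[Λ] D :=
  Algebra.TensorProduct.map (AlgHom.id Λ K) f

theorem bcHom_comp {B D E : Type u} [CommRing B] [CommRing D] [CommRing E] [Algebra Λ B] [Algebra Λ D] [Algebra Λ E]
    (f : D →ₐ[Λ] E) (g : B →ₐ[Λ] D) (x : K ⊗[Λ] B) : bcHom K (f.comp g) x = bcHom K f (bcHom K g x) := by
  induction x using TensorProduct.induction_on with
  | zero => simp
  | tmul a b => simp
  | add x y hx hy => simp only [map_add, hx, hy]

theorem bcHom_id {B : Type u} [CommRing B] [Algebra Λ B] (x : K ⊗[Λ] B) : bcHom K (AlgHom.id Λ B) x = x := by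
  induction x using TensorProduct.induction_on with
  | zero => simp
  | tmul a b => simp
  | add x y hx hy => simp only [map_add, hx, hy]

/-- Idempotents are constant along a contraction. -/
theorem idempotent_eq_of_contraction {B : Type u} [CommRing B] [Algebra Λ B] (j : A →ₐ[Λ] B) (h : B →ₐ[Λ] A)
    (Φ : B →ₐ[Λ] Polynomial B) (h1 : ((Polynomial.aeval (R := B) (1 : B)).restrictScalars Λ).comp Φ = AlgHom.id Λ B)
    (h0 : ((Polynomial.aeval (R := B) (0 : B)).restrictScalars Λ).comp Φ = j.comp h)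
    (e : K ⊗[Λ] B) (he : IsIdempotentElem e) : e = bcHom K j (bcHom K h e) := by
  let ι : Polynomial B →ₐ[Λ] Polynomial (K ⊗[Λ] B) :=
    Polynomial.mapAlgHom (Algebra.TensorProduct.includeRight : B →ₐ[Λ] (K ⊗[Λ] B))
  let Ψ : (K ⊗[Λ] B) →ₐ[Λ] Polynomial (K ⊗[Λ] B) := Algebra.TensorProduct.lift
    ((IsScalarTower.toAlgHom Λ (K ⊗[Λ] B) (Polynomial (K ⊗[Λ] B))).comp (IsScalarTower.toAlgHom Λ K (K ⊗[Λ] B))) (ι.comp Φ)
    (fun _ _ => Commute.all _ _)
  have hev : ∀ (b : B) (x : (K ⊗[Λ] B)), ((Polynomial.aeval (R := (K ⊗[Λ] B)) (Algebra.TensorProduct.includeRight b : (K ⊗[Λ] B))).restrictScalars Λ) (Ψ x) =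
      bcHom K (((Polynomial.aeval (R := B) b).restrictScalars Λ).comp Φ) x := by
    intro b x
    induction x using TensorProduct.induction_on with
    | zero => simp
    | tmul a c =>
      have hp : ∀ p : Polynomial B, Polynomial.aeval (R := (K ⊗[Λ] B)) (Algebra.TensorProduct.includeRight b : (K ⊗[Λ] B)) (ι p) =
          Algebra.TensorProduct.includeRight (Polynomial.aeval (R := B) b p) := by
        intro p
        induction p using Polynomial.induction_on' with
        | add p q hp hq => simp only [map_add, hp, hq]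
        | monomial k c =>
          simp [ι, Polynomial.map_monomial, Polynomial.aeval_monomial, Algebra.algebraMap_self,
            Algebra.TensorProduct.tmul_mul_tmul]
      rw [show Ψ (a ⊗ₜ c) = Polynomial.C (algebraMap K (K ⊗[Λ] B) a) * ι (Φ c) from Algebra.TensorProduct.lift_tmul _ _ _ _ _]
      simp only [AlgHom.coe_restrictScalars', map_mul, Polynomial.aeval_C, Algebra.algebraMap_self, RingHom.id_apply, hp]
      simp [Algebra.TensorProduct.algebraMap_apply]
    | add x y hx hy => simp only [map_add, hx, hy]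
  have hc := polynomial_idempotent_eq_C _ (he.map Ψ)
  have e1 := hev 1 e
  have e0 := hev 0 e
  rw [h1, bcHom_id, hc] at e1
  rw [h0, bcHom_comp, hc] at e0
  simp only [AlgHom.coe_restrictScalars', Polynomial.aeval_C] at e1 e0
  exact e1.symm.trans e0

variable {K}

/-- The coequalizer of the base changes of `s` and `t` is connected. -/
def CoeqConn (s t : A →ₐ[Λ] C) (K : Type u) [CommRing K] [Algebra Λ K] : Prop :=
  Nontrivial (K ⊗[Λ] A) ∧ ∀ e : K ⊗[Λ] A, IsIdempotentElem e → bcHom K s e = bcHom K t e → e = 0 ∨ e = 1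

/-- Connectedness of the glued algebra, abstractly. -/
theorem onlyTrivialIdem_iff_coeqConn {Q B1 B4 : Type u} [CommRing Q] [CommRing B1] [CommRing B4] [Algebra Λ Q]
    [Algebra Λ B1] [Algebra Λ B4] (s t : A →ₐ[Λ] C) (μ : C →ₐ[Λ] A)
    (hμs : μ.comp s = AlgHom.id Λ A) (hμt : μ.comp t = AlgHom.id Λ A)
    (ρ1 ρ2 : Q →ₐ[Λ] B1) (ρ4 : Q →ₐ[Λ] B4) (j : A →ₐ[Λ] B1) (h : B1 →ₐ[Λ] A) (cC : C →ₐ[Λ] B4)
    (v0 v1 : B4 →ₐ[Λ] C) (d1 d2 : B1 →ₐ[Λ] C)
    (hhj : h.comp j = AlgHom.id Λ A) (hvc1 : v1.comp cC = AlgHom.id Λ C)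
    (hd1j : d1.comp j = s) (hd2j : d2.comp j = t)
    (hg4 : d1.comp ρ1 = v0.comp ρ4) (hg4' : d2.comp ρ2 = v1.comp ρ4)
    (hnil : ∀ x : K ⊗[Λ] Q, bcHom K ρ1 x = 0 → bcHom K ρ2 x = 0 → bcHom K ρ4 x = 0 → x ^ 3 = 0)
    (hconst1 : ∀ e : K ⊗[Λ] B1, IsIdempotentElem e → e = bcHom K j (bcHom K h e))
    (hconst4 : ∀ e : K ⊗[Λ] B4, IsIdempotentElem e → e = bcHom K cC (bcHom K v0 e))
    (hglue : ∀ e : K ⊗[Λ] A, bcHom K s e = bcHom K t e → ∃ G, bcHom K ρ1 G = bcHom K j e ∧
      bcHom K ρ2 G = bcHom K j e ∧ bcHom K ρ4 G = bcHom K cC (bcHom K s e)) :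
    OnlyTrivialIdem (K ⊗[Λ] Q) ↔ CoeqConn s t K := by
  constructor
  · rintro ⟨hn, hQ⟩
    refine ⟨?_, fun e he hst => ?_⟩
    · by_contra hA
      rw [not_nontrivial_iff_subsingleton] at hA
      haveI := hn
      have h1 : (1 : K ⊗[Λ] B1) = 0 := by
        rw [← map_one (bcHom K j), Subsingleton.elim (1 : K ⊗[Λ] A) 0, map_zero]
      have h4 : (1 : K ⊗[Λ] B4) = 0 := by
        rw [← map_one (bcHom K (cC.comp s)), Subsingleton.elim (1 : K ⊗[Λ] A) 0, map_zero]
      simpa using hnil 1 ((map_one _).trans h1) ((map_one _).trans h1) ((map_one _).trans h4)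
    · obtain ⟨G, hG1, hG2, hG4⟩ := hglue e hst
      have hGn : IsNilpotent (G * G - G) := ⟨3, hnil _
        (by rw [map_sub, map_mul, hG1, (he.map (bcHom K j)).eq, sub_self])
        (by rw [map_sub, map_mul, hG2, (he.map (bcHom K j)).eq, sub_self])
        (by rw [map_sub, map_mul, hG4, ((he.map (bcHom K s)).map (bcHom K cC)).eq, sub_self])⟩
      obtain ⟨G', hG', hGG⟩ := exists_isIdempotentElem_eq_of_ker_isNilpotent
        (Ideal.Quotient.mk (nilradical (K ⊗[Λ] Q))) (fun x hx => by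
          rwa [Ideal.mk_ker, mem_nilradical] at hx) (Ideal.Quotient.mk _ G) ⟨G, rfl⟩
        (show _ * _ = _ by rw [← map_mul, Ideal.Quotient.mk_eq_mk_iff_sub_mem, mem_nilradical]; exact hGn)
      have hkey : bcHom K ρ1 G' = bcHom K j e := by
        refine eq_of_isNilpotent_sub_of_isIdempotentElem (hG'.map _) (he.map _) ?_
        rw [← hG1, ← map_sub]
        rw [Ideal.Quotient.mk_eq_mk_iff_sub_mem, mem_nilradical] at hGG
        exact hGG.map _
      have hback : e = bcHom K h (bcHom K ρ1 G') := by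
        rw [hkey, ← bcHom_comp K h j, hhj, bcHom_id]
      rcases hQ G' hG' with h0 | h0
      · left; rw [hback, h0, map_zero, map_zero]
      · right; rw [hback, h0, map_one, map_one]
  · rintro ⟨hn, hA⟩
    haveI := hn
    refine ⟨⟨⟨1, 0, fun h10 => one_ne_zero (α := K ⊗[Λ] A) ?_⟩⟩, fun x hx => ?_⟩
    · rw [← map_one (bcHom K (h.comp ρ1)), h10, map_zero]
    set e := bcHom K h (bcHom K ρ1 x) with hedef
    set e' := bcHom K h (bcHom K ρ2 x) with he'def
    set c := bcHom K v0 (bcHom K ρ4 x) with hcdef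
    have x1 : bcHom K ρ1 x = bcHom K j e := hconst1 _ (hx.map (bcHom K ρ1))
    have x2 : bcHom K ρ2 x = bcHom K j e' := hconst1 _ (hx.map (bcHom K ρ2))
    have x4 : bcHom K ρ4 x = bcHom K cC c := hconst4 _ (hx.map (bcHom K ρ4))
    have hse : bcHom K s e = c := by
      rw [← hd1j, bcHom_comp, ← x1, ← bcHom_comp, hg4, bcHom_comp]
    have hte : bcHom K t e' = c := by
      rw [← hd2j, bcHom_comp, ← x2, ← bcHom_comp, hg4', bcHom_comp, x4, ← bcHom_comp, hvc1, bcHom_id]
    have hee : e = e' := by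
      calc e = bcHom K (μ.comp s) e := by rw [hμs, bcHom_id]
        _ = bcHom K (μ.comp t) e' := by rw [bcHom_comp, bcHom_comp, hse, hte]
        _ = e' := by rw [hμt, bcHom_id]
    rcases hA e ((hx.map _).map _) (by rw [hse, hee, hte]) with h0 | h0
    · left
      refine hx.eq_zero_of_isNilpotent ⟨3, hnil x ?_ ?_ ?_⟩
      · rw [x1, h0, map_zero]
      · rw [x2, ← hee, h0, map_zero]
      · rw [x4, ← hse, h0, map_zero, map_zero]
    · right
      have : (1 : K ⊗[Λ] Q) - x = 0 := by
        refine hx.one_sub.eq_zero_of_isNilpotent ⟨3, hnil _ ?_ ?_ ?_⟩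
        · rw [map_sub, map_one, x1, h0, map_one, sub_self]
        · rw [map_sub, map_one, x2, ← hee, h0, map_one, sub_self]
        · rw [map_sub, map_one, x4, ← hse, h0, map_one, map_one, sub_self]
      exact (sub_eq_zero.1 this).symm

section Glue

open MvPolynomial

variable {n : ℕ} (q : MvPolynomial (Fin n) Λ →ₐ[Λ] A) (s t : A →ₐ[Λ] C)

/-- The ambient polynomial ring of the glued algebra. -/
abbrev GP (Λ : Type u) [CommRing Λ] (n : ℕ) : Type u := MvPolynomial (Option (Fin n ⊕ Fin n)) Λ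

/-- The first piece: `U × 𝔸ⁿ × {0}`. -/
noncomputable def p1 : GP Λ n →ₐ[Λ] MvPolynomial (Fin n) A :=
  aeval (fun o => match o with
    | none => 0
    | some (.inl i) => MvPolynomial.C (q (X i))
    | some (.inr i) => X i)

/-- The second piece: `𝔸ⁿ × U × {1}`. -/
noncomputable def p2 : GP Λ n →ₐ[Λ] MvPolynomial (Fin n) A :=
  aeval (fun o => match o with
    | none => 1
    | some (.inl i) => X i
    | some (.inr i) => MvPolynomial.C (q (X i)))

/-- The linking piece: `R × 𝔸¹`. -/
noncomputable def p4 : GP Λ n →ₐ[Λ] Polynomial C :=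
  aeval (fun o => match o with
    | none => Polynomial.X
    | some (.inl i) => Polynomial.C (s (q (X i)))
    | some (.inr i) => Polynomial.C (t (q (X i))))

/-- The inclusion of the first coordinates. -/
noncomputable def inX : MvPolynomial (Fin n) Λ →ₐ[Λ] GP Λ n := rename (fun i => some (.inl i))

/-- The inclusion of the second coordinates. -/
noncomputable def inY : MvPolynomial (Fin n) Λ →ₐ[Λ] GP Λ n := rename (fun i => some (.inr i))

/-- Constant polynomials. -/
noncomputable def cstM (A : Type u) [CommRing A] [Algebra Λ A] (n : ℕ) : A →ₐ[Λ] MvPolynomial (Fin n) A :=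
  IsScalarTower.toAlgHom Λ A _

/-- Constant polynomials. -/
noncomputable def cstP (C : Type u) [CommRing C] [Algebra Λ C] : C →ₐ[Λ] Polynomial C :=
  IsScalarTower.toAlgHom Λ C _

theorem cstM_apply (a : A) : cstM (Λ := Λ) A n a = MvPolynomial.C a := rfl

theorem cstP_apply (a : C) : cstP (Λ := Λ) C a = Polynomial.C a := rfl

theorem p1_inX : (p1 q).comp inX = (cstM A n).comp q :=
  MvPolynomial.algHom_ext fun i => by simp [p1, inX, cstM_apply]

theorem p2_inY : (p2 q).comp inY = (cstM A n).comp q :=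
  MvPolynomial.algHom_ext fun i => by simp [p2, inY, cstM_apply]

theorem p4_inX : (p4 q s t).comp inX = (cstP C).comp (s.comp q) :=
  MvPolynomial.algHom_ext fun i => by simp [p4, inX, cstP_apply]

theorem p4_inY : (p4 q s t).comp inY = (cstP C).comp (t.comp q) :=
  MvPolynomial.algHom_ext fun i => by simp [p4, inY, cstP_apply]

theorem surjective_mv (π : GP Λ n →ₐ[Λ] MvPolynomial (Fin n) A) (hX : ∀ i, X i ∈ π.range)
    (hC : ∀ a, MvPolynomial.C a ∈ π.range) : Function.Surjective π := by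
  intro p
  induction p using MvPolynomial.induction_on with
  | C a => exact hC a
  | add p r hp hr =>
    obtain ⟨x, rfl⟩ := hp; obtain ⟨y, rfl⟩ := hr; exact ⟨x + y, map_add _ _ _⟩
  | mul_X p i hp =>
    obtain ⟨x, rfl⟩ := hp; obtain ⟨y, hy⟩ := hX i; exact ⟨x * y, by rw [map_mul, show π y = X i from hy]⟩

variable (hq : Function.Surjective q)
include hq

theorem p1_surjective : Function.Surjective (p1 q) :=
  surjective_mv _ (fun i => ⟨X (some (.inr i)), by simp [p1]⟩) fun a => by
    obtain ⟨x, rfl⟩ := hq a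
    exact ⟨inX x, DFunLike.congr_fun (p1_inX q) x⟩

theorem p2_surjective : Function.Surjective (p2 q) :=
  surjective_mv _ (fun i => ⟨X (some (.inl i)), by simp [p2]⟩) fun a => by
    obtain ⟨x, rfl⟩ := hq a
    exact ⟨inY x, DFunLike.congr_fun (p2_inY q) x⟩

theorem p4_surjective (hgen : Algebra.adjoin Λ (Set.range s ∪ Set.range t) = ⊤) :
    Function.Surjective (p4 q s t) := by
  have hC : ∀ c, Polynomial.C c ∈ (p4 q s t).range := by
    intro c
    have hle : Algebra.adjoin Λ (Set.range s ∪ Set.range t) ≤ (p4 q s t).range.comap (cstP C) := by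
      rw [Algebra.adjoin_le_iff]
      rintro _ (⟨a, rfl⟩ | ⟨a, rfl⟩) <;> obtain ⟨x, rfl⟩ := hq a
      · exact ⟨inX x, DFunLike.congr_fun (p4_inX q s t) x⟩
      · exact ⟨inY x, DFunLike.congr_fun (p4_inY q s t) x⟩
    exact hle (hgen ▸ Algebra.mem_top)
  intro p
  induction p using Polynomial.induction_on' with
  | add p r hp hr => obtain ⟨x, rfl⟩ := hp; obtain ⟨y, rfl⟩ := hr; exact ⟨x + y, map_add _ _ _⟩
  | monomial k c =>
    obtain ⟨x, hx⟩ := hC c
    refine ⟨x * X none ^ k, ?_⟩
    rw [map_mul, map_pow, show p4 q s t x = _ from hx, ← Polynomial.C_mul_X_pow_eq_monomial]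
    simp [p4]

end Glue

/-- Idempotents over a polynomial ring are constant. -/
theorem idempotent_mv_const {n : ℕ} (e : K ⊗[Λ] MvPolynomial (Fin n) A) (he : IsIdempotentElem e) :
    e = bcHom K (cstM A n) (bcHom K ((MvPolynomial.aeval (R := A) (fun _ : Fin n => (0 : A))).restrictScalars Λ) e) := by
  let B := MvPolynomial (Fin n) A
  let Φ : B →ₐ[Λ] Polynomial B :=
    MvPolynomial.aevalTower ((IsScalarTower.toAlgHom Λ B (Polynomial B)).comp (cstM A n))
      (fun i => Polynomial.X * Polynomial.C (MvPolynomial.X i))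
  refine idempotent_eq_of_contraction K (cstM A n) _ Φ ?_ ?_ e he
  · refine AlgHom.ext fun p => ?_
    induction p using MvPolynomial.induction_on with
    | C a => simp [Φ, B, cstM_apply]
    | add p r hp hr => rw [map_add, map_add, hp, hr]
    | mul_X p i hp => rw [map_mul, map_mul, hp]; simp [Φ, B]
  · refine AlgHom.ext fun p => ?_
    induction p using MvPolynomial.induction_on with
    | C a => simp [Φ, B, cstM_apply]
    | add p r hp hr => rw [map_add, map_add, hp, hr]
    | mul_X p i hp => rw [map_mul, map_mul, hp]; simp [Φ, B, cstM_apply]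

/-- Idempotents over a univariate polynomial ring are constant. -/
theorem idempotent_poly_const (e : K ⊗[Λ] Polynomial C) (he : IsIdempotentElem e) :
    e = bcHom K (cstP C) (bcHom K ((Polynomial.aeval (R := C) (0 : C)).restrictScalars Λ) e) := by
  let B := Polynomial C
  let Φ : B →ₐ[Λ] Polynomial B :=
    Polynomial.eval₂AlgHom ((IsScalarTower.toAlgHom Λ B (Polynomial B)).comp (cstP C))
      (Polynomial.X * Polynomial.C Polynomial.X) (fun _ => Commute.all _ _)
  refine idempotent_eq_of_contraction K (cstP C) _ Φ ?_ ?_ e he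
  · refine AlgHom.ext fun p => ?_
    induction p using Polynomial.induction_on' with
    | add p r hp hr => rw [map_add, map_add, hp, hr]
    | monomial k c => simp [Φ, B, cstP_apply, ← Polynomial.C_mul_X_pow_eq_monomial]
  · refine AlgHom.ext fun p => ?_
    induction p using Polynomial.induction_on' with
    | add p r hp hr => rw [map_add, map_add, hp, hr]
    | monomial k c => simp [Φ, B, cstP_apply, ← Polynomial.C_mul_X_pow_eq_monomial]

theorem bcHom_mk_eq_zero_of_mem {P : Type u} [CommRing P] [Algebra Λ P] (J : Ideal P) (z : K ⊗[Λ] P)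
    (hz : z ∈ J.map (Algebra.TensorProduct.includeRight : P →ₐ[Λ] K ⊗[Λ] P)) :
    bcHom K (Ideal.Quotient.mkₐ Λ J) z = 0 := by
  have : J.map (Algebra.TensorProduct.includeRight : P →ₐ[Λ] K ⊗[Λ] P) ≤
      RingHom.ker (bcHom K (Ideal.Quotient.mkₐ Λ J)) := by
    rw [Ideal.map_le_iff_le_comap]
    intro x hx
    simp [bcHom, Ideal.Quotient.eq_zero_iff_mem.2 hx]
  exact this hz

theorem mul3_le {P : Type u} [CommRing P] (I₁ I₂ I₃ : Ideal P) :
    I₁ * I₂ * I₃ ≤ I₁ ∧ I₁ * I₂ * I₃ ≤ I₂ ∧ I₁ * I₂ * I₃ ≤ I₃ :=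
  ⟨Ideal.mul_le_left.trans Ideal.mul_le_left, Ideal.mul_le_left.trans Ideal.mul_le_right, Ideal.mul_le_right⟩

/-- The projection of the glued algebra on one piece. -/
theorem exists_lift_glue {P B : Type u} [CommRing P] [CommRing B] [Algebra Λ P] [Algebra Λ B] (J : Ideal P)
    (f : P →ₐ[Λ] B) (h : J ≤ RingHom.ker f) :
    ∃ ρ : (P ⧸ J) →ₐ[Λ] B, ρ.comp (Ideal.Quotient.mkₐ Λ J) = f :=
  ⟨Ideal.Quotient.liftₐ J f fun _ hx => RingHom.mem_ker.1 (h hx), Ideal.Quotient.liftₐ_comp J _ _⟩

open MvPolynomial in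
/-- A finitely presented algebra computing connectedness of the coequalizer. -/
theorem exists_glue [Algebra.FinitePresentation Λ A] [Algebra.FinitePresentation Λ C] (s t : A →ₐ[Λ] C)
    (μ : C →ₐ[Λ] A) (hμs : μ.comp s = AlgHom.id Λ A) (hμt : μ.comp t = AlgHom.id Λ A)
    (hgen : Algebra.adjoin Λ (Set.range s ∪ Set.range t) = ⊤) :
    ∃ (Q : Type u) (_ : CommRing Q) (_ : Algebra Λ Q), Algebra.FinitePresentation Λ Q ∧
      ∀ (K : Type u) [CommRing K] [Algebra Λ K],
        OnlyTrivialIdem (K ⊗[Λ] Q) ↔ CoeqConn s t K := by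
  obtain ⟨n, q, hq⟩ := Algebra.FiniteType.iff_quotient_mvPolynomial''.1 (inferInstance : Algebra.FiniteType Λ A)
  have hs1 := p1_surjective q hq
  have hs2 := p2_surjective q hq
  have hs4 := p4_surjective q s t hq hgen
  let J : Ideal (GP Λ n) := RingHom.ker (p1 q) * RingHom.ker (p2 q) * RingHom.ker (p4 q s t)
  haveI : Algebra.FinitePresentation Λ (MvPolynomial (Fin n) A) := Algebra.FinitePresentation.trans Λ A _
  haveI : Algebra.FinitePresentation Λ (Polynomial C) := Algebra.FinitePresentation.trans Λ C _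
  have hJ : J.FG :=
    ((Algebra.FinitePresentation.ker_fG_of_surjective (p1 q) hs1).mul
      (Algebra.FinitePresentation.ker_fG_of_surjective (p2 q) hs2)).mul
      (Algebra.FinitePresentation.ker_fG_of_surjective (p4 q s t) hs4)
  refine ⟨GP Λ n ⧸ J, inferInstance, inferInstance, Algebra.FinitePresentation.quotient hJ, fun K _ _ => ?_⟩
  let mk : GP Λ n →ₐ[Λ] GP Λ n ⧸ J := Ideal.Quotient.mkₐ Λ J
  obtain ⟨hJ1, hJ2, hJ4⟩ := mul3_le (RingHom.ker (p1 q)) (RingHom.ker (p2 q)) (RingHom.ker (p4 q s t))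
  obtain ⟨ρ1, hρ1⟩ : ∃ ρ1 : (GP Λ n ⧸ J) →ₐ[Λ] MvPolynomial (Fin n) A, ρ1.comp mk = p1 q := exists_lift_glue J _ hJ1
  obtain ⟨ρ2, hρ2⟩ : ∃ ρ2 : (GP Λ n ⧸ J) →ₐ[Λ] MvPolynomial (Fin n) A, ρ2.comp mk = p2 q := exists_lift_glue J _ hJ2
  obtain ⟨ρ4, hρ4⟩ : ∃ ρ4 : (GP Λ n ⧸ J) →ₐ[Λ] Polynomial C, ρ4.comp mk = p4 q s t := exists_lift_glue J _ hJ4
  let d1 : MvPolynomial (Fin n) A →ₐ[Λ] C := aevalTower s (fun i => t (q (X i)))
  let d2 : MvPolynomial (Fin n) A →ₐ[Λ] C := aevalTower t (fun i => s (q (X i)))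
  let h : MvPolynomial (Fin n) A →ₐ[Λ] A := (aeval (R := A) (fun _ : Fin n => (0 : A))).restrictScalars Λ
  let v0 : Polynomial C →ₐ[Λ] C := (Polynomial.aeval (R := C) (0 : C)).restrictScalars Λ
  let v1 : Polynomial C →ₐ[Λ] C := (Polynomial.aeval (R := C) (1 : C)).restrictScalars Λ
  have hhj : h.comp (cstM A n) = AlgHom.id Λ A := AlgHom.ext fun a => by simp [h, cstM_apply]
  have hvc1 : v1.comp (cstP C) = AlgHom.id Λ C := AlgHom.ext fun a => by simp [v1, cstP_apply]
  have hd1j : d1.comp (cstM A n) = s := AlgHom.ext fun a => by simp [d1, cstM_apply]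
  have hd2j : d2.comp (cstM A n) = t := AlgHom.ext fun a => by simp [d2, cstM_apply]
  refine onlyTrivialIdem_iff_coeqConn s t μ hμs hμt ρ1 ρ2 ρ4 (cstM A n) h (cstP C) v0 v1 d1 d2 hhj hvc1 hd1j hd2j
    ?_ ?_ ?_ (fun e he => idempotent_mv_const e he) (fun e he => idempotent_poly_const e he) ?_
  · refine Ideal.Quotient.algHom_ext Λ (MvPolynomial.algHom_ext fun o => ?_)
    show _ = _
    rw [AlgHom.comp_assoc, AlgHom.comp_assoc, hρ1, hρ4]
    rcases o with _ | i | i <;> simp [p1, p4, d1, v0]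
  · refine Ideal.Quotient.algHom_ext Λ (MvPolynomial.algHom_ext fun o => ?_)
    show _ = _
    rw [AlgHom.comp_assoc, AlgHom.comp_assoc, hρ2, hρ4]
    rcases o with _ | i | i <;> simp [p2, p4, d2, v1]
  · intro x hx1 hx2 hx4
    obtain ⟨y, hy⟩ := (TensorProduct.map_surjective Function.surjective_id Ideal.Quotient.mk_surjective :
      Function.Surjective (bcHom K mk)) x
    change bcHom K mk y = x at hy
    subst hy
    rw [← bcHom_comp, hρ1] at hx1
    rw [← bcHom_comp, hρ2] at hx2
    rw [← bcHom_comp, hρ4] at hx4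
    have m1 := (Algebra.TensorProduct.lTensor_ker (A := K) (p1 q) hs1).le (RingHom.mem_ker.2 hx1)
    have m2 := (Algebra.TensorProduct.lTensor_ker (A := K) (p2 q) hs2).le (RingHom.mem_ker.2 hx2)
    have m4 := (Algebra.TensorProduct.lTensor_ker (A := K) (p4 q s t) hs4).le (RingHom.mem_ker.2 hx4)
    have hmem := Ideal.mul_mem_mul (Ideal.mul_mem_mul m1 m2) m4
    rw [← Ideal.map_mul, ← Ideal.map_mul] at hmem
    rw [← map_pow, pow_three, ← mul_assoc]
    exact bcHom_mk_eq_zero_of_mem J _ hmem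
  · intro e hst
    obtain ⟨E, hE⟩ := (TensorProduct.map_surjective Function.surjective_id hq : Function.Surjective (bcHom K q)) e
    change bcHom K q E = e at hE
    subst hE
    let a : K ⊗[Λ] (GP Λ n ⧸ J) := 1 ⊗ₜ mk (X none)
    refine ⟨bcHom K (mk.comp inX) E * (1 - a) + bcHom K (mk.comp inY) E * a, ?_, ?_, ?_⟩
    · have ha : bcHom K ρ1 a = 0 := by
        show (1 : K) ⊗ₜ[Λ] ρ1 (mk (X none)) = 0
        rw [show ρ1 (mk (X none)) = p1 q (X none) from DFunLike.congr_fun hρ1 _]
        simp [p1]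
      simp only [map_add, map_mul, map_sub, map_one, ha, sub_zero, mul_one, mul_zero, add_zero]
      rw [← bcHom_comp, ← AlgHom.comp_assoc, hρ1, p1_inX, bcHom_comp]
    · have ha : bcHom K ρ2 a = 1 := by
        show (1 : K) ⊗ₜ[Λ] ρ2 (mk (X none)) = 1
        rw [show ρ2 (mk (X none)) = p2 q (X none) from DFunLike.congr_fun hρ2 _]
        simp [p2, Algebra.TensorProduct.one_def]
      simp only [map_add, map_mul, map_sub, map_one, ha, sub_self, mul_zero, mul_one, zero_add]
      rw [← bcHom_comp, ← AlgHom.comp_assoc, hρ2, p2_inY, bcHom_comp]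
    · simp only [map_add, map_mul, map_sub, map_one]
      rw [← bcHom_comp K ρ4 (mk.comp inX), ← bcHom_comp K ρ4 (mk.comp inY), ← AlgHom.comp_assoc,
        ← AlgHom.comp_assoc, hρ4, p4_inX, p4_inY, bcHom_comp, bcHom_comp, bcHom_comp K (cstP C) (t.comp q),
        bcHom_comp K t q, ← hst]
      ring

end Groth.Agent.CurveSchLib
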