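import Groth.Agent.CurveSchLib.ConnFamily

/-!
Openness of the locus of reduced and connected geometric fibres of a family of curves.
-/

set_option autoImplicit false
set_option backward.isDefEq.respectTransparency false
set_option backward.isDefEq.respectTransparency.types false
set_option linter.style.haveILetI false

universe u

open CategoryTheory CategoryTheory.Limits AlgebraicGeometry TensorProduct

namespace Groth.Agent.CurveSchLib

open _root_.AlgSp Groth.Agent.ASp

variable {S : Scheme.{u}} {n : ℕ} {A : CurvSt.SpFamObj S n}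

/-- The locus of reduced connected geometric fibres is open. -/
theorem isOpen_allAt_redConn (hA : CurvSt.IsCurveFam A) : IsOpen {s | AllAt A RedConnP s} := by
  have hredOpen := isOpen_allAt_reduced hA
  refine isOpen_iff_forall_mem_open.2 fun s₀ hs₀ => ?_
  obtain ⟨V, hV, hsV, -⟩ := exists_isAffineOpen_mem_and_subset (X := A.base.left) (x := s₀) (U := ⊤) trivial
  let Λ : Type u := Γ(A.base.left, V)
  let v : Spec (CommRingCat.of Λ) ⟶ A.base.left := hV.fromSpec
  haveI : IsOpenImmersion v := hV.isOpenImmersion_fromSpec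
  let b : Spec (CommRingCat.of Λ) ⟶ S := v ≫ A.base.hom
  let vo : Over.mk b ⟶ A.base := Over.homMk v rfl
  obtain ⟨hX, hfl, hprop, hfp, hdim⟩ := hA
  have hY := IsAlgSpace.yon_obj (S := S) A.base
  have hB := IsAlgSpace.yon_obj (S := S) (Over.mk b)
  have sqF := IsPullback.of_hasPullback A.f ((yon S).map vo)
  have hF : IsAlgSpace (pullback A.f ((yon S).map vo)) := isAlgSpace_pullback hY.diag hX hB _ _
  have hp := proper_baseChange hX hY hB sqF hprop
  haveI : CompactSpace ↥(Over.mk b).left := inferInstanceAs (CompactSpace (PrimeSpectrum Λ))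
  have hqc : IsQuasiCompactSp (pullback A.f ((yon S).map vo)) :=
    hp.2.1.2 hB (isQuasiCompactSp_yon _) (𝟙 _) (𝟙 _) (pullback.snd A.f ((yon S).map vo))
      (IsPullback.of_horiz_isIso ⟨by simp⟩)
  obtain ⟨D⟩ := nonempty_affChart b hF (pullback.snd A.f ((yon S).map vo)) hp.1 hqc
    (locP_of_isPullback (P := @Flat) sqF.flip hX hY hB hfl)
    (locP_of_isPullback (P := @LocallyOfFinitePresentation) sqF.flip hX hY hB hfp.1)
  haveI := D.flatA
  haveI := D.flatC
  haveI := D.fpA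
  haveI := D.fpC
  let O : Set (PrimeSpectrum Λ) := v ⁻¹' {s | AllAt A RedP s}
  have hO : IsOpen O := hredOpen.preimage v.continuous
  -- a geometric fibre, over the chart
  have hfib : ∀ (K : Type u) [Field K] [Algebra Λ K] (X' : Scheme.{u}) (q : X' ⟶ Spec (CommRingCat.of K))
      (i : (yon S).obj (A.ptOver (q ≫ Spec.map (CommRingCat.ofHom (algebraMap Λ K)) ≫ v)) ⟶ A.X),
      IsPullback i ((yon S).map (A.fibHom _ q)) A.f
        ((yon S).map (A.ptHom (Spec.map (CommRingCat.ofHom (algebraMap Λ K)) ≫ v))) →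
      ∃ (gK : (yon S).obj (A.ptOver (q ≫ Spec.map (CommRingCat.ofHom (algebraMap Λ K)) ≫ v)) ⟶
          pullback A.f ((yon S).map vo))
        (gR : (yon S).obj (A.ptOver (q ≫ Spec.map (CommRingCat.ofHom (algebraMap Λ K)) ≫ v)) ⟶ (yon S).obj (sObj b K)),
        IsPullback gK gR (pullback.snd A.f ((yon S).map vo)) ((yon S).map (sStr b K)) := by
    intro K _ _ X' q i hP
    let t := Spec.map (CommRingCat.ofHom (algebraMap Λ K)) ≫ v
    let σ : A.ptOver t ≅ sObj b K := Over.isoMk (Iso.refl _) (by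
      show 𝟙 _ ≫ Spec.map _ ≫ v ≫ A.base.hom = (Spec.map _ ≫ v) ≫ A.base.hom
      rw [Category.id_comp, Category.assoc])
    have hσ : A.ptHom t = σ.hom ≫ sStr b K ≫ vo := Over.OverMorphism.ext (by
      show t = 𝟙 _ ≫ Spec.map _ ≫ v
      rw [Category.id_comp])
    have h1 : IsPullback i ((yon S).map (A.fibHom t q ≫ σ.hom)) A.f ((yon S).map (sStr b K) ≫ (yon S).map vo) := by
      refine hP.of_iso (Iso.refl _) (Iso.refl _) ((yon S).mapIso σ) (Iso.refl _) (by simp) (by simp) (by simp) ?_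
      rw [Iso.refl_hom, Category.comp_id, Functor.mapIso_hom, ← Functor.map_comp, ← Functor.map_comp, ← hσ]
    refine ⟨sqF.lift i ((yon S).map (A.fibHom t q ≫ σ.hom) ≫ (yon S).map (sStr b K))
      (by rw [Category.assoc]; exact h1.w), (yon S).map (A.fibHom t q ≫ σ.hom), ?_⟩
    refine IsPullback.of_right ?_ (sqF.lift_snd _ _ _) sqF
    rwa [sqF.lift_fst]
  have hconn : ∀ (K : Type u) [Field K] [Algebra Λ K] (X' : Scheme.{u}) (q : X' ⟶ Spec (CommRingCat.of K))
      (i : (yon S).obj (A.ptOver (q ≫ Spec.map (CommRingCat.ofHom (algebraMap Λ K)) ≫ v)) ⟶ A.X),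
      IsPullback i ((yon S).map (A.fibHom _ q)) A.f
        ((yon S).map (A.ptHom (Spec.map (CommRingCat.ofHom (algebraMap Λ K)) ≫ v))) →
      (CoeqConn D.s D.t K ↔ ConnectedSpace ↥X') ∧ (IsReduced X' → _root_.IsReduced (K ⊗[Λ] D.A)) := by
    intro K _ _ X' q i hP
    obtain ⟨gK, gR, sqG⟩ := hfib K X' q i hP
    refine ⟨(coeqConn_iff_connected D sqG).trans ?_, fun hX' => ?_⟩
    · exact (Points.schemeHomeo _).symm.connectedSpace_iff
    · obtain ⟨aR, ha, -, -, -⟩ := exists_bcChart D sqG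
      obtain ⟨l, hl⟩ := (yon S).map_surjective aR
      rw [← hl] at ha
      haveI : Etale l.left := (repWith_yon_map_iff @Etale l).1 ha
      haveI : IsReduced (A.ptOver (q ≫ Spec.map (CommRingCat.ofHom (algebraMap Λ K)) ≫ v)).left := hX'
      haveI : IsReduced (Spec (CommRingCat.of (K ⊗[Λ] D.A))) := isReduced_of_etale l.left
      exact (affine_isReduced_iff (CommRingCat.of (K ⊗[Λ] D.A))).1 ‹_›
  have hpt : ∀ (K : Type u) [Field K] [Algebra Λ K] (p : PrimeSpectrum Λ), p.asIdeal = RingHom.ker (algebraMap Λ K) →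
      (Spec.map (CommRingCat.ofHom (algebraMap Λ K)) ≫ v) (IsLocalRing.closedPoint K) = v p := by
    intro K _ _ p hp
    rw [Scheme.Hom.comp_apply]
    refine congrArg (fun z => v z) (PrimeSpectrum.ext ?_)
    show Ideal.comap (algebraMap Λ K) (IsLocalRing.maximalIdeal K) = p.asIdeal
    rw [IsLocalRing.isField_iff_maximalIdeal_eq.1 (Field.toIsField K), hp]
    rfl
  have hE := isOpen_coeqConn (Λ := Λ) (A := D.A) (C := D.C) D.s D.t D.μ D.hμs D.hμt D.hgen O hO
    (fun Ω _ _ _ p hp hker => by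
      obtain ⟨X', q, i, hP⟩ := exists_geomFibre ⟨hX, hfl, hprop, hfp, hdim⟩ Ω
        (Spec.map (CommRingCat.ofHom (algebraMap Λ Ω)) ≫ v)
      exact (hconn Ω X' q i hP).2 (hp Ω _ (hpt Ω p hker) X' q i hP))
    (fun R _ _ _ _ k _ _ ψ hψ e he hst h0 => by
      have sqG := IsPullback.of_hasPullback (pullback.snd A.f ((yon S).map vo)) ((yon S).map (sStr b R))
      exact eq_zero_of_closed D sqG (isClosedMor_of_isProperMor (IsAlgSpace.yon_obj _)
        (proper_baseChange hF hB (IsAlgSpace.yon_obj _) sqG hp)) ψ hψ e he hst h0)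
  refine ⟨v '' {p : PrimeSpectrum Λ | p ∈ O ∧ ∀ (K : Type u) [Field K] [IsAlgClosed K] [Algebra Λ K],
      p.asIdeal = RingHom.ker (algebraMap Λ K) → CoeqConn D.s D.t K}, ?_, v.isOpenEmbedding.isOpenMap _ hE, ?_⟩
  · rintro _ ⟨p, ⟨hpO, hpc⟩, rfl⟩ Ω _ _ t ht X' q i hP
    refine ⟨hpO Ω t ht X' q i hP, ?_⟩
    obtain ⟨l, hl⟩ : ∃ l, l ≫ v = t := by
      refine ⟨IsOpenImmersion.lift v t ?_, IsOpenImmersion.lift_fac _ _ _⟩
      rintro _ ⟨z, rfl⟩
      rw [Subsingleton.elim (α := PrimeSpectrum Ω) z (IsLocalRing.closedPoint Ω), ht]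
      exact ⟨p, rfl⟩
    obtain ⟨φ, rfl⟩ := Spec.map_surjective l
    letI : Algebra Λ Ω := φ.hom.toAlgebra
    obtain rfl : t = Spec.map (CommRingCat.ofHom (algebraMap Λ Ω)) ≫ v := hl.symm
    refine (hconn Ω X' q i hP).1.1 (hpc Ω ?_)
    have h1 : Spec.map (CommRingCat.ofHom (algebraMap Λ Ω)) (IsLocalRing.closedPoint Ω) = p :=
      v.isOpenEmbedding.injective (by rw [← Scheme.Hom.comp_apply]; exact ht)
    rw [← h1]
    show Ideal.comap (algebraMap Λ Ω) (IsLocalRing.maximalIdeal Ω) = RingHom.ker (algebraMap Λ Ω)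
    rw [IsLocalRing.isField_iff_maximalIdeal_eq.1 (Field.toIsField Ω)]
    rfl
  · obtain ⟨p, hp⟩ : ∃ p, v p = s₀ := by
      have : s₀ ∈ Set.range v := by rw [show Set.range v = V from hV.range_fromSpec]; exact hsV
      exact this
    refine ⟨p, ⟨fun Ω _ _ t ht X' q i hP => (hs₀ Ω t (ht.trans hp) X' q i hP).1, fun K _ _ _ hker => ?_⟩, hp⟩
    obtain ⟨X', q, i, hP⟩ := exists_geomFibre ⟨hX, hfl, hprop, hfp, hdim⟩ K
      (Spec.map (CommRingCat.ofHom (algebraMap Λ K)) ≫ v)
    exact (hconn K X' q i hP).1.2 (hs₀ K _ ((hpt K p hker).trans hp) X' q i hP).2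

end Groth.Agent.CurveSchLib
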