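import Groth.Agent.CurveSchLib.ConnOpen
import Groth.Agent.S10692

/-!
The locus where the geometric fibres of a family of curves have dimension one is open.
-/

set_option autoImplicit false
set_option backward.isDefEq.respectTransparency false
set_option backward.isDefEq.respectTransparency.types false
set_option linter.style.haveILetI false

universe u

open CategoryTheory CategoryTheory.Limits AlgebraicGeometry

namespace Groth.Agent.CurveSchLib

open _root_.AlgSp Groth.Agent.ASp

/-- Fibres of dimension one. -/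
abbrev DimOneP : FibPred.{u} := fun _ _ _ X' _ => topologicalKrullDim ↥X' = 1

/-- Reduced, connected fibres of dimension one. -/
abbrev RedConnDimP : FibPred.{u} := fun _ _ _ X' _ =>
  IsReduced X' ∧ ConnectedSpace ↥X' ∧ topologicalKrullDim ↥X' = 1

theorem invExt_dimOne : InvExt DimOneP.{u} := by
  intro Ω _ _ Ω' _ _ σ X' q X'' q' π hq hπ
  haveI := hq
  show topologicalKrullDim ↥X' = 1 ↔ topologicalKrullDim ↥X'' = 1
  rw [CurvLocLib.topologicalKrullDim_fieldExt (p := q) hπ]

theorem invExt_redConnDim : InvExt RedConnDimP.{u} := by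
  intro Ω _ _ Ω' _ _ σ X' q X'' q' π hq hπ
  exact and_congr (invExt_reduced Ω Ω' σ X' q X'' q' π hq hπ)
    (and_congr (invExt_connected Ω Ω' σ X' q X'' q' π hq hπ) (invExt_dimOne Ω Ω' σ X' q X'' q' π hq hπ))

variable {S : Scheme.{u}} {n : ℕ} {A : CurvSt.SpFamObj S n}

theorem isOpen_allAt_dimOne (hA : CurvSt.IsCurveFam A) : IsOpen {s | AllAt A DimOneP s} := by
  let X : Space S := ⟨A.X, hA.1⟩
  let Y : Space S := ⟨(yon S).obj A.base, IsAlgSpace.yon_obj _⟩
  let f : X ⟶ Y := ObjectProperty.homMk A.f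
  have hlft : LocP @LocallyOfFiniteType f.hom := hA.2.2.1.2.1.1
  have ho := (Groth.Agent.S10692.result f hA.2.2.1 hA.2.1 hA.2.2.2.1 1).preimage
    (Points.schemeHomeo A.base).continuous
  obtain ⟨D⟩ := FibreChart.nonempty f (𝟙 ((yon S).obj A.base))
  have hpt : ∀ s, Points.ofPt (𝟙 ((yon S).obj A.base)) s = Points.schemeHomeo A.base s := fun s => rfl
  have key : ∀ (s : ↥A.base.left) (Ω : Type u) [Field Ω] (t : Spec (CommRingCat.of Ω) ⟶ A.base.left),
      t (IsLocalRing.closedPoint Ω) = s → ∀ (X' : Scheme.{u}) (q : X' ⟶ Spec (CommRingCat.of Ω))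
      (i : (yon S).obj (A.ptOver (q ≫ t)) ⟶ A.X),
      IsPullback i ((yon S).map (A.fibHom t q)) A.f ((yon S).map (A.ptHom t)) →
      topologicalKrullDim ↥X' = topologicalKrullDim ↥(D.g.left.fiber s) := by
    intro s Ω _ t ht X' q i hP
    have h := D.dim_eq hlft s (schPt t) (by rw [mk_schPt, ht, hpt]) (fst := i)
      (snd := (yon S).map (A.fibHom t q)) (by rw [toHom_schPt]; exact hP)
    rw [← h, dim_eq_of_atlas (repWith_of_isIso (𝟙 ((yon S).obj (A.ptOver (q ≫ t))))) (repWith_of_isIso _)]
    rfl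
  convert ho using 1
  ext s
  have hiff := forall_fibre_iff D hlft (fun e => e = 1) s
  rw [hpt] at hiff
  refine Iff.trans ?_ hiff.symm
  constructor
  · intro h
    let L := AlgebraicClosure ↥(A.base.left.residueField s)
    let t : Spec (CommRingCat.of L) ⟶ A.base.left :=
      Spec.map (CommRingCat.ofHom (algebraMap ↥(A.base.left.residueField s) L)) ≫ A.base.left.fromSpecResidueField s
    obtain ⟨X', q, i, hP⟩ := exists_geomFibre hA L t
    have ht : t (IsLocalRing.closedPoint L) = s := by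
      rw [Scheme.Hom.comp_apply]
      exact Scheme.fromSpecResidueField_apply _ _
    exact (key s L t ht X' q i hP).symm.trans (h L t ht X' q i hP)
  · intro h Ω _ _ t ht X' q i hP
    exact (key s Ω t ht X' q i hP).trans h

theorem isOpen_allAt_redConnDim (hA : CurvSt.IsCurveFam A) : IsOpen {s | AllAt A RedConnDimP s} := by
  convert (isOpen_allAt_redConn hA).inter (isOpen_allAt_dimOne hA) using 1
  ext s
  exact ⟨fun h => ⟨fun Ω _ _ t ht X' q i hP => ⟨(h Ω t ht X' q i hP).1, (h Ω t ht X' q i hP).2.1⟩,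
      fun Ω _ _ t ht X' q i hP => (h Ω t ht X' q i hP).2.2⟩,
    fun h Ω _ _ t ht X' q i hP => ⟨(h.1 Ω t ht X' q i hP).1, (h.1 Ω t ht X' q i hP).2, h.2 Ω t ht X' q i hP⟩⟩

end Groth.Agent.CurveSchLib
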