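import Mathlib

/-!
A function with poles at all branches through a closed point of a curve: the inverse of a large power
extends over the point.
-/

set_option autoImplicit false

universe u

open Polynomial

namespace Groth.Agent.CurveSchLib

/-- Powers of an ideal bounded by a finite birational extension land in a principal ideal. -/
theorem exists_pow_mul_mem_span {B Bh : Type u} [CommRing B] [CommRing Bh] [Algebra B Bh] (h : B)
    [IsLocalization.Away h Bh] (T : Subalgebra B Bh) (hT : (Subalgebra.toSubmodule T).FG) :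
    ∃ M : ℕ, ∀ x ∈ T, ∃ y : B, algebraMap B Bh h ^ M * x = algebraMap B Bh y := by
  classical
  obtain ⟨S, hS⟩ := hT
  choose e y hy using fun x : Bh => IsLocalization.Away.surj h x
  refine ⟨S.sup e, fun x hx => ?_⟩
  have hx' : x ∈ Submodule.span B (S : Set Bh) := by rw [hS]; exact hx
  refine Submodule.span_induction (fun g hg => ?_) ⟨0, by simp⟩ ?_ ?_ hx'
  · obtain ⟨c, hc⟩ := Nat.exists_eq_add_of_le (Finset.le_sup (f := e) hg)
    refine ⟨h ^ c * y g, ?_⟩
    rw [hc, map_mul, map_pow, ← hy g, pow_add]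
    ring
  · rintro a b - - ⟨ya, ha⟩ ⟨yb, hb⟩
    exact ⟨ya + yb, by rw [mul_add, ha, hb, map_add]⟩
  · rintro c a - ⟨ya, ha⟩
    exact ⟨c * ya, by rw [Algebra.smul_def, map_mul, ← ha]; ring⟩

/-- Near a prime minimal over `h`, powers of the prime fall into the ideal of `h`. -/
theorem exists_mul_pow_le_span {B : Type u} [CommRing B] [IsNoetherianRing B] (h : B) (m : Ideal B)
    (hm : m ∈ (Ideal.span {h}).minimalPrimes) :
    ∃ (b : B) (e : ℕ), b ∉ m ∧ ∀ x ∈ m ^ e, b * x ∈ Ideal.span {h} := by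
  classical
  haveI : m.IsPrime := hm.1.1
  have hfin : (Ideal.span {h} : Ideal B).minimalPrimes.Finite := Ideal.finite_minimalPrimes_of_isNoetherianRing B _
  have hex : ∀ q ∈ hfin.toFinset.erase m, ∃ b, b ∈ q ∧ b ∉ m := fun q hq => by
    obtain ⟨hne, hq'⟩ := Finset.mem_erase.1 hq
    rw [Set.Finite.mem_toFinset] at hq'
    exact SetLike.not_le_iff_exists.1 fun hle => hne (le_antisymm hle (hm.2 hq'.1 hle))
  choose! f hf hfm using hex
  let b₀ := ∏ q ∈ hfin.toFinset.erase m, f q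
  have hb₀ : b₀ ∉ m := fun hb => by
    obtain ⟨q, hq, hqm⟩ := (Ideal.IsPrime.prod_mem_iff (p := m)).1 hb
    exact hfm q hq hqm
  obtain ⟨e, he⟩ := Ideal.exists_radical_pow_le_of_fg (Ideal.span {h} : Ideal B) (IsNoetherian.noetherian _)
  refine ⟨b₀ ^ e, e, fun hb => hb₀ (Ideal.IsPrime.mem_of_pow_mem (hI := inferInstance) _ hb), fun x hx => he ?_⟩
  have hle : Ideal.span {b₀} * m ≤ (Ideal.span {h} : Ideal B).radical := by
    rw [← Ideal.sInf_minimalPrimes]
    refine le_sInf fun q hq => ?_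
    by_cases hqm : q = m
    · subst hqm
      exact Ideal.mul_le.2 fun r _ x hx => q.mul_mem_left r hx
    · refine Ideal.mul_le.2 fun r hr x _ => q.mul_mem_right x ((?_ : Ideal.span {b₀} ≤ q) hr)
      refine (Ideal.span_singleton_le_iff_mem _).2 ?_
      haveI : q.IsPrime := hq.1.1
      exact (Ideal.IsPrime.prod_mem_iff (p := q)).2
        ⟨q, Finset.mem_erase.2 ⟨hqm, hfin.mem_toFinset.2 hq⟩,
          hf q (Finset.mem_erase.2 ⟨hqm, hfin.mem_toFinset.2 hq⟩)⟩
  refine Ideal.pow_right_mono hle e ?_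
  rw [mul_pow, Ideal.span_singleton_pow]
  exact Ideal.mul_mem_mul (Ideal.mem_span_singleton_self _) hx

variable {B Bh : Type u} [CommRing B] [CommRing Bh] [Algebra B Bh] (h : B) [IsLocalization.Away h Bh]
include h

/-- An element with a pole along every valuation centred at `m` satisfies a relation with coefficients in `m`. -/
theorem exists_aeval_eq_one (hinj : Function.Injective (algebraMap B Bh)) (m : Ideal B) (σ : Bh)
    (H : ∀ (L : Type u) [Field L] (g : Bh →+* L) (R : ValuationSubring L), (∀ x, g (algebraMap B Bh x) ∈ R) →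
      (∀ x ∈ m, g (algebraMap B Bh x) ∈ R.nonunits) → g σ ∉ R) :
    ∃ p : B[X], p ∈ m.map C ∧ aeval σ p = 1 := by
  let P := Algebra.adjoin B ({σ} : Set Bh)
  let π : B[X] →ₐ[B] P := (aeval σ).codRestrict P fun q => aeval_mem_adjoin_singleton B σ
  have hπ : Function.Surjective π := fun x => by
    obtain ⟨q, hq⟩ := (SetLike.ext_iff.1 (Algebra.adjoin_singleton_eq_range_aeval B σ) (x : Bh)).1 x.2
    exact ⟨q, Subtype.ext hq⟩
  let I : Ideal P := (m.map C).map π.toRingHom
  suffices hI : I = ⊤ by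
    obtain ⟨p, hp, hp1⟩ := (Ideal.mem_map_iff_of_surjective π.toRingHom hπ).1 (hI.ge (Submodule.mem_top (x := 1)))
    exact ⟨p, hp, congrArg Subtype.val hp1⟩
  by_contra hne
  obtain ⟨Q, hQ, hIQ⟩ := Ideal.exists_le_maximal I hne
  obtain ⟨q, hq, hqQ⟩ := Ideal.exists_minimalPrimes_le (I := (⊥ : Ideal P)) (J := Q) bot_le
  haveI : q.IsPrime := hq.1.1
  have hu : IsUnit (algebraMap B Bh h) := IsLocalization.Away.algebraMap_isUnit h
  have hhq : algebraMap B P h ∉ q := by
    intro hh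
    obtain ⟨x, hx0, hx⟩ : ∃ x : P, x ≠ 0 ∧ algebraMap B P h * x = 0 := by
      by_contra hno
      push Not at hno
      refine Set.disjoint_left.1 (Ideal.disjoint_nonZeroDivisors_of_mem_minimalPrimes hq) hh ?_
      exact mem_nonZeroDivisors_iff_left.2 fun x hx => by_contra fun hx0 => hno x hx0 hx
    refine hx0 (Subtype.ext ?_)
    have h1 : algebraMap B Bh h * (x : Bh) = 0 := congrArg Subtype.val hx
    exact (hu.mul_right_eq_zero).1 h1
  let L := FractionRing (P ⧸ q)
  let g₀ : P →+* L := (algebraMap (P ⧸ q) L).comp (Ideal.Quotient.mk q)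
  have hk : RingHom.ker g₀ = q := by
    ext x
    simp [g₀, RingHom.mem_ker, Ideal.Quotient.eq_zero_iff_mem]
  have hgh : IsUnit (g₀.comp (algebraMap B P) h) := by
    refine isUnit_iff_ne_zero.2 fun h0 => hhq ?_
    rw [← hk]; exact h0
  let g : Bh →+* L := IsLocalization.Away.lift h hgh
  have hgB : ∀ x, g (algebraMap B Bh x) = g₀ (algebraMap B P x) := fun x => IsLocalization.Away.lift_eq h hgh x
  have hgP : ∀ x : P, g (x : Bh) = g₀ x := fun x => by
    obtain ⟨e, y, hy⟩ : ∃ (e : ℕ) (y : B), (x : Bh) * algebraMap B Bh h ^ e = algebraMap B Bh y :=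
      IsLocalization.Away.surj h (x : Bh) |>.imp fun e ⟨y, hy⟩ => ⟨y, hy⟩
    have hy' : x * algebraMap B P h ^ e = algebraMap B P y := Subtype.ext hy
    refine (hgh.pow e).mul_left_injective ?_
    calc g (x : Bh) * (g₀.comp (algebraMap B P) h) ^ e = g ((x : Bh) * algebraMap B Bh h ^ e) := by
          rw [map_mul, map_pow, hgB]; rfl
      _ = g₀ (algebraMap B P y) := by rw [hy, hgB]
      _ = g₀ x * (g₀.comp (algebraMap B P) h) ^ e := by rw [← hy', map_mul, map_pow]; rfl
  obtain ⟨R, hR, hRQ⟩ := Ideal.image_subset_nonunits_valuationSubring (A := g₀.range)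
    (Q.map g₀.rangeRestrict) (by
      intro htop
      have h1 := congrArg (Ideal.comap g₀.rangeRestrict) htop
      rw [Ideal.comap_map_of_surjective _ g₀.rangeRestrict_surjective, Ideal.comap_top, ← RingHom.ker_eq_comap_bot,
        RingHom.ker_rangeRestrict, hk, sup_eq_left.2 hqQ] at h1
      exact hQ.ne_top h1)
  refine H L g R (fun x => hR ⟨algebraMap B P x, (hgB x).symm⟩) (fun x hx => ?_) (hR ⟨π X, ?_⟩)
  · refine hRQ ⟨g₀.rangeRestrict (algebraMap B P x), Ideal.mem_map_of_mem _ (hIQ ?_), (hgB x).symm⟩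
    have : algebraMap B P x = π (C x) := Subtype.ext (aeval_C σ x).symm
    rw [this]
    exact Ideal.mem_map_of_mem _ (Ideal.mem_map_of_mem _ hx)
  · rw [← hgP]
    exact congrArg g (aeval_X σ)

/-- The inverse of a large power of an element with poles along all branches at `m` is a regular function near `m`. -/
theorem exists_inv_pow_regular [IsNoetherianRing B] (hinj : Function.Injective (algebraMap B Bh)) (m : Ideal B)
    (hm : m ∈ (Ideal.span {h}).minimalPrimes) (σ : Bh)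
    (H : ∀ (L : Type u) [Field L] (g : Bh →+* L) (R : ValuationSubring L), (∀ x, g (algebraMap B Bh x) ∈ R) →
      (∀ x ∈ m, g (algebraMap B Bh x) ∈ R.nonunits) → g σ ∉ R) :
    ∃ (b : B) (N₀ : ℕ), b ∉ m ∧ ∀ N, N₀ ≤ N → ∃ (q : B) (j : ℕ),
      algebraMap B Bh q * σ ^ N = algebraMap B Bh (b ^ j) := by
  classical
  haveI : m.IsPrime := hm.1.1
  obtain ⟨p, hp, hp1⟩ := exists_aeval_eq_one h hinj m σ H
  rw [Ideal.mem_map_C_iff] at hp
  let a : B → Bh := algebraMap B Bh
  let D := p.natDegree + 1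
  have h0 : 1 = a (p.coeff 0) + σ * ∑ i ∈ Finset.range D, a (p.coeff (i + 1)) * σ ^ i := by
    rw [← hp1, aeval_eq_sum_range' (show p.natDegree < D + 1 by omega), Finset.sum_range_succ', add_comm,
      Finset.mul_sum]
    congr 1
    · simp [Algebra.smul_def, a]
    · refine Finset.sum_congr rfl fun i _ => ?_
      rw [Algebra.smul_def, pow_succ]
      ring
  set w : Bh := ∑ i ∈ Finset.range D, a (p.coeff (i + 1)) * σ ^ i with hw
  let δ : B := 1 - p.coeff 0
  have hδ : δ ∉ m := fun hd => (Ideal.IsPrime.ne_top ‹_›) ((Ideal.eq_top_iff_one _).2 (by simpa [δ] using add_mem hd (hp 0)))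
  have hσw : σ * w = a δ := by
    simp only [δ, a, map_sub, map_one]
    linear_combination -h0
  let θ : Bh := a δ * w
  have hθσ : θ * σ = a δ ^ 2 := by
    rw [show θ * σ = a δ * (σ * w) by ring, hσw]; ring
  let T₁ := Algebra.adjoin B ({θ} : Set Bh)
  let f : B[X] := X ^ D - ∑ i ∈ Finset.range D, C (p.coeff (i + 1) * δ ^ (2 * i + 1)) * X ^ (D - 1 - i)
  have hrel : θ ^ D = ∑ i ∈ Finset.range D, a (p.coeff (i + 1) * δ ^ (2 * i + 1)) * θ ^ (D - 1 - i) := by
    have h1 : θ ^ D = θ ^ (D - 1) * (a δ * w) := by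
      rw [← pow_succ, show D - 1 + 1 = D by omega]
    rw [h1, hw, Finset.mul_sum, Finset.mul_sum]
    refine Finset.sum_congr rfl fun i hi => ?_
    have hi' : i ≤ D - 1 := by have := Finset.mem_range.1 hi; omega
    have h2 : θ ^ (D - 1) = θ ^ (D - 1 - i) * θ ^ i := by rw [← pow_add, Nat.sub_add_cancel hi']
    have h3 : θ ^ i * σ ^ i = a δ ^ (2 * i) := by rw [← mul_pow, hθσ, ← pow_mul]
    simp only [a, map_mul, map_pow] at h2 h3 ⊢
    rw [h2]
    linear_combination (θ ^ (D - 1 - i) * algebraMap B Bh δ * algebraMap B Bh (p.coeff (i + 1))) * h3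
  have hfd : (∑ i ∈ Finset.range D, C (p.coeff (i + 1) * δ ^ (2 * i + 1)) * X ^ (D - 1 - i)).degree < ((D : ℕ) : WithBot ℕ) := by
    refine lt_of_le_of_lt (degree_sum_le _ _) ((Finset.sup_lt_iff (WithBot.bot_lt_coe D)).2 fun i hi => ?_)
    refine lt_of_le_of_lt (degree_C_mul_X_pow_le _ _) ?_
    refine Nat.cast_lt.2 ?_
    change p.natDegree + 1 - 1 - i < p.natDegree + 1
    omega
  have hf : f.Monic := monic_X_pow_sub hfd
  have hint : IsIntegral B θ := ⟨f, hf, by
    change aeval θ f = 0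
    simp only [f, map_sub, map_pow, aeval_X, map_sum, map_mul, aeval_C, hrel, a]
    simp⟩
  have hfg : (Subalgebra.toSubmodule T₁).FG := hint.fg_adjoin_singleton
  obtain ⟨M, hM⟩ := exists_pow_mul_mem_span h T₁ hfg
  obtain ⟨b₂, e, hb₂, he⟩ := exists_mul_pow_le_span h m hm
  let n := M + 1
  let J : Ideal T₁ := m.map (algebraMap B T₁)
  let θ₁ : T₁ := ⟨θ, Algebra.self_mem_adjoin_singleton B θ⟩
  have hθJ : θ₁ ^ D ∈ J := by
    have : θ₁ ^ D = ∑ i ∈ Finset.range D, algebraMap B T₁ (p.coeff (i + 1) * δ ^ (2 * i + 1)) * θ₁ ^ (D - 1 - i) :=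
      Subtype.ext (by simpa [θ₁, a] using hrel)
    rw [this]
    exact Ideal.sum_mem _ fun i _ => Ideal.mul_mem_right _ _ (Ideal.mem_map_of_mem _ (Ideal.mul_mem_right _ _ (hp _)))
  refine ⟨b₂ * δ, D * (e * n), fun hb => ((Ideal.IsPrime.mem_or_mem ‹_› hb).elim hb₂ hδ), fun N hN => ?_⟩
  have hmem : ∀ y : B, y ∈ m ^ (e * n) → b₂ ^ n * y ∈ Ideal.span {h ^ n} := by
    intro y hy
    rw [← Ideal.span_singleton_pow]
    have h1 : Ideal.span {b₂} * m ^ e ≤ Ideal.span {h} := Ideal.mul_le.2 fun r hr x hx => by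
      obtain ⟨c, rfl⟩ := Ideal.mem_span_singleton'.1 hr
      rw [mul_assoc]
      exact Ideal.mul_mem_left _ _ (he x hx)
    refine Ideal.pow_right_mono h1 n ?_
    rw [mul_pow, Ideal.span_singleton_pow, ← pow_mul]
    exact Ideal.mul_mem_mul (Ideal.mem_span_singleton_self _) hy
  have hθN : θ₁ ^ N ∈ (m ^ (e * n)).map (algebraMap B T₁) := by
    rw [← Nat.sub_add_cancel hN, pow_add]
    refine Ideal.mul_mem_left _ _ ?_
    rw [Ideal.map_pow, pow_mul θ₁ D]
    exact Ideal.pow_mem_pow hθJ _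
  have key : ∀ z ∈ (m ^ (e * n)).map (algebraMap B T₁), ∃ y : B, a (b₂ ^ n) * (z : Bh) = a y := by
    intro z hz
    refine Submodule.span_induction (fun z hz => ?_) ⟨0, by simp [a]⟩ ?_ ?_ hz
    · obtain ⟨y, hy, rfl⟩ := hz
      exact ⟨b₂ ^ n * y, (map_mul _ _ _).symm⟩
    · rintro x y - - ⟨c, hc⟩ ⟨d, hd⟩
      exact ⟨c + d, by simp only [AddMemClass.coe_add, mul_add, hc, hd, a, map_add]⟩
    · rintro t z hz -
      suffices ∀ z ∈ (m ^ (e * n)).map (algebraMap B T₁), ∃ v : T₁, a (b₂ ^ n) * (z : Bh) = a h ^ n * (v : Bh) by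
        obtain ⟨v, hv⟩ := this z hz
        obtain ⟨y, hy⟩ := hM ((t * v : T₁) : Bh) (t * v).2
        refine ⟨h * y, ?_⟩
        calc a (b₂ ^ n) * ((t • z : T₁) : Bh) = (t : Bh) * (a (b₂ ^ n) * (z : Bh)) := by
              rw [smul_eq_mul, MulMemClass.coe_mul]; ring
          _ = (t : Bh) * (a h ^ n * (v : Bh)) := by rw [hv]
          _ = a h * (a h ^ M * ((t * v : T₁) : Bh)) := by rw [MulMemClass.coe_mul, pow_succ]; ring
          _ = a (h * y) := by simp only [a] at hy ⊢; rw [hy, map_mul]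
      intro z hz
      refine Submodule.span_induction (fun z hz => ?_) ⟨0, by simp⟩ ?_ ?_ hz
      · obtain ⟨y, hy, rfl⟩ := hz
        obtain ⟨c, hc⟩ := Ideal.mem_span_singleton'.1 (hmem y hy)
        refine ⟨algebraMap B T₁ c, ?_⟩
        change a (b₂ ^ n) * a y = a h ^ n * a c
        simp only [a, ← map_pow, ← map_mul]
        rw [← hc, mul_comm]
      · rintro x y - - ⟨c, hc⟩ ⟨d, hd⟩
        exact ⟨c + d, by rw [AddMemClass.coe_add, AddMemClass.coe_add, mul_add, hc, hd, mul_add]⟩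
      · rintro t z - ⟨c, hc⟩
        exact ⟨t * c, by rw [smul_eq_mul, MulMemClass.coe_mul, MulMemClass.coe_mul, mul_left_comm, hc]; ring⟩
  obtain ⟨y, hy⟩ := key _ hθN
  refine ⟨b₂ ^ (2 * N) * δ ^ n * y, n + 2 * N, ?_⟩
  have hy' : a b₂ ^ n * θ ^ N = a y := by simpa [θ₁, a] using hy
  simp only [a] at hy'
  rw [map_mul, map_mul, ← hy', map_pow, map_pow, map_pow, map_mul, mul_pow (algebraMap B Bh b₂)]
  have h4 : θ ^ N * σ ^ N = algebraMap B Bh δ ^ (2 * N) := by rw [← mul_pow, hθσ, ← pow_mul]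
  linear_combination (algebraMap B Bh b₂ ^ (n + 2 * N) * algebraMap B Bh δ ^ n) * h4

end Groth.Agent.CurveSchLib
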