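import Mathlib
import Groth.Agent.CurveSchLib.Punctured

/-!
Extending the inverse of a large power of a function with poles over the missing points of an affine
curve to a morphism to the affine line.
-/

set_option autoImplicit false
set_option backward.isDefEq.respectTransparency false
set_option backward.isDefEq.respectTransparency.types false
set_option linter.style.haveILetI false

universe u

open CategoryTheory CategoryTheory.Limits AlgebraicGeometry Polynomial TopologicalSpace

namespace Groth.Agent.CurveSchLib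

variable {k B A : Type u} [CommRing k] [CommRing B] [CommRing A]

/-- The open immersion of a standard open. -/
noncomputable abbrev awayι (h : B) : Spec (CommRingCat.of (Localization.Away h)) ⟶ Spec (CommRingCat.of B) :=
  Spec.map (CommRingCat.ofHom (algebraMap B (Localization.Away h)))

theorem range_awayι (h : B) : Set.range (awayι h) = (PrimeSpectrum.basicOpen h : Set (PrimeSpectrum B)) :=
  PrimeSpectrum.localization_away_comap_range (Localization.Away h) h

theorem isOpenImmersion_awayι (h : B) : IsOpenImmersion (awayι h) :=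
  AlgebraicGeometry.Scheme.isOpenImmersion_SpecMap_localizationAway (R := CommRingCat.of B) h

/-- The map to the affine line given by the inverse of the `N`-th power of a function, on its nonvanishing locus. -/
noncomputable abbrev invPowMap (κA : k →+* A) (s : A) (N : ℕ) :
    Spec (CommRingCat.of (Localization.Away s)) ⟶ Spec (CommRingCat.of k[X]) :=
  Spec.map (CommRingCat.ofHom (eval₂RingHom ((algebraMap A (Localization.Away s)).comp κA)
    (IsLocalization.Away.invSelf s ^ N)))

/-- A minimal prime lies in every dense open. -/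
theorem minimalPrime_mem_of_dense [IsNoetherianRing B] {W : Set (PrimeSpectrum B)} (hW : IsOpen W) (hd : Dense W)
    (η : PrimeSpectrum B) (hη : η.asIdeal ∈ minimalPrimes B) : η ∈ W := by
  classical
  have hfin : (minimalPrimes B).Finite := minimalPrimes.finite_of_isNoetherianRing B
  have hex : ∀ q ∈ hfin.toFinset.erase η.asIdeal, ∃ g, g ∈ q ∧ g ∉ η.asIdeal := fun q hq => by
    obtain ⟨hne, hq'⟩ := Finset.mem_erase.1 hq
    rw [Set.Finite.mem_toFinset] at hq'
    exact SetLike.not_le_iff_exists.1 fun hle => hne (le_antisymm hle (hη.2 hq'.1 hle))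
  choose! f hf hfm using hex
  let g := ∏ q ∈ hfin.toFinset.erase η.asIdeal, f q
  have hg : g ∉ η.asIdeal := fun hb => by
    obtain ⟨q, hq, hqm⟩ := (Ideal.IsPrime.prod_mem_iff (p := η.asIdeal)).1 hb
    exact hfm q hq hqm
  obtain ⟨P, hP, hPW⟩ := hd.inter_open_nonempty (PrimeSpectrum.basicOpen g : Set (PrimeSpectrum B))
    (PrimeSpectrum.basicOpen g).isOpen ⟨η, hg⟩
  obtain ⟨q, hq, hqP⟩ := Ideal.exists_minimalPrimes_le (I := (⊥ : Ideal B)) (J := P.asIdeal) bot_le
  have hqη : q = η.asIdeal := by_contra fun hne => hP (hqP (by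
    haveI : q.IsPrime := hq.1.1
    exact (Ideal.IsPrime.prod_mem_iff (p := q)).2
      ⟨q, Finset.mem_erase.2 ⟨hne, hfin.mem_toFinset.2 hq⟩, hf q (Finset.mem_erase.2 ⟨hne, hfin.mem_toFinset.2 hq⟩)⟩))
  exact ((PrimeSpectrum.le_iff_specializes η P).1 (show η.asIdeal ≤ P.asIdeal from hqη ▸ hqP)).mem_open hW hPW

/-- A dense open contains a standard dense open, whose complement is finite in dimension one. -/
theorem exists_regular_basicOpen_le [IsNoetherianRing B] [_root_.IsReduced B] [Ring.KrullDimLE 1 B]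
    {W : Set (PrimeSpectrum B)} (hW : IsOpen W) (hd : Dense W) :
    ∃ h : B, (PrimeSpectrum.basicOpen h : Set (PrimeSpectrum B)) ⊆ W ∧
      Dense (PrimeSpectrum.basicOpen h : Set (PrimeSpectrum B)) ∧ h ∈ nonZeroDivisors B ∧
      ∀ z : PrimeSpectrum B, h ∈ z.asIdeal → z.asIdeal.IsMaximal ∧ z.asIdeal ∈ (Ideal.span {h}).minimalPrimes := by
  classical
  obtain ⟨t, ht⟩ := (PrimeSpectrum.isOpen_iff W).1 hW
  have hfin : (minimalPrimes B).Finite := minimalPrimes.finite_of_isNoetherianRing B
  obtain ⟨h, ht', hm⟩ : ∃ h ∈ Ideal.span t, ∀ q ∈ minimalPrimes B, h ∉ q := by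
    by_contra hno
    push Not at hno
    obtain ⟨q, hq, hle⟩ := (Ideal.subset_union_prime (f := id) (s := hfin.toFinset) ⊥ ⊥ (fun q hq _ _ => by
      exact (hfin.mem_toFinset.1 hq).1.1)).1 (show ((Ideal.span t : Ideal B) : Set B) ⊆
        ⋃ q ∈ (hfin.toFinset : Set (Ideal B)), ((id q : Ideal B) : Set B) from fun h hh => by
      obtain ⟨q, hq, hhq⟩ := hno h hh
      exact Set.mem_iUnion₂.2 ⟨q, hfin.mem_toFinset.2 hq, hhq⟩)
    rw [Set.Finite.mem_toFinset] at hq
    have hηW := minimalPrime_mem_of_dense hW hd ⟨q, hq.1.1⟩ hq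
    have : (⟨q, hq.1.1⟩ : PrimeSpectrum B) ∈ Wᶜ := by
      rw [ht]
      exact Ideal.span_le.1 hle
    exact this hηW
  have hsub : (PrimeSpectrum.basicOpen h : Set (PrimeSpectrum B)) ⊆ W := fun P hP => by
    by_contra hPW
    have hP' : P ∈ PrimeSpectrum.zeroLocus t := ht ▸ hPW
    exact hP (Ideal.span_le.2 hP' ht')
  have hmin : ∀ P : PrimeSpectrum B, ∃ η : PrimeSpectrum B, η.asIdeal ∈ minimalPrimes B ∧ η ⤳ P := fun P => by
    obtain ⟨q, hq, hqP⟩ := Ideal.exists_minimalPrimes_le (I := (⊥ : Ideal B)) (J := P.asIdeal) bot_le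
    exact ⟨⟨q, hq.1.1⟩, hq, (PrimeSpectrum.le_iff_specializes ⟨q, hq.1.1⟩ P).1 hqP⟩
  refine ⟨h, hsub, fun P => ?_, mem_nonZeroDivisors_iff_left.2 fun x hx => ?_, fun z hz => ?_⟩
  · obtain ⟨η, hη, hs⟩ := hmin P
    exact closure_mono (Set.singleton_subset_iff.2 (hm _ hη)) hs.mem_closure
  · have hx' : x ∈ (⊥ : Ideal B).radical := by
      rw [← Ideal.sInf_minimalPrimes]
      refine Ideal.mem_sInf.2 fun {q} hq => ?_
      exact ((hq.1.1).mem_or_mem (show h * x ∈ q by rw [hx]; exact q.zero_mem)).resolve_left (hm q hq)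
    obtain ⟨n, hn⟩ := hx'
    exact IsReduced.eq_zero x ⟨n, hn⟩
  · have hnot : z.asIdeal ∉ minimalPrimes B := fun hz' => hm _ hz' hz
    refine ⟨((Ring.krullDimLE_one_iff.1 ‹_›) _ z.2).resolve_left hnot,
      ⟨z.2, (Ideal.span_singleton_le_iff_mem _).2 hz⟩, fun q hq hqz => ?_⟩
    obtain ⟨hqp, hhq⟩ := hq
    rw [Ideal.span_singleton_le_iff_mem] at hhq
    have hqmax := ((Ring.krullDimLE_one_iff.1 ‹_›) q hqp).resolve_left fun hq' => hm _ hq' hhq
    exact (hqmax.eq_of_le z.2.ne_top hqz).ge

/-- A morphism to the affine line restricting to the inverse `N`-th power of `σ`. -/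
def IsInvPow (κB : k →+* B) (h : B) (σ : Localization.Away h) (N : ℕ) {P : Scheme.{u}}
    (ι : P ⟶ Spec (CommRingCat.of B)) (γ : P ⟶ Spec (CommRingCat.of k[X])) : Prop :=
  ∀ (L : Type u) [Field L] (χ : Spec (CommRingCat.of L) ⟶ P) (ρ : Localization.Away h →+* L),
    χ ≫ ι = Spec.map (CommRingCat.ofHom ρ) ≫ awayι h →
    χ ≫ γ = Spec.map (CommRingCat.ofHom
      (eval₂RingHom ((ρ.comp (algebraMap B (Localization.Away h))).comp κB) ((ρ σ) ^ N)⁻¹))

theorem IsInvPow.comp {κB : k →+* B} {h : B} {σ : Localization.Away h} {N : ℕ} {P P' : Scheme.{u}}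
    {ι : P ⟶ Spec (CommRingCat.of B)} {γ : P ⟶ Spec (CommRingCat.of k[X])} (hγ : IsInvPow κB h σ N ι γ)
    (p : P' ⟶ P) : IsInvPow κB h σ N (p ≫ ι) (p ≫ γ) := fun L _ χ ρ hχ => by
  rw [← Category.assoc]
  exact hγ L (χ ≫ p) ρ (by rwa [Category.assoc])

/-- Two such morphisms on a reduced open of the curve are equal. -/
theorem IsInvPow.ext {κB : k →+* B} {h : B} (hd : Dense (PrimeSpectrum.basicOpen h : Set (PrimeSpectrum B)))
    {σ : Localization.Away h} {N : ℕ} {P : Scheme.{u}} [IsReduced P] {ι : P ⟶ Spec (CommRingCat.of B)}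
    [IsOpenImmersion ι] {γ γ' : P ⟶ Spec (CommRingCat.of k[X])} (hγ : IsInvPow κB h σ N ι γ)
    (hγ' : IsInvPow κB h σ N ι γ') : γ = γ' := by
  haveI := isOpenImmersion_awayι h
  refine ext_of_fromSpecResidueField_eq γ γ' (terminal.from _) (ι ⁻¹' Set.range (awayι h))
    (Dense.preimage (by rw [range_awayι]; exact hd) ι.isOpenEmbedding.isOpenMap) (fun x hx => ?_)
    (terminal.hom_ext _ _)
  have hr : Set.range (P.fromSpecResidueField x ≫ ι) ⊆ Set.range (awayι h) := by
    rintro _ ⟨y, rfl⟩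
    rw [Scheme.Hom.comp_apply, Scheme.fromSpecResidueField_apply]
    exact hx
  obtain ⟨r, hr'⟩ := Spec.map_surjective (R := CommRingCat.of (Localization.Away h)) (S := P.residueField x)
    (IsOpenImmersion.lift (awayι h) (P.fromSpecResidueField x ≫ ι) hr)
  have hχ : P.fromSpecResidueField x ≫ ι = Spec.map r ≫ awayι h := by rw [hr', IsOpenImmersion.lift_fac]
  exact (hγ (P.residueField x) _ r.hom hχ).trans (hγ' (P.residueField x) _ r.hom hχ).symm

/-- If a function on a dense open of an affine reduced curve has poles at all branches over the missing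
points, then the inverses of its large powers extend to morphisms to the affine line. -/
theorem exists_extend_invPow [IsNoetherianRing B] [_root_.IsReduced B] [Ring.KrullDimLE 1 B]
    (κB : k →+* B) (W : (Spec (CommRingCat.of B)).Opens) (hWd : Dense (W : Set (Spec (CommRingCat.of B))))
    (κA : k →+* A) (w : W.toScheme ⟶ Spec (CommRingCat.of A))
    (hw : w ≫ Spec.map (CommRingCat.ofHom κA) = W.ι ≫ Spec.map (CommRingCat.ofHom κB)) (s : A)
    (Hval : ∀ (L : Type u) [Field L] (R : ValuationSubring L) (α : B →+* L) (β : A →+* L)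
      (χ : Spec (CommRingCat.of L) ⟶ W.toScheme), χ ≫ W.ι = Spec.map (CommRingCat.ofHom α) →
      χ ≫ w = Spec.map (CommRingCat.ofHom β) → (∀ x, α x ∈ R) → β s ∈ R →
      ∀ z : PrimeSpectrum B, (∀ x, x ∈ z.asIdeal ↔ α x ∈ R.nonunits) → z ∈ W) :
    ∃ N₀ : ℕ, ∀ N, N₀ ≤ N → ∀ U₁ : (Spec (CommRingCat.of B)).Opens,
      (∀ x : W.toScheme, W.ι x ∈ U₁ → w x ∈ Set.range (awayι s)) →
      ∃ γ : U₁.toScheme ⟶ Spec (CommRingCat.of k[X]),
        γ ≫ Spec.map (CommRingCat.ofHom C) = U₁.ι ≫ Spec.map (CommRingCat.ofHom κB) ∧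
        ∀ (P : Scheme.{u}) (a : P ⟶ U₁.toScheme) (a' : P ⟶ W.toScheme)
          (a'' : P ⟶ Spec (CommRingCat.of (Localization.Away s))),
          a ≫ U₁.ι = a' ≫ W.ι → a'' ≫ awayι s = a' ≫ w → a ≫ γ = a'' ≫ invPowMap κA s N := by
  classical
  obtain ⟨h, hhW, hhd, hh0, hhz⟩ := exists_regular_basicOpen_le (B := B) (W := (W : Set (Spec (CommRingCat.of B)))) W.2 hWd
  haveI := isOpenImmersion_awayι h
  haveI := isOpenImmersion_awayι s
  let lh : Spec (CommRingCat.of (Localization.Away h)) ⟶ W.toScheme :=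
    IsOpenImmersion.lift W.ι (awayι h) (by rw [range_awayι, Scheme.Opens.range_ι]; exact hhW)
  have hlh : lh ≫ W.ι = awayι h := IsOpenImmersion.lift_fac _ _ _
  obtain ⟨φ', hφ⟩ := Spec.map_surjective (R := CommRingCat.of A) (S := CommRingCat.of (Localization.Away h)) (lh ≫ w)
  let φ : A →+* Localization.Away h := φ'.hom
  let σ := φ s
  have hφκ : φ.comp κA = (algebraMap B (Localization.Away h)).comp κB := by
    have : CommRingCat.ofHom κA ≫ φ' = CommRingCat.ofHom κB ≫ CommRingCat.ofHom (algebraMap B (Localization.Away h)) := by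
      apply Spec.map_injective
      rw [Spec.map_comp, Spec.map_comp, hφ, Category.assoc, hw, ← Category.assoc, hlh]
    exact congrArg CommRingCat.Hom.hom this
  let Z := {z : PrimeSpectrum B // z ∉ W}
  have hmem : ∀ z : Z, h ∈ z.1.asIdeal := fun z => by
    by_contra hz
    exact z.2 (hhW hz)
  haveI : Finite Z := by
    have hf : {z : PrimeSpectrum B | h ∈ z.asIdeal}.Finite :=
      Set.Finite.of_finite_image
        ((Ideal.finite_minimalPrimes_of_isNoetherianRing B (Ideal.span {h})).subset (by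
          rintro _ ⟨z, hz, rfl⟩
          exact (hhz z hz).2))
        (fun z _ z' _ e => PrimeSpectrum.ext e)
    exact (hf.subset (fun z hz => hmem ⟨z, hz⟩) : {z : PrimeSpectrum B | z ∉ W}.Finite).to_subtype
  have hinj : Function.Injective (algebraMap B (Localization.Away h)) :=
    IsLocalization.injective _ (Submonoid.powers_le.2 hh0)
  have key : ∀ z : Z, ∃ (b : B) (N₀ : ℕ), b ∉ z.1.asIdeal ∧ ∀ N, N₀ ≤ N → ∃ (q : B) (j : ℕ),
      algebraMap B (Localization.Away h) q * σ ^ N = algebraMap B (Localization.Away h) (b ^ j) := fun z => by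
    refine exists_inv_pow_regular h hinj z.1.asIdeal (hhz z.1 (hmem z)).2 σ fun L _ g R hB hm hσ => z.2 ?_
    refine Hval L R (g.comp (algebraMap B _)) (g.comp φ) (Spec.map (CommRingCat.ofHom g) ≫ lh) ?_ ?_ hB hσ z.1
      (fun x => ⟨fun hx => hm x hx, fun hx => ?_⟩)
    · rw [Category.assoc, hlh, ← Spec.map_comp]; rfl
    · rw [Category.assoc, ← hφ, ← Spec.map_comp]; rfl
    · by_contra hxz
      obtain ⟨c, hc⟩ := ((hhz z.1 (hmem z)).1.exists_inv hxz)
      obtain ⟨i, hi, hci⟩ := hc
      have h1 : g (algebraMap B _ (c * x)) + g (algebraMap B _ i) = 1 := by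
        rw [← map_add, ← map_add, hci, map_one, map_one]
      rw [map_mul, map_mul] at h1
      obtain ⟨hxR, hx'⟩ := ValuationSubring.mem_nonunits_iff_exists_mem_maximalIdeal.1 hx
      obtain ⟨hiR, hi'⟩ := ValuationSubring.mem_nonunits_iff_exists_mem_maximalIdeal.1 (hm i hi)
      have : (1 : R) ∈ IsLocalRing.maximalIdeal R := by
        have e : (1 : R) = ⟨_, hB c⟩ * ⟨_, hxR⟩ + ⟨_, hiR⟩ := Subtype.ext h1.symm
        rw [e]
        exact add_mem (Ideal.mul_mem_left _ _ hx') hi'
      exact (IsLocalRing.maximalIdeal.isMaximal R).ne_top ((Ideal.eq_top_iff_one _).2 this)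
  choose b N₁ hb hN₁ using key
  obtain ⟨N₀, hN₀⟩ : ∃ N₀, ∀ z, N₁ z ≤ N₀ := by
    haveI := Fintype.ofFinite Z
    exact ⟨Finset.univ.sup N₁, fun z => Finset.le_sup (Finset.mem_univ z)⟩
  refine ⟨N₀, fun N hN U₁ hU₁ => ?_⟩
  choose q j hq using fun z => hN₁ z N ((hN₀ z).trans hN)
  let O : Option Z → U₁.toScheme.Opens := fun o => match o with
    | none => U₁.ι ⁻¹ᵁ W
    | some z => U₁.ι ⁻¹ᵁ (PrimeSpectrum.basicOpen (b z))
  have hO : IsOpenCover O := by
    refine eq_top_iff.2 fun x _ => ?_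
    by_cases hx : U₁.ι x ∈ W
    · exact Opens.mem_iSup.2 ⟨none, hx⟩
    · exact Opens.mem_iSup.2 ⟨some ⟨U₁.ι x, hx⟩, hb ⟨U₁.ι x, hx⟩⟩
  let 𝒰 := Scheme.openCoverOfIsOpenCover U₁.toScheme O hO
  let aW : (O none).toScheme ⟶ W.toScheme :=
    IsOpenImmersion.lift W.ι ((O none).ι ≫ U₁.ι) (by
      rintro _ ⟨x, rfl⟩
      rw [Scheme.Opens.range_ι, Scheme.Hom.comp_apply]
      exact x.2)
  have haW : aW ≫ W.ι = (O none).ι ≫ U₁.ι := IsOpenImmersion.lift_fac _ _ _
  let aA : (O none).toScheme ⟶ Spec (CommRingCat.of (Localization.Away s)) :=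
    IsOpenImmersion.lift (awayι s) (aW ≫ w) (by
      rintro _ ⟨x, rfl⟩
      rw [Scheme.Hom.comp_apply]
      refine hU₁ _ ?_
      rw [← Scheme.Hom.comp_apply, haW, Scheme.Hom.comp_apply]
      exact (U₁.range_ι).le ⟨_, rfl⟩)
  have haA : aA ≫ awayι s = aW ≫ w := IsOpenImmersion.lift_fac _ _ _
  haveI : ∀ z, IsOpenImmersion (awayι (b z)) := fun z => isOpenImmersion_awayι (b z)
  let ab : ∀ z, (O (some z)).toScheme ⟶ Spec (CommRingCat.of (Localization.Away (b z))) := fun z =>
    IsOpenImmersion.lift (awayι (b z)) ((O (some z)).ι ≫ U₁.ι) (by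
      rintro _ ⟨x, rfl⟩
      rw [range_awayι, Scheme.Hom.comp_apply]
      exact x.2)
  have hab : ∀ z, ab z ≫ awayι (b z) = (O (some z)).ι ≫ U₁.ι := fun z => IsOpenImmersion.lift_fac _ _ _
  let f : ∀ o, (O o).toScheme ⟶ Spec (CommRingCat.of k[X]) := fun o => match o with
    | none => aA ≫ invPowMap κA s N
    | some z => ab z ≫ Spec.map (CommRingCat.ofHom (eval₂RingHom ((algebraMap B (Localization.Away (b z))).comp κB)
        (algebraMap B _ (q z) * IsLocalization.Away.invSelf (b z) ^ j z)))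
  have hgood : ∀ o, IsInvPow κB h σ N ((O o).ι ≫ U₁.ι) (f o) := by
    rintro (_ | z) L _ χ ρ hχ
    · obtain ⟨r, hr⟩ := Spec.map_surjective (R := CommRingCat.of (Localization.Away s)) (S := CommRingCat.of L) (χ ≫ aA)
      have h1 : χ ≫ aW = Spec.map (CommRingCat.ofHom ρ) ≫ lh := by
        rw [← cancel_mono W.ι, Category.assoc, Category.assoc, haW, hlh, hχ]
      have h2 : r.hom.comp (algebraMap A _) = ρ.comp φ := by
        have : CommRingCat.ofHom (algebraMap A (Localization.Away s)) ≫ r = φ' ≫ CommRingCat.ofHom ρ := by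
          apply Spec.map_injective
          rw [Spec.map_comp, Spec.map_comp, hr, hφ, Category.assoc, haA, ← Category.assoc, h1, Category.assoc]
        exact congrArg CommRingCat.Hom.hom this
      show χ ≫ aA ≫ invPowMap κA s N = _
      rw [← Category.assoc, ← hr, ← Spec.map_comp]
      refine congrArg Spec.map (CommRingCat.hom_ext (Polynomial.ringHom_ext (fun c => ?_) ?_))
      · have e1 := RingHom.congr_fun h2 (κA c)
        have e2 := RingHom.congr_fun hφκ c
        simp only [RingHom.comp_apply] at e1 e2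
        simp [e1, e2]
      · have e1 := congrArg r.hom (IsLocalization.Away.mul_invSelf (S := Localization.Away s) s)
        rw [map_mul, map_one] at e1
        have e2 := RingHom.congr_fun h2 s
        simp only [RingHom.comp_apply] at e2
        rw [e2] at e1
        simp only [CommRingCat.hom_comp, CommRingCat.hom_ofHom, RingHom.comp_apply, coe_eval₂RingHom, eval₂_X, map_pow]
        rw [← inv_pow, eq_inv_of_mul_eq_one_right e1]
    · obtain ⟨r, hr⟩ := Spec.map_surjective (R := CommRingCat.of (Localization.Away (b z))) (S := CommRingCat.of L)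
        (χ ≫ ab z)
      have h2 : r.hom.comp (algebraMap B _) = ρ.comp (algebraMap B _) := by
        have : CommRingCat.ofHom (algebraMap B (Localization.Away (b z))) ≫ r =
            CommRingCat.ofHom (algebraMap B (Localization.Away h)) ≫ CommRingCat.ofHom ρ := by
          apply Spec.map_injective
          rw [Spec.map_comp, Spec.map_comp, hr, Category.assoc, hab, hχ]
        exact congrArg CommRingCat.Hom.hom this
      show χ ≫ ab z ≫ _ = _
      rw [← Category.assoc, ← hr, ← Spec.map_comp]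
      refine congrArg Spec.map (CommRingCat.hom_ext (Polynomial.ringHom_ext (fun c => ?_) ?_))
      · have e1 := RingHom.congr_fun h2 (κB c)
        simp only [RingHom.comp_apply] at e1
        simp [e1]
      · have e1 := congrArg r.hom (IsLocalization.Away.mul_invSelf (S := Localization.Away (b z)) (b z))
        rw [map_mul, map_one] at e1
        have e2 := RingHom.congr_fun h2 (b z)
        have e3 := RingHom.congr_fun h2 (q z)
        simp only [RingHom.comp_apply] at e2 e3
        have e4 := congrArg ρ (hq z)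
        rw [map_mul, map_pow, map_pow, map_pow, ← e2, ← e3] at e4
        simp only [CommRingCat.hom_comp, CommRingCat.hom_ofHom, RingHom.comp_apply, coe_eval₂RingHom, eval₂_X,
          map_mul, map_pow]
        refine eq_inv_of_mul_eq_one_left ?_
        rw [mul_right_comm, e4, ← mul_pow, e1, one_pow]
  have hcompat : ∀ o o', pullback.fst (O o).ι (O o').ι ≫ f o = pullback.snd _ _ ≫ f o' := fun o o' => by
    haveI : IsOpenImmersion (pullback.fst (O o).ι (O o').ι ≫ (O o).ι ≫ U₁.ι) := inferInstance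
    haveI : IsReduced (pullback (O o).ι (O o').ι) :=
      isReduced_of_isOpenImmersion (pullback.fst (O o).ι (O o').ι ≫ (O o).ι ≫ U₁.ι)
    have h' := (hgood o').comp (pullback.snd (O o).ι (O o').ι)
    rw [← Category.assoc, ← pullback.condition, Category.assoc] at h'
    exact IsInvPow.ext hhd ((hgood o).comp _) h'
  let γ := 𝒰.glueMorphisms f hcompat
  have hγ : ∀ o, (O o).ι ≫ γ = f o := fun o => Scheme.Cover.ι_glueMorphisms 𝒰 f hcompat o
  refine ⟨γ, Scheme.Cover.hom_ext 𝒰 _ _ fun o => ?_, fun P a a' a'' e1 e2 => ?_⟩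
  · show (O o).ι ≫ γ ≫ _ = (O o).ι ≫ U₁.ι ≫ _
    rw [← Category.assoc, hγ, ← Category.assoc]
    rcases o with _ | z
    · show (aA ≫ invPowMap κA s N) ≫ _ = _
      rw [← haW, Category.assoc, Category.assoc, ← hw, ← reassoc_of% haA, ← Spec.map_comp, ← Spec.map_comp]
      congr 2
      ext c
      simp
    · show (ab z ≫ _) ≫ _ = _
      rw [← hab, Category.assoc, Category.assoc, ← Spec.map_comp, ← Spec.map_comp]
      congr 2
      ext c
      simp
  · let l : P ⟶ (O none).toScheme := IsOpenImmersion.lift (O none).ι a (by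
      rintro _ ⟨x, rfl⟩
      rw [Scheme.Opens.range_ι]
      show U₁.ι (a x) ∈ W
      rw [← Scheme.Hom.comp_apply, e1, Scheme.Hom.comp_apply]
      exact (W.range_ι).le ⟨_, rfl⟩)
    have hl : l ≫ (O none).ι = a := IsOpenImmersion.lift_fac _ _ _
    have hlW : l ≫ aW = a' := by rw [← cancel_mono W.ι, Category.assoc, haW, ← Category.assoc, hl, e1]
    have hlA : l ≫ aA = a'' := by rw [← cancel_mono (awayι s), Category.assoc, haA, ← Category.assoc, hlW, e2]
    rw [← hl, Category.assoc]
    refine (congrArg (l ≫ ·) (hγ none)).trans ?_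
    show l ≫ aA ≫ _ = _
    rw [reassoc_of% hlA]

end Groth.Agent.CurveSchLib
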