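import Groth.Agent.CurveSchLib.General
import Groth.Agent.CurvLocLib.DimSpace
import Groth.Agent.ASp.MorCancel

/-!
Geometric fibres of families of curves are schemes.
-/

set_option autoImplicit false
set_option backward.isDefEq.respectTransparency false
set_option backward.isDefEq.respectTransparency.types false
set_option linter.style.haveILetI false

universe u

open CategoryTheory CategoryTheory.Limits AlgebraicGeometry

namespace Groth.Agent.CurveSchLib

open _root_.AlgSp Groth.Agent.ASp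

variable {S : Scheme.{u}}

/-- Relative dimension bounds are stable under base change. -/
theorem relDimLE_baseChange {F G F' G' : Sp S} (hF : IsAlgSpace F) (hG : IsAlgSpace G) (hF' : IsAlgSpace F')
    (hG' : IsAlgSpace G') {f : F ⟶ G} {g : G' ⟶ G} {g' : F' ⟶ F} {f' : F' ⟶ G'} (hsq : IsPullback g' f' f g)
    (hlft : LocP @LocallyOfFiniteType f) {d : ℕ} (h : CurvSt.RelDimLE d f) : CurvSt.RelDimLE d f' := by
  intro x'
  obtain ⟨U, V, W, a, b, c, k, j, a', p, ha, hb, hc, ha', e, ej, e1, e2, hp, hu, hw⟩ :=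
    Groth.Agent.GorSp.exists_baseChange_chart_through hF hG hF' hG' hsq x'
  haveI : LocallyOfFiniteType k.left := hlft a b k ha hb e
  refine ⟨_, W, a', c, pullback.snd k j, p, ha', hc, e2, hp, ?_⟩
  obtain ⟨U₁, V₁, a₁, b₁, h₁, u₁, ha₁, hb₁, e₁, hx₁, hQ⟩ := h (Points.map g' x')
  rw [LocDimBC.fibreDimAt_baseChange (isPullback_left (IsPullback.of_hasPullback k j)) p,
    FibreDimEt.fibreDimAt_eq_of_charts ha hb e ha₁ hb₁ e₁ (hu.trans hx₁.symm)]
  exact hQ

theorem isQuasiCompactSp_yon (T : Over S) [CompactSpace ↥T.left] : IsQuasiCompactSp ((yon S).obj T) :=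
  ⟨T, 𝟙 _, repWith_of_isIso _, repWith_of_isIso _, inferInstance⟩

/-- Every geometric fibre of a family of curves is a scheme. -/
theorem exists_geomFibre {n : ℕ} {A : CurvSt.SpFamObj S n} (hA : CurvSt.IsCurveFam A) (Ω : Type u) [Field Ω]
    (t : Spec (CommRingCat.of Ω) ⟶ A.base.left) :
    ∃ (X' : Scheme.{u}) (q : X' ⟶ Spec (CommRingCat.of Ω)) (i : (yon S).obj (A.ptOver (q ≫ t)) ⟶ A.X),
      IsPullback i ((yon S).map (A.fibHom t q)) A.f ((yon S).map (A.ptHom t)) := by
  let g : (yon S).obj (A.ptOver t) ⟶ (yon S).obj A.base := (yon S).map (A.ptHom t)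
  have hsq := IsPullback.of_hasPullback A.f g
  obtain ⟨hX, hfl, hprop, hfp, hdim⟩ := hA
  have hY : IsAlgSpace (pullback A.f g) :=
    isAlgSpace_pullback (IsAlgSpace.yon_obj _).diag hX (IsAlgSpace.yon_obj _) A.f g
  have hp := proper_baseChange hX (IsAlgSpace.yon_obj A.base) (IsAlgSpace.yon_obj (A.ptOver t)) hsq hprop
  haveI : CompactSpace ↥(A.ptOver t).left := inferInstanceAs (CompactSpace (PrimeSpectrum Ω))
  have hqc : IsQuasiCompactSp (pullback A.f g) :=
    hp.2.1.2 (IsAlgSpace.yon_obj _) (isQuasiCompactSp_yon _) (𝟙 _) (𝟙 _) (pullback.snd A.f g)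
      (IsPullback.of_horiz_isIso ⟨by simp⟩)
  obtain ⟨Z, ⟨r⟩⟩ := isRepresentable_of_curve (t ≫ A.base.hom) ⟨_, hY⟩ (pullback.snd A.f g) hp.1 hp.2.1.1 hqc
    (relDimLE_baseChange hX (IsAlgSpace.yon_obj _) hY (IsAlgSpace.yon_obj _) hsq hprop.2.1.1 hdim)
  let e := isoOfRepresentableBy r
  obtain ⟨m, hm⟩ := (yon S).map_surjective (e.hom ≫ pullback.snd A.f g)
  let ι : A.ptOver (m.left ≫ t) ⟶ Z := Over.homMk (𝟙 Z.left) (by
    show 𝟙 Z.left ≫ Z.hom = (m.left ≫ t) ≫ A.base.hom
    rw [Category.id_comp, Category.assoc]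
    exact (Over.w m).symm)
  haveI : IsIso ι.left := inferInstanceAs (IsIso (𝟙 Z.left))
  haveI : IsIso ((Over.forget S).map ι) := inferInstanceAs (IsIso ι.left)
  haveI : IsIso ι := isIso_of_reflects_iso ι (Over.forget S)
  refine ⟨Z.left, m.left, ((yon S).map ι ≫ e.hom) ≫ pullback.fst A.f g, ?_⟩
  have hιm : ι ≫ m = A.fibHom t m.left := Over.OverMorphism.ext (Category.id_comp _)
  refine hsq.of_iso ((asIso ((yon S).map ι)) ≪≫ e).symm (Iso.refl _) (Iso.refl _) (Iso.refl _) ?_ ?_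
    (by simp) (by simp [g])
  · simp
  · rw [← hιm, Functor.map_comp, hm]
    simp

end Groth.Agent.CurveSchLib
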