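import Groth.Agent.CurveSchLib.Space
import Groth.Agent.ASp.RedSub
import Groth.Agent.ASp.FibreDimSp
import Groth.Agent.FibreDimEt.Sp
import Groth.Agent.S10045

/-!
A separated space of finite type and relative dimension at most one over a field is a scheme.
-/

set_option autoImplicit false
set_option backward.isDefEq.respectTransparency false
set_option backward.isDefEq.respectTransparency.types false
set_option linter.style.haveILetI false

universe u

open CategoryTheory CategoryTheory.Limits AlgebraicGeometry TopologicalSpace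

namespace Groth.Agent.CurveSchLib

open _root_.AlgSp Groth.Agent.ASp

variable {S : Scheme.{u}} {k : Type u} [Field k]

/-- Over a field the fibre dimensions are bounded exactly when the dimension is. -/
theorem topologicalKrullDim_le_iff {U : Scheme.{u}} (g : U ⟶ Spec (CommRingCat.of k)) (c : WithBot ℕ∞) :
    topologicalKrullDim ↥U ≤ c ↔ ∀ u, FlatMor.fibreDimAt g u ≤ c := by
  let v : ↥(Spec (CommRingCat.of k)) := IsLocalRing.closedPoint k
  haveI : Subsingleton ↥(Spec (CommRingCat.of k)) := inferInstanceAs (Subsingleton (PrimeSpectrum k))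
  have hs : Function.Surjective (g.fiberι v) := fun u => by
    have : u ∈ Set.range (g.fiberι v) := by
      rw [Scheme.Hom.range_fiberι]
      exact Subsingleton.elim _ _
    exact this
  have he : IsHomeomorph (g.fiberι v) :=
    (isHomeomorph_iff_isEmbedding_surjective).2 ⟨(g.fiberι v).isEmbedding, hs⟩
  rw [← IsHomeomorph.topologicalKrullDim_eq _ he, topologicalKrullDim_fiber_le_iff]
  exact ⟨fun h u => h u (Subsingleton.elim _ _), fun h u _ => h u⟩

/-- A separated space of finite type and relative dimension at most one over a field is a scheme. -/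
theorem isRepresentable_of_curve (bK : Spec (CommRingCat.of k) ⟶ S) (X : Space S)
    (p : X.obj ⟶ (yon S).obj (Over.mk bK)) (hsep : IsSeparatedMor p) (hlft : LocP @LocallyOfFiniteType p)
    (hqc : IsQuasiCompactSp X.obj) (hdim : CurvSt.RelDimLE 1 p) :
    X.obj.obj.IsRepresentable := by
  obtain ⟨Z, i, hZ, hi⟩ := exists_redInduced X.property (isClosed_univ (X := Points X.obj))
  have hci := hi.1
  haveI := compactSpace_of_isQuasiCompactSp hqc
  obtain ⟨U, a, hUa, ha, has⟩ := exists_affine_chart X.property
  obtain ⟨m, hm⟩ := (yon S).map_surjective (a ≫ p)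
  have hUdim : topologicalKrullDim ↥U.left ≤ 1 := by
    refine (topologicalKrullDim_le_iff m.left 1).2 fun u => ?_
    obtain ⟨U₁, V₁, a₁, b₁, h₁, u₁, ha₁, hb₁, e₁, hx₁, hQ⟩ := hdim (Points.ofPt a u)
    have e : a ≫ p = (yon S).map m ≫ 𝟙 _ := by rw [Category.comp_id, hm]
    rw [FibreDimEt.fibreDimAt_eq_of_charts ha (repWith_of_isIso _) e ha₁ hb₁ e₁ hx₁.symm]
    exact_mod_cast hQ
  -- the induced chart of the reduction
  obtain ⟨UZ, fst, snd, sq⟩ : ∃ (UZ : Over S) (fst : (yon S).obj UZ ⟶ Z) (snd : UZ ⟶ U),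
      IsPullback fst ((yon S).map snd) i a := ⟨_, hci.1.fst a, hci.1.snd a, hci.1.isPullback a⟩
  haveI : IsClosedImmersion snd.left := hci.2 a _ snd sq
  have hfe : RepWith @Etale fst := repWith_of_isPullback sq.flip ha
  have hfs : RepWith @Surjective fst := repWith_of_isPullback sq.flip has
  haveI : IsAffine UZ.left := isAffine_of_isAffineHom snd.left
  have hZqc : IsQuasiCompactSp Z := ⟨UZ, fst, hfe, hfs, inferInstance⟩
  have hZlft : LocP @LocallyOfFiniteType (i ≫ p) :=
    locP_comp X.property (repWith_le_lft hci) hlft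
  have hZsep : IsSeparatedMor (i ≫ p) :=
    Groth.Agent.ASt.repWith_diagonal_comp (repWith_le_separated hci) hsep
  have hUZdim : topologicalKrullDim ↥UZ.left ≤ 1 :=
    (snd.left.isEmbedding.isInducing.topologicalKrullDim_le).trans hUdim
  have hZrep := isRepresentable_of_curve_reduced bK ⟨Z, hZ⟩ (i ≫ p) hZsep hZlft hZqc hi.2.2 (fun R oR b hb => by
    rw [Ring.krullDimLE_iff, ← PrimeSpectrum.topologicalKrullDim_eq_ringKrullDim]
    obtain ⟨n, hn⟩ := (yon S).map_surjective (b ≫ i ≫ p)
    refine (topologicalKrullDim_le_iff n.left 1).2 fun u => ?_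
    obtain ⟨u', hu'⟩ := surjective_ofPt hfs (Points.ofPt b u)
    have eb : b ≫ i ≫ p = (yon S).map n ≫ 𝟙 _ := by rw [Category.comp_id, hn]
    have ef : fst ≫ i ≫ p = (yon S).map (snd ≫ m) ≫ 𝟙 _ := by
      rw [Category.comp_id, Functor.map_comp, hm, ← Category.assoc, sq.w, Category.assoc]
    rw [FibreDimEt.fibreDimAt_eq_of_charts hb (repWith_of_isIso _) eb hfe (repWith_of_isIso _) ef hu'.symm]
    exact (topologicalKrullDim_le_iff (snd ≫ m).left 1).1 hUZdim u')
  exact Groth.Agent.S10045.result S X ⟨Z, hZ⟩ (ObjectProperty.homMk i) hi hZrep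

end Groth.Agent.CurveSchLib
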