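import Groth.Agent.CurveSchLib.Fibre
import Groth.Agent.CurvLocLib.Curves

/-!
Conditions on geometric fibres of families of curves as conditions on points of the base.
-/

set_option autoImplicit false
set_option backward.isDefEq.respectTransparency false
set_option backward.isDefEq.respectTransparency.types false
set_option linter.style.haveILetI false

universe u

open CategoryTheory CategoryTheory.Limits AlgebraicGeometry

namespace Groth.Agent.CurveSchLib

open _root_.AlgSp Groth.Agent.ASp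

variable {S : Scheme.{u}} {n : ℕ}

/-- A predicate on schemes over algebraically closed fields. -/
abbrev FibPred : Type (u + 1) :=
  ∀ (Ω : Type u) [Field Ω] [IsAlgClosed Ω] (X' : Scheme.{u}), (X' ⟶ Spec (CommRingCat.of Ω)) → Prop

/-- Invariance under extensions of the algebraically closed ground field. -/
def InvExt (P : FibPred.{u}) : Prop :=
  ∀ (Ω : Type u) [Field Ω] [IsAlgClosed Ω] (Ω' : Type u) [Field Ω'] [IsAlgClosed Ω']
    (σ : Spec (CommRingCat.of Ω') ⟶ Spec (CommRingCat.of Ω)) (X' : Scheme.{u}) (q : X' ⟶ Spec (CommRingCat.of Ω))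
    (X'' : Scheme.{u}) (q' : X'' ⟶ Spec (CommRingCat.of Ω')) (π : X'' ⟶ X'),
    LocallyOfFiniteType q → IsPullback π q' q σ → (P Ω X' q ↔ P Ω' X'' q')

/-- The geometric fibre condition forgetting the marked points. -/
abbrev GFib (P : FibPred.{u}) (A : CurvSt.SpFamObj S n) : Prop :=
  CurvSt.GeomFib (fun Ω _ _ X' q _ => P Ω X' q) A

/-- All geometric fibres over `s` satisfy `P`. -/
def AllAt (A : CurvSt.SpFamObj S n) (P : FibPred.{u}) (s : ↥A.base.left) : Prop :=
  ∀ (Ω : Type u) [Field Ω] [IsAlgClosed Ω] (t : Spec (CommRingCat.of Ω) ⟶ A.base.left),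
    t (IsLocalRing.closedPoint Ω) = s → ∀ (X' : Scheme.{u}) (q : X' ⟶ Spec (CommRingCat.of Ω))
      (i : (yon S).obj (A.ptOver (q ≫ t)) ⟶ A.X),
      IsPullback i ((yon S).map (A.fibHom t q)) A.f ((yon S).map (A.ptHom t)) → P Ω X' q

variable {A B : CurvSt.SpFamObj S n} {Ω : Type u} [Field Ω] {t : Spec (CommRingCat.of Ω) ⟶ A.base.left}
  {X' : Scheme.{u}} {q : X' ⟶ Spec (CommRingCat.of Ω)} {i : (yon S).obj (A.ptOver (q ≫ t)) ⟶ A.X}

/-- Fibres are locally of finite type. -/
theorem lft_fibre (hA : CurvSt.IsCurveFam A)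
    (hP : IsPullback i ((yon S).map (A.fibHom t q)) A.f ((yon S).map (A.ptHom t))) : LocallyOfFiniteType q := by
  have h := locP_of_isPullback (P := @LocallyOfFiniteType) hP.flip hA.1 (IsAlgSpace.yon_obj _)
    (IsAlgSpace.yon_obj _) hA.2.2.1.2.1.1
  exact h (𝟙 _) (𝟙 _) (A.fibHom t q) (repWith_of_isIso _) (repWith_of_isIso _)
    (by rw [Category.id_comp, Category.comp_id])

/-- Geometric fibres over compatible points differ by an extension of the field. -/
theorem fibre_compare (hP : IsPullback i ((yon S).map (A.fibHom t q)) A.f ((yon S).map (A.ptHom t)))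
    {Ω' : Type u} [Field Ω'] (σ : Spec (CommRingCat.of Ω') ⟶ Spec (CommRingCat.of Ω))
    {t' : Spec (CommRingCat.of Ω') ⟶ A.base.left} (ht : σ ≫ t = t')
    {X'' : Scheme.{u}} {q' : X'' ⟶ Spec (CommRingCat.of Ω')} {i' : (yon S).obj (A.ptOver (q' ≫ t')) ⟶ A.X}
    (hP' : IsPullback i' ((yon S).map (A.fibHom t' q')) A.f ((yon S).map (A.ptHom t'))) :
    ∃ π : X'' ⟶ X', IsPullback π q' q σ := by
  let σo : A.ptOver t' ⟶ A.ptOver t := Over.homMk σ (by
    show σ ≫ t ≫ A.base.hom = t' ≫ A.base.hom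
    rw [← Category.assoc, ht])
  have hσo : σo ≫ A.ptHom t = A.ptHom t' := Over.OverMorphism.ext ht
  obtain ⟨π, hπ1, hπ2⟩ : ∃ π : A.ptOver (q' ≫ t') ⟶ A.ptOver (q ≫ t),
      (yon S).map π ≫ i = i' ∧ π ≫ A.fibHom t q = A.fibHom t' q' ≫ σo := by
    obtain ⟨π, hπ⟩ := (yon S).map_surjective (hP.lift i' ((yon S).map (A.fibHom t' q') ≫ (yon S).map σo) (by
      rw [hP'.w, Category.assoc, ← Functor.map_comp, ← Functor.map_comp, hσo, Functor.map_comp]))
    refine ⟨π, by rw [hπ, hP.lift_fst], (yon S).map_injective ?_⟩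
    rw [Functor.map_comp, hπ, hP.lift_snd, ← Functor.map_comp]
  have h : IsPullback ((yon S).map π ≫ i) ((yon S).map (A.fibHom t' q')) A.f
      ((yon S).map σo ≫ (yon S).map (A.ptHom t)) := by
    rw [hπ1, ← Functor.map_comp, hσo]; exact hP'
  have h' : IsPullback ((yon S).map π) ((yon S).map (A.fibHom t' q')) ((yon S).map (A.fibHom t q)) ((yon S).map σo) :=
    IsPullback.of_right h (by rw [← Functor.map_comp, ← Functor.map_comp, hπ2]) hP
  exact ⟨π.left, (IsPullback.of_map (yon S) hπ2 h').map (Over.forget S)⟩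

/-- Transport of fibres along a morphism of families. -/
theorem fibre_push (φ : B ⟶ A) {t : Spec (CommRingCat.of Ω) ⟶ B.base.left}
    {i : (yon S).obj (B.ptOver (q ≫ t)) ⟶ B.X}
    (hP : IsPullback i ((yon S).map (B.fibHom t q)) B.f ((yon S).map (B.ptHom t))) :
    ∃ i' : (yon S).obj (A.ptOver (q ≫ t ≫ φ.base.left)) ⟶ A.X,
      IsPullback i' ((yon S).map (A.fibHom (t ≫ φ.base.left) q)) A.f ((yon S).map (A.ptHom (t ≫ φ.base.left))) := by
  let e : A.ptOver (t ≫ φ.base.left) ≅ B.ptOver t := Over.isoMk (Iso.refl _) (by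
    show 𝟙 _ ≫ t ≫ B.base.hom = (t ≫ φ.base.left) ≫ A.base.hom
    rw [Category.id_comp, Category.assoc, Over.w φ.base])
  let e' : A.ptOver (q ≫ t ≫ φ.base.left) ≅ B.ptOver (q ≫ t) := Over.isoMk (Iso.refl _) (by
    show 𝟙 _ ≫ (q ≫ t) ≫ B.base.hom = (q ≫ t ≫ φ.base.left) ≫ A.base.hom
    rw [Category.id_comp, Category.assoc, Category.assoc, Category.assoc, Over.w φ.base])
  refine ⟨((yon S).map e'.hom ≫ i) ≫ φ.top, ?_⟩
  have h1 := hP.paste_horiz φ.cart
  refine h1.of_iso ((yon S).mapIso e').symm (Iso.refl _) ((yon S).mapIso e).symm (Iso.refl _) ?_ ?_ (by simp) ?_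
  · simp [← Functor.map_comp_assoc]
  · simp only [Functor.mapIso_inv, Iso.symm_hom, ← Functor.map_comp]
    refine congrArg (yon S).map (Over.OverMorphism.ext ?_)
    simp [e, e', CurvSt.SpFamObj.fibHom]
  · simp only [Functor.mapIso_inv, Iso.symm_hom, Iso.refl_hom, Category.comp_id, ← Functor.map_comp]
    refine congrArg (yon S).map (Over.OverMorphism.ext ?_)
    simp [e, CurvSt.SpFamObj.ptHom]

/-- Two geometric points over the same point of the base give the same conditions. -/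
theorem allAt_of_one (hA : CurvSt.IsCurveFam A) {P : FibPred.{u}} (hinv : InvExt P) [IsAlgClosed Ω]
    (hP : IsPullback i ((yon S).map (A.fibHom t q)) A.f ((yon S).map (A.ptHom t))) (h : P Ω X' q) :
    AllAt A P (t (IsLocalRing.closedPoint Ω)) := by
  intro Ω₂ _ _ t₂ ht₂ X₂ q₂ i₂ hP₂
  obtain ⟨w, -, -⟩ := Scheme.Pullback.exists_preimage_pullback (f := t) (g := t₂)
    (IsLocalRing.closedPoint Ω) (IsLocalRing.closedPoint Ω₂) ht₂.symm
  let L := AlgebraicClosure ↥((pullback t t₂).residueField w)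
  let b : Spec (CommRingCat.of L) ⟶ pullback t t₂ :=
    Spec.map (CommRingCat.ofHom (algebraMap ↥((pullback t t₂).residueField w) L)) ≫ (pullback t t₂).fromSpecResidueField w
  obtain ⟨X₃, q₃, i₃, hP₃⟩ := exists_geomFibre hA L ((b ≫ pullback.fst t t₂) ≫ t)
  obtain ⟨π, hπ⟩ := fibre_compare hP (b ≫ pullback.fst t t₂) rfl hP₃
  obtain ⟨π₂, hπ₂⟩ := fibre_compare hP₂ (b ≫ pullback.snd t t₂)
    (by simp only [b, Category.assoc, pullback.condition]) hP₃
  exact (hinv Ω₂ L _ X₂ q₂ X₃ q₃ π₂ (lft_fibre hA hP₂) hπ₂).2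
    ((hinv Ω L _ X' q X₃ q₃ π (lft_fibre hA hP) hπ).1 h)

theorem apply_closedPoint_residueField {T T' : Scheme.{u}} (x : ↥T) (g : T ⟶ T') {L : Type u} [Field L]
    (α : T.residueField x ⟶ CommRingCat.of L) :
    ((Spec.map α ≫ T.fromSpecResidueField x) ≫ g) (IsLocalRing.closedPoint L) = g x := by
  rw [Scheme.Hom.comp_apply, Scheme.Hom.comp_apply, Scheme.fromSpecResidueField_apply]

/-- The geometric fibre condition of a base change is membership of the image in the locus. -/
theorem geomFib_iff_allAt (hA : CurvSt.IsCurveFam A) (hB : CurvSt.IsCurveFam B) {P : FibPred.{u}} (hinv : InvExt P)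
    (φ : B ⟶ A) : GFib P B ↔ ∀ t₀, AllAt A P (φ.base.left t₀) := by
  constructor
  · intro h t₀
    let L := AlgebraicClosure ↥(B.base.left.residueField t₀)
    let t : Spec (CommRingCat.of L) ⟶ B.base.left :=
      Spec.map (CommRingCat.ofHom (algebraMap ↥(B.base.left.residueField t₀) L)) ≫ B.base.left.fromSpecResidueField t₀
    obtain ⟨X', q, i, hP⟩ := exists_geomFibre hB L t
    obtain ⟨i', hP'⟩ := fibre_push φ hP
    have := allAt_of_one hA hinv hP' (h L t X' q i hP)
    rwa [apply_closedPoint_residueField] at this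
  · intro h Ω _ _ t X' q i hP
    obtain ⟨i', hP'⟩ := fibre_push φ hP
    exact h (t (IsLocalRing.closedPoint Ω)) Ω (t ≫ φ.base.left) (Scheme.Hom.comp_apply _ _ _) X' q i' hP'

/-- An open locus on the base gives an open substack of the stack of curves. -/
theorem isOpenSubstack_of_allAt (hC : AlgSt.IsAlgStack Scheme.fppfPrecoverage (CurvSt.Curves S n)) {P : FibPred.{u}}
    (hinv : InvExt P)
    (ho : ∀ A : (CurvSt.Curves S n).obj, IsOpen {s | AllAt A.obj P s}) :
    AlgSt.IsOpenSubstack (CurvSt.Curves S n) (fun A => GFib P A.obj) Scheme.fppfPrecoverage :=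
  CurvLocLib.isOpenSubstack_of_openLocus (fun A => ⟨⟨_, ho A⟩, fun {B} φ => by
    rw [geomFib_iff_allAt A.property B.property hinv φ.hom]
    exact ⟨fun h => by rintro _ ⟨t₀, rfl⟩; exact h t₀, fun h t₀ => h ⟨t₀, rfl⟩⟩⟩) hC

end Groth.Agent.CurveSchLib
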