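import Groth.Agent.CurvLocLib.Curves
import Groth.Agent.CurvLocLib.P1Fam
import Groth.Agent.ASp.FibreDimSp
import Groth.Agent.S1591
import Groth.Agent.S1592
import Groth.Agent.S1593
import Groth.Agent.S1595
import Groth.Agent.S7912
import Groth.Agent.REqLib.P1Irred
import Groth.Agent.S10829

/-!
At-worst-nodal morphisms of algebraic spaces: one chart suffices, and the nodal locus is open.
-/

set_option autoImplicit false
set_option backward.isDefEq.respectTransparency false
set_option backward.isDefEq.respectTransparency.types false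
set_option linter.style.haveILetI false

universe u

open CategoryTheory CategoryTheory.Limits AlgebraicGeometry

namespace Groth.Agent.CurveSchLib

open _root_.AlgSp Groth.Agent.ASp

/-- Descent of the nodal property along one surjective étale map. -/
theorem nodal_of_precomp {X Y T : Scheme.{u}} (g : Y ⟶ X) (f : X ⟶ T) [Etale g] [Surjective g]
    (h : Curv2.IsNodalFamily (g ≫ f)) : Curv2.IsNodalFamily f :=
  S1593.result f PUnit.{u + 1} (fun _ => Y) (fun _ => g) (fun x => ⟨⟨⟩, g.surjective x⟩) (fun _ => h)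

/-- Cancellation of an étale map on the target. -/
theorem nodal_of_postcomp {X Y T : Scheme.{u}} (f : X ⟶ Y) (g : Y ⟶ T) [Etale g]
    (h : Curv2.IsNodalFamily (f ≫ g)) : Curv2.IsNodalFamily f := by
  haveI : LocallyOfFiniteType g := inferInstance
  let s : X ⟶ pullback (f ≫ g) g := pullback.lift (𝟙 X) f (Category.id_comp _)
  haveI : Etale (s ≫ pullback.fst (f ≫ g) g) := by rw [pullback.lift_fst]; infer_instance
  haveI : Etale (pullback.fst (f ≫ g) g) := MorphismProperty.pullback_fst _ _ ‹Etale g›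
  haveI : Etale s := Etale.of_comp s (pullback.fst (f ≫ g) g)
  have h2 := S1592.result _ (S7912.result (f ≫ g) h g) s
  rwa [pullback.lift_snd] at h2

variable {S : Scheme.{u}}

/-- One chart suffices for the nodal property. -/
theorem locP_nodal_of_chart {F G : Sp S} {f : F ⟶ G} {U V : Over S} {a : (yon S).obj U ⟶ F}
    {b : (yon S).obj V ⟶ G} {h : U ⟶ V} (ha : RepWith @Etale a) (has : RepWith @Surjective a)
    (hb : RepWith @Etale b) (e : a ≫ f = (yon S).map h ≫ b) (hP : Curv2.IsNodalFamily h.left) :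
    LocP CurvSt.nodalFam f := by
  intro U' V' a' b' h' ha' hb' e'
  obtain ⟨W, w2, w1, hw2, hw2s, hW, hpb⟩ := exists_etale_cover ha has a'
  haveI hw1 : Etale w1.left := ha'.2 a _ _ hpb.flip
  haveI := hw2
  haveI := hw2s
  refine nodal_of_precomp w2.left h'.left ?_
  obtain ⟨X, x1, x2, hX⟩ := exists_isPullback_yon hb.1 b'
  haveI hx2 : Etale x2.left := hb.2 b' _ _ hX
  haveI hx1 : Etale x1.left := hb'.2 b _ _ hX.flip
  obtain ⟨l, hl⟩ := (yon S).map_surjective (hX.lift ((yon S).map (w1 ≫ h)) ((yon S).map (w2 ≫ h')) (by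
    rw [Functor.map_comp, Functor.map_comp, Category.assoc, Category.assoc, ← e, ← e',
      reassoc_of% hW]))
  have h1 : l ≫ x1 = w1 ≫ h := (yon S).map_injective (by simp [hl])
  have h2 : l ≫ x2 = w2 ≫ h' := (yon S).map_injective (by simp [hl])
  have hl1 : Curv2.IsNodalFamily (l.left ≫ x1.left) := by
    rw [← Over.comp_left, h1, Over.comp_left]
    exact S1592.result _ hP w1.left
  have := S1595.result x2.left l.left (nodal_of_postcomp _ _ hl1)
  rwa [← Over.comp_left, h2, Over.comp_left] at this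

variable {n : ℕ}

/-- Being nodal is an open condition on the total space of a family. -/
theorem exists_nodalLocus (A : (CurvSt.Curves S n).obj) :
    ∃ L : Set (Points A.obj.X), IsOpen L ∧ ∀ {T' : Over S} (d : T' ⟶ A.obj.base) {F' : Sp S} (top : F' ⟶ A.obj.X)
      (f' : F' ⟶ (yon S).obj T'), IsPullback top f' A.obj.f ((yon S).map d) →
      (LocP CurvSt.nodalFam f' ↔ ∀ x', Points.map top x' ∈ L) := by
  obtain ⟨hX, hfl, hprop, hfp, -⟩ := id A.property
  have hY := IsAlgSpace.yon_obj (S := S) A.obj.base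
  obtain ⟨U, a, ha, has⟩ := hX.atlas
  obtain ⟨k, hk⟩ := (yon S).map_surjective (a ≫ A.obj.f)
  have e : a ≫ A.obj.f = (yon S).map k ≫ 𝟙 _ := by rw [Category.comp_id, hk]
  haveI : Flat k.left := hfl a (𝟙 _) k ha (repWith_id _ _) e
  haveI : LocallyOfFinitePresentation k.left := hfp.1 a (𝟙 _) k ha (repWith_id _ _) e
  obtain ⟨W, ⟨hW, hWmax⟩, hWbc⟩ := S1591.result k.left
  let C : Set (Points A.obj.X) := Points.ofPt a '' ((W : Set ↥U.left))ᶜ
  -- saturation
  have hsat : ∀ u u', Points.ofPt a u = Points.ofPt a u' → u ∈ W → u' ∈ W := by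
    intro u u' huu hu
    obtain ⟨R, p1, p2, hR⟩ := exists_isPullback_yon ha.1 a
    obtain ⟨r, hr1, hr2⟩ := points_exists_of_isPullback hR (Points.ofScheme U u) (Points.ofScheme U u')
      (by rw [← Points.ofPt_eq_map_ofScheme, ← Points.ofPt_eq_map_ofScheme, huu])
    obtain ⟨r, rfl⟩ := (Points.schemeHomeo R).surjective r
    rw [Points.map_yon_map_apply] at hr1 hr2
    have hr1 : p1.left r = u := (Points.schemeHomeo U).injective hr1
    have hr2 : p2.left r = u' := (Points.schemeHomeo U).injective hr2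
    haveI : Etale p2.left := ha.2 a _ _ hR
    haveI : Etale p1.left := ha.2 a _ _ hR.flip
    let R₀ : R.left.Opens := p1.left ⁻¹ᵁ W
    have hk12 : p1 ≫ k = p2 ≫ k := (yon S).map_injective (by
      rw [Functor.map_comp, Functor.map_comp, hk, ← Category.assoc, ← Category.assoc, hR.w])
    have hn : Curv2.IsNodalFamily ((R₀.ι ≫ p2.left) ≫ k.left) := by
      rw [Category.assoc, ← Over.comp_left, ← hk12, Over.comp_left,
        show R₀.ι ≫ p1.left ≫ k.left = (p1.left ∣_ W) ≫ W.ι ≫ k.left from by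
          rw [morphismRestrict_ι_assoc]]
      haveI : Etale (p1.left ∣_ W) := MorphismProperty.of_isPullback (isPullback_morphismRestrict _ _).flip ‹Etale p1.left›
      exact S1592.result _ hW _
    obtain ⟨O, hO, hOn⟩ : ∃ O : U.left.Opens, u' ∈ O ∧ Curv2.IsNodalFamily (O.ι ≫ k.left) := by
      let g := R₀.ι ≫ p2.left
      haveI : Etale g := inferInstanceAs (Etale (R₀.ι ≫ p2.left))
      have hgo : IsOpen (Set.range g) := g.isOpenMap.isOpen_range
      let O : U.left.Opens := ⟨Set.range g, hgo⟩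
      refine ⟨O, ⟨⟨r, by show p1.left r ∈ W; rw [hr1]; exact hu⟩, hr2⟩, ?_⟩
      obtain ⟨g', hg'⟩ : ∃ g' : R₀.toScheme ⟶ O.toScheme, g' ≫ O.ι = g :=
        ⟨IsOpenImmersion.lift O.ι g (by rw [Scheme.Opens.range_ι]; exact subset_rfl), IsOpenImmersion.lift_fac _ _ _⟩
      haveI : Etale (g' ≫ O.ι) := by rw [hg']; infer_instance
      haveI : Etale g' := Etale.of_comp g' O.ι
      haveI : Surjective g' := ⟨fun o => by
        obtain ⟨z, hz⟩ : O.ι o ∈ Set.range g := o.2
        exact ⟨z, O.ι.isOpenEmbedding.injective (by rw [← Scheme.Hom.comp_apply, hg', hz])⟩⟩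
      refine nodal_of_precomp g' (O.ι ≫ k.left) ?_
      rw [← Category.assoc, hg']
      exact hn
    exact hWmax O hOn hO
  have hpre : Points.ofPt a ⁻¹' C = ((W : Set ↥U.left))ᶜ :=
    Set.Subset.antisymm (fun u ⟨u', hu', h⟩ hu => hu' (hsat u u' h.symm hu)) (Set.subset_preimage_image _ _)
  refine ⟨Cᶜ, ?_, fun {T'} d {F'} top f' cart => ?_⟩
  · rw [isOpen_iff_chart ha has, Set.preimage_compl, hpre, compl_compl]
    exact W.2
  obtain ⟨U', o, i, sqW⟩ : ∃ (U' : Over S) (o : U' ⟶ U) (i : U' ⟶ T'), IsPullback o i k d :=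
    ⟨_, _, _, IsPullback.of_hasPullback k d⟩
  let a' := cart.lift ((yon S).map o ≫ a) ((yon S).map i)
    (by rw [Category.assoc, ← hk, ← Functor.map_comp, ← Functor.map_comp, sqW.w])
  have hsqa : IsPullback ((yon S).map o) a' a top := by
    refine IsPullback.of_bot ?_ (cart.lift_fst _ _ _).symm cart
    rw [cart.lift_snd, ← hk]
    exact isPullback_yon_map sqW
  have ha' : RepWith @Etale a' := repWith_of_isPullback hsqa ha
  have has' : RepWith @Surjective a' := repWith_of_isPullback hsqa has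
  have ea' : a' ≫ f' = (yon S).map i ≫ 𝟙 _ := by rw [Category.comp_id]; exact cart.lift_snd _ _ _
  have sqs := isPullback_left sqW
  obtain ⟨hb1, hb2⟩ := hWbc T'.left d.left
  let E := sqs.isoPullback
  have hE : E.hom ≫ pullback.snd k.left d.left = i.left := sqs.isoPullback_hom_snd
  have hE1 : E.hom ≫ pullback.fst k.left d.left = o.left := sqs.isoPullback_hom_fst
  constructor
  · intro hB x'
    obtain ⟨p, rfl⟩ := surjective_ofPt has' x'
    have hn : Curv2.IsNodalFamily i.left := hB a' (𝟙 _) i ha' (repWith_id _ _) ea'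
    have hn' : Curv2.IsNodalFamily ((⊤ : (pullback k.left d.left).Opens).ι ≫ pullback.snd k.left d.left) := by
      rw [show pullback.snd k.left d.left = E.inv ≫ i.left by rw [← hE, Iso.inv_hom_id_assoc], ← Category.assoc]
      exact S1592.result _ hn _
    have hmem : o.left p ∈ W := by
      have := hb2 ⊤ hn' (show E.hom p ∈ (⊤ : (pullback k.left d.left).Opens) from trivial)
      rw [← hE1]
      exact this
    rintro ⟨u, hu, huv⟩
    refine hu (hsat _ _ ?_ hmem)
    rw [huv, Points.map_ofPt, ← hsqa.w, ofPt_yon_map_comp]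
  · intro hL
    refine locP_nodal_of_chart ha' has' (repWith_id _ _) ea' ?_
    have htop : pullback.fst k.left d.left ⁻¹ᵁ W = ⊤ := by
      refine top_le_iff.1 fun z _ => by_contra fun hz => ?_
      refine hL (Points.ofPt a' (E.inv z)) ⟨o.left (E.inv z), ?_, ?_⟩
      · rw [← hE1, ← Scheme.Hom.comp_apply, Iso.inv_hom_id_assoc]
        exact hz
      · rw [Points.map_ofPt, ← hsqa.w, ofPt_yon_map_comp]
    rw [htop] at hb1
    haveI : IsIso (⊤ : (pullback k.left d.left).Opens).ι := inferInstanceAs (IsIso (Scheme.topIso _).hom)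
    have h := S1592.result _ hb1 (E.hom ≫ inv (⊤ : (pullback k.left d.left).Opens).ι)
    rw [Category.assoc, IsIso.inv_hom_id_assoc, hE] at h
    exact h

/-- Being nodal is an open condition in the form used for open substacks. -/
theorem exists_nodalLocus' (A : (CurvSt.Curves S n).obj) :
    ∃ L : Set (Points A.obj.X), IsOpen L ∧ ∀ {B : (CurvSt.Curves S n).obj} (φ : B ⟶ A),
      LocP CurvSt.nodalFam B.obj.f ↔ ∀ x', Points.map φ.hom.top x' ∈ L := by
  obtain ⟨L, hL, h⟩ := exists_nodalLocus A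
  exact ⟨L, hL, fun {B} φ => h φ.hom.base φ.hom.top B.obj.f φ.hom.cart⟩

/-- A projective line is nodal. -/
theorem nodal_p1 (Ω : Type u) [Field Ω] : Curv2.IsNodalFamily (CohB1.ProjSpace.toSpec 1 Ω) := by
  haveI := CurvLocLib.smooth_p1 Ω
  haveI hsm : Smooth (CohB1.ProjSpace.toSpec 1 Ω) := SmoothOfRelativeDimension.smooth 1 _
  refine ⟨inferInstance, inferInstance, fun s => ?_⟩
  haveI : Subsingleton ↥(Spec (CommRingCat.of Ω)) := inferInstanceAs (Subsingleton (PrimeSpectrum Ω))
  haveI : IsIntegral (CohB1.ProjSpace 1 Ω) := REqLib.isIntegral_projSpace 1 Ω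
  let ι := (CohB1.ProjSpace.toSpec 1 Ω).fiberι s
  have hι : IsHomeomorph ι := (isHomeomorph_iff_isEmbedding_surjective).2 ⟨ι.isEmbedding, fun x => by
    have : x ∈ Set.range ι := by rw [Scheme.Hom.range_fiberι]; exact Subsingleton.elim _ _
    exact this⟩
  haveI : IrreducibleSpace ↥((CohB1.ProjSpace.toSpec 1 Ω).fiber s) :=
    (hι.homeomorph).symm.surjective.irreducibleSpace hι.homeomorph.symm.continuous
  refine ⟨fun Z hZ => ?_, fun x _ => Or.inl ⟨⊤, trivial, ?_⟩⟩
  · rw [irreducibleComponents_eq_singleton, Set.mem_singleton_iff] at hZ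
    subst hZ
    rw [IsHomeomorph.topologicalKrullDim_eq _ (Homeomorph.Set.univ _).isHomeomorph,
      IsHomeomorph.topologicalKrullDim_eq _ hι]
    exact_mod_cast S10829.result Ω 1
  · haveI : Smooth ((CohB1.ProjSpace.toSpec 1 Ω).fiberToSpecResidueField s) := MorphismProperty.pullback_snd _ _ hsm
    exact inferInstanceAs (Smooth (Scheme.Opens.ι _ ≫ (CohB1.ProjSpace.toSpec 1 Ω).fiberToSpecResidueField s))

theorem locP_nodal_schFam (T : Over S) {C : Scheme.{u}} (p : C ⟶ T.left) (hp : Curv2.IsNodalFamily p) :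
    LocP CurvSt.nodalFam (CurvLocLib.schFam T p).f := by
  refine locP_nodal_of_chart (U := Over.mk (p ≫ T.hom)) (V := T) (a := 𝟙 _) (b := 𝟙 _)
    (h := Over.homMk p rfl) (repWith_id _ _) (repWith_id _ _) (repWith_id _ _) ?_ hp
  rw [Category.id_comp, Category.comp_id]
  rfl

theorem locP_nodal_p1 (Ω : Type u) [Field Ω] (t : Spec (CommRingCat.of Ω) ⟶ S) :
    LocP CurvSt.nodalFam (CurvLocLib.p1Fam Ω t).f :=
  locP_nodal_schFam (Over.mk t) (CohB1.ProjSpace.toSpec 1 Ω) (nodal_p1 Ω)

end Groth.Agent.CurveSchLib
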