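import Mathlib
import Groth.Agent.ZetaPts.Alg

/-!
Algebras of dimension at most one over a field are integral over one variable.
-/

set_option autoImplicit false

universe u

open Polynomial

namespace Groth.Agent.CurveSchLib

/-- A finitely generated algebra of dimension at most one over a field is integral over the polynomials in one
element. -/
theorem exists_eval_isIntegral {k A : Type u} [Field k] [CommRing A] (κ : k →+* A) (hft : κ.FiniteType)
    [Ring.KrullDimLE 1 A] : ∃ s : A, (eval₂RingHom κ s).IsIntegral := by
  cases subsingleton_or_nontrivial A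
  · exact ⟨0, RingHom.isIntegral_of_surjective _ fun a => ⟨0, Subsingleton.elim _ _⟩⟩
  letI := κ.toAlgebra
  haveI : Algebra.FiniteType k A := hft
  obtain ⟨n, g, hg, hint⟩ := exists_integral_inj_algHom_of_fg k A
  have hn : n ≤ 1 := by
    have h1 : ringKrullDim (MvPolynomial (Fin n) k) = (n : WithBot ℕ∞) := by
      rw [MvPolynomial.ringKrullDim_of_isNoetherianRing, ringKrullDim_eq_zero_of_field]; simp
    have h2 := (ZetaPts.ringKrullDim_le_of_integral_injective g.toRingHom hg hint).trans
      (Ring.krullDimLE_iff.1 (inferInstance : Ring.KrullDimLE 1 A))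
    rw [h1] at h2
    exact_mod_cast h2
  have hgC : ∀ c : k, g (MvPolynomial.C c) = κ c := fun c => g.commutes c
  haveI : Subsingleton (Fin n) := ⟨fun a b => Fin.ext (by omega)⟩
  let e : MvPolynomial (Fin n) k →+* k[X] := MvPolynomial.eval₂Hom Polynomial.C fun _ => X
  refine ⟨g (∑ i, MvPolynomial.X i), RingHom.IsIntegral.tower_top e _ ?_⟩
  have he : (eval₂RingHom κ (g (∑ i, MvPolynomial.X i))).comp e = g.toRingHom := by
    refine MvPolynomial.ringHom_ext (fun c => ?_) fun i => ?_
    · simp [e, hgC]
    · have : (∑ j, MvPolynomial.X j : MvPolynomial (Fin n) k) = MvPolynomial.X i :=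
        Fintype.sum_subsingleton _ i
      simp [e, this]
  rw [he]; exact hint

end Groth.Agent.CurveSchLib
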