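import Groth.Agent.CurveSchLib.Nodal
import Groth.Agent.CurveSchLib.ConnOpen
import Groth.Agent.S1589

/-!
Nodal families have geometrically reduced fibres; the prestable locus is open.
-/

set_option autoImplicit false
set_option backward.isDefEq.respectTransparency false
set_option backward.isDefEq.respectTransparency.types false
set_option linter.style.haveILetI false

universe u

open CategoryTheory CategoryTheory.Limits AlgebraicGeometry

namespace Groth.Agent.CurveSchLib

open _root_.AlgSp Groth.Agent.ASp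

/-- A nodal curve over a field is reduced. -/
theorem isReduced_of_nodal {k : Type u} [Field k] {X : Scheme.{u}} (q : X ⟶ Spec (CommRingCat.of k))
    (h : Curv2.IsNodalFamily q) : IsReduced X := by
  obtain ⟨-, hlfp, hs⟩ := h
  haveI := hlfp
  let p : ↥(Spec (CommRingCat.of k)) := IsLocalRing.closedPoint k
  obtain ⟨hd, hn⟩ := hs p
  haveI : LocallyOfFiniteType (q.fiberToSpecResidueField p) :=
    MorphismProperty.pullback_snd _ _ (inferInstanceAs (LocallyOfFiniteType q))
  letI : (q.fiber p).Over (Spec (CommRingCat.of ↥((Spec (CommRingCat.of k)).residueField p))) :=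
    ⟨q.fiberToSpecResidueField p⟩
  haveI : LocallyOfFiniteType (q.fiber p ↘ Spec (CommRingCat.of ↥((Spec (CommRingCat.of k)).residueField p))) :=
    ‹LocallyOfFiniteType (q.fiberToSpecResidueField p)›
  have hg := (S1589.result _ (q.fiber p) hd hn).2
  haveI : IsReduced (q.fiber p) :=
    hg.geometrically_isReduced (𝟙 _) (𝟙 _) _ IsPullback.of_id_fst
  haveI : Subsingleton ↥(Spec (CommRingCat.of k)) := inferInstanceAs (Subsingleton (PrimeSpectrum k))
  haveI : IsClosedImmersion ((Spec (CommRingCat.of k)).fromSpecResidueField p) :=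
    isClosed_singleton_iff_isClosedImmersion.1
      (by rw [show ({p} : Set ↥(Spec (CommRingCat.of k))) = Set.univ from Set.eq_univ_of_forall fun z => Subsingleton.elim _ _]
          exact isClosed_univ)
  haveI : Surjective ((Spec (CommRingCat.of k)).fromSpecResidueField p) :=
    ⟨fun z => ⟨IsLocalRing.closedPoint _, Subsingleton.elim _ _⟩⟩
  haveI := isIso_of_isClosedImmersion_of_surjective ((Spec (CommRingCat.of k)).fromSpecResidueField p)
  haveI : IsIso (q.fiberι p) := inferInstanceAs (IsIso (pullback.fst q ((Spec (CommRingCat.of k)).fromSpecResidueField p)))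
  exact isReduced_of_isOpenImmersion (inv (q.fiberι p))

variable {S : Scheme.{u}} {n : ℕ}

/-- The points of the base over which a condition on the total space holds. -/
def AllOver (A : CurvSt.SpFamObj S n) (L : Set (Points A.X)) (s : ↥A.base.left) : Prop :=
  ∀ x, Points.map A.f x = Points.schemeHomeo A.base s → x ∈ L

theorem isOpen_allOver {A : CurvSt.SpFamObj S n} (hA : CurvSt.IsCurveFam A) {L : Set (Points A.X)} (hL : IsOpen L) :
    IsOpen {s | AllOver A L s} := by
  have hc : IsClosed (Points.map A.f '' Lᶜ) := CurvLocLib.isClosedMor_of_isCurveFam hA _ hL.isClosed_compl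
  convert (hc.preimage (Points.schemeHomeo A.base).continuous).isOpen_compl using 1
  ext s
  exact ⟨fun h => fun ⟨x, hx, hxs⟩ => hx (h x hxs), fun h x hxs => by_contra fun hx => h ⟨x, hx, hxs⟩⟩

theorem forall_top_iff {A B : (CurvSt.Curves S n).obj} (φ : B ⟶ A) (L : Set (Points A.obj.X)) :
    (∀ x', Points.map φ.hom.top x' ∈ L) ↔ ∀ t₀, AllOver A.obj L (φ.hom.base.left t₀) := by
  constructor
  · intro h t₀ x hx
    obtain ⟨x', hx'1, -⟩ := points_exists_of_isPullback φ.hom.cart x (Points.schemeHomeo B.obj.base t₀)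
      (hx.trans (Points.map_yon_map_apply φ.hom.base t₀).symm)
    exact hx'1 ▸ h x'
  · intro h x'
    obtain ⟨t, ht⟩ := (Points.schemeHomeo B.obj.base).surjective (Points.map B.obj.f x')
    refine h t _ ?_
    rw [← Points.map_comp, φ.hom.cart.w, Points.map_comp, ← ht]
    exact Points.map_yon_map_apply φ.hom.base t

/-- Over the nodal locus the geometric fibres are nodal. -/
theorem nodal_fibre_of_allOver {A : CurvSt.SpFamObj S n} {L : Set (Points A.X)}
    (hL : ∀ {T' : Over S} (d : T' ⟶ A.base) {F' : Sp S} (top : F' ⟶ A.X) (f' : F' ⟶ (yon S).obj T'),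
      IsPullback top f' A.f ((yon S).map d) → (LocP CurvSt.nodalFam f' ↔ ∀ x', Points.map top x' ∈ L))
    {s : ↥A.base.left} (hs : AllOver A L s) {Ω : Type u} [Field Ω] {t : Spec (CommRingCat.of Ω) ⟶ A.base.left}
    (ht : t (IsLocalRing.closedPoint Ω) = s) {X' : Scheme.{u}} {q : X' ⟶ Spec (CommRingCat.of Ω)}
    {i : (yon S).obj (A.ptOver (q ≫ t)) ⟶ A.X}
    (hP : IsPullback i ((yon S).map (A.fibHom t q)) A.f ((yon S).map (A.ptHom t))) : Curv2.IsNodalFamily q := by
  refine (hL (A.ptHom t) i _ hP).2 (fun x' => hs _ ?_) (𝟙 _) (𝟙 _) (A.fibHom t q) (repWith_id _ _) (repWith_id _ _)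
    ((Category.id_comp _).trans (Category.comp_id _).symm)
  obtain ⟨z, rfl⟩ := (Points.schemeHomeo _).surjective x'
  rw [← Points.map_comp, hP.w, Points.map_comp, Points.map_yon_map_apply, Points.map_yon_map_apply]
  haveI : Subsingleton ↥(A.ptOver t).left := inferInstanceAs (Subsingleton (PrimeSpectrum Ω))
  rw [Subsingleton.elim ((A.fibHom t q).left z) (IsLocalRing.closedPoint Ω : ↥(A.ptOver t).left)]
  exact congrArg (Points.schemeHomeo A.base) ht

/-- The prestable locus on the base of a family. -/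
theorem exists_prestableLocus (A : (CurvSt.Curves S n).obj) :
    ∃ L : Set (Points A.obj.X), (∀ {B : (CurvSt.Curves S n).obj} (φ : B ⟶ A),
      LocP CurvSt.nodalFam B.obj.f ↔ ∀ t₀, AllOver A.obj L (φ.hom.base.left t₀)) ∧
      IsOpen {s | AllOver A.obj L s} ∧
      (∀ {s}, AllOver A.obj L s → AllAt A.obj RedP s) ∧
      IsOpen {s | AllOver A.obj L s ∧ AllAt A.obj ConnP s} := by
  obtain ⟨L, hL, h⟩ := exists_nodalLocus A
  have hred : ∀ {s}, AllOver A.obj L s → AllAt A.obj RedP s := fun {s} hs Ω _ _ t ht X' q i hP =>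
    isReduced_of_nodal q (nodal_fibre_of_allOver h hs ht hP)
  refine ⟨L, fun {B} φ => (h φ.hom.base φ.hom.top B.obj.f φ.hom.cart).trans (forall_top_iff φ L),
    isOpen_allOver A.property hL, hred, ?_⟩
  convert (isOpen_allOver A.property hL).inter (isOpen_allAt_redConn A.property) using 1
  ext s
  exact ⟨fun hs => ⟨hs.1, fun Ω _ _ t ht X' q i hP => ⟨hred hs.1 Ω t ht X' q i hP, hs.2 Ω t ht X' q i hP⟩⟩,
    fun hs => ⟨hs.1, fun Ω _ _ t ht X' q i hP => (hs.2 Ω t ht X' q i hP).2⟩⟩

/-- Prestable families form an open substack. -/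
theorem isOpenSubstack_prestable (hC : AlgSt.IsAlgStack Scheme.fppfPrecoverage (CurvSt.Curves S n)) :
    AlgSt.IsOpenSubstack (CurvSt.Curves S n) (fun A => CurvSt.SpIsPrestable A.obj) Scheme.fppfPrecoverage :=
  CurvLocLib.isOpenSubstack_of_openLocus (fun A => by
    obtain ⟨L, hn, -, -, ho⟩ := exists_prestableLocus A
    refine ⟨⟨_, ho⟩, fun {B} φ => ?_⟩
    show LocP CurvSt.nodalFam B.obj.f ∧ GFib ConnP B.obj ↔ _
    rw [hn φ, geomFib_iff_allAt A.property B.property invExt_connected φ.hom]
    exact ⟨fun h => by rintro _ ⟨t₀, rfl⟩; exact ⟨h.1 t₀, h.2 t₀⟩,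
      fun h => ⟨fun t₀ => (h ⟨t₀, rfl⟩).1, fun t₀ => (h ⟨t₀, rfl⟩).2⟩⟩) hC

end Groth.Agent.CurveSchLib
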