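import Mathlib
import Groth.Agent.CurveSchLib.Extend

/-!
Quasi-finiteness of the inverse power maps and of morphisms quasi-finite off a finite set.
-/

set_option autoImplicit false
set_option backward.isDefEq.respectTransparency false
set_option backward.isDefEq.respectTransparency.types false
set_option linter.style.haveILetI false

universe u

open CategoryTheory AlgebraicGeometry Polynomial

namespace Groth.Agent.CurveSchLib

variable {k A : Type u} [CommRing k] [CommRing A]

theorem isIntegral_expand (k : Type u) [CommRing k] {N : ℕ} (hN : 0 < N) :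
    (eval₂RingHom (C : k →+* k[X]) (X ^ N)).IsIntegral := by
  let f := eval₂RingHom (C : k →+* k[X]) (X ^ N)
  intro p
  induction p using Polynomial.induction_on' with
  | add p q hp hq => exact RingHom.IsIntegralElem.add f hp hq
  | monomial n c =>
    rw [← C_mul_X_pow_eq_monomial]
    refine RingHom.IsIntegralElem.mul f ?_ ?_
    · have h := RingHom.isIntegralElem_map (f := f) (x := C c)
      simpa [f] using h
    · letI := f.toAlgebra
      have hX : IsIntegral k[X] (X : k[X]) := by
        refine ⟨X ^ N - C X, monic_X_pow_sub_C _ hN.ne', ?_⟩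
        simp [RingHom.algebraMap_toAlgebra, f]
      exact hX.pow n

/-- The inverse power map on the nonvanishing locus is quasi-finite. -/
theorem locallyQuasiFinite_invPowMap (κA : k →+* A) (s : A) (hint : (eval₂RingHom κA s).IsIntegral)
    (hft : κA.FiniteType) {N : ℕ} (hN : 0 < N) : LocallyQuasiFinite (invPowMap κA s N) := by
  haveI := isOpenImmersion_awayι s
  haveI := isOpenImmersion_awayι (X : k[X])
  let As := Localization.Away s
  let D := Localization.Away (X : k[X])
  let κs : k →+* As := (algebraMap A As).comp κA
  have hu : IsUnit (IsLocalization.Away.invSelf s ^ N : As) :=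
    (IsUnit.of_mul_eq_one_right _ (IsLocalization.Away.mul_invSelf (S := As) s)).pow N
  let θ : D →+* As := IsLocalization.Away.lift (X : k[X]) (g := eval₂RingHom κs (IsLocalization.Away.invSelf s ^ N))
    (by simpa using hu)
  have hθ : θ.comp (algebraMap k[X] D) = eval₂RingHom κs (IsLocalization.Away.invSelf s ^ N) :=
    IsLocalization.Away.lift_comp (X : k[X]) _
  let ρ : k[X] →+* D := eval₂RingHom ((algebraMap k[X] D).comp C) (IsLocalization.Away.invSelf (X : k[X]))
  let e : k[X] →+* A := eval₂RingHom κA (s ^ N)
  have he : e = (eval₂RingHom κA s).comp (eval₂RingHom C (X ^ N)) :=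
    Polynomial.ringHom_ext (fun c => by simp [e]) (by simp [e])
  have hefin : e.Finite := by
    refine RingHom.IsIntegral.to_finite (he ▸ RingHom.IsIntegral.trans _ _ (isIntegral_expand k hN) hint)
      (RingHom.FiniteType.of_comp_finiteType (f := C) ?_)
    rwa [show e.comp C = κA from RingHom.ext fun c => by simp [e]]
  have hρ : θ.comp ρ = (algebraMap A As).comp e := by
    refine Polynomial.ringHom_ext (fun c => ?_) ?_
    · have := RingHom.congr_fun hθ (C c)
      simp only [RingHom.comp_apply, coe_eval₂RingHom, eval₂_C] at this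
      simp [ρ, e, this, κs]
    · have h1 := congrArg θ (IsLocalization.Away.mul_invSelf (S := D) (X : k[X]))
      rw [map_mul, map_one, show θ (algebraMap k[X] D X) = IsLocalization.Away.invSelf s ^ N by
        have := RingHom.congr_fun hθ X
        simpa using this] at h1
      have h2 : (IsLocalization.Away.invSelf s : As) ^ N * algebraMap A As (s ^ N) = 1 := by
        rw [map_pow, ← mul_pow, mul_comm, IsLocalization.Away.mul_invSelf, one_pow]
      simp only [ρ, e, RingHom.comp_apply, coe_eval₂RingHom, eval₂_X]
      exact left_inv_eq_right_inv ((mul_comm _ _).trans h1) h2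
  haveI : LocallyQuasiFinite (Spec.map (CommRingCat.ofHom e)) := by
    haveI := (IsFinite.SpecMap_iff (CommRingCat.ofHom e)).2 hefin
    infer_instance
  haveI : LocallyQuasiFinite (Spec.map (CommRingCat.ofHom θ) ≫ Spec.map (CommRingCat.ofHom ρ)) := by
    rw [← Spec.map_comp, ← CommRingCat.ofHom_comp, hρ, CommRingCat.ofHom_comp, Spec.map_comp]
    infer_instance
  haveI : LocallyQuasiFinite (Spec.map (CommRingCat.ofHom θ)) :=
    LocallyQuasiFinite.of_comp _ (Spec.map (CommRingCat.ofHom ρ))
  have : invPowMap κA s N = Spec.map (CommRingCat.ofHom θ) ≫ awayι (X : k[X]) := by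
    rw [← Spec.map_comp, ← CommRingCat.ofHom_comp, hθ]
  rw [this]
  infer_instance

/-- A morphism of finite type which is quasi-finite off a finite set is quasi-finite. -/
theorem locallyQuasiFinite_of_open_compl_finite {U Y : Scheme.{u}} (γ : U ⟶ Y) [LocallyOfFiniteType γ]
    (W : U.Opens) (hfin : (W : Set ↥U)ᶜ.Finite) [LocallyQuasiFinite (W.ι ≫ γ)] [QuasiCompact (W.ι ≫ γ)] :
    LocallyQuasiFinite γ := by
  refine LocallyQuasiFinite.of_finite_preimage_singleton γ fun y => ?_
  refine (((W.ι ≫ γ).finite_preimage_singleton y).image W.ι).union hfin |>.subset fun x hx => ?_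
  by_cases hxW : x ∈ W
  · exact Or.inl ⟨⟨x, hxW⟩, hx, rfl⟩
  · exact Or.inr hxW

end Groth.Agent.CurveSchLib
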