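import Groth.Agent.CurveSchLib.GeomFibre
import Groth.Agent.CurvLocLib.CMSpace
import Groth.Agent.FibreComp.DimSpace

/-!
Families of curves with reduced geometric fibres are Cohen–Macaulay.
-/

set_option autoImplicit false
set_option backward.isDefEq.respectTransparency false
set_option backward.isDefEq.respectTransparency.types false
set_option linter.style.haveILetI false

universe u

open CategoryTheory CategoryTheory.Limits AlgebraicGeometry IsLocalRing

namespace Groth.Agent.CurveSchLib

open _root_.AlgSp Groth.Agent.ASp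

/-- A reduced Noetherian local ring of dimension at most one is Cohen–Macaulay. -/
theorem cm_of_isReduced_dim_le_one {R : Type u} [CommRing R] [IsLocalRing R] [IsNoetherianRing R]
    [_root_.IsReduced R] (h : ringKrullDim R ≤ 1) : LocCoh.IsCohenMacaulayLocalRing R := by
  classical
  have hfin : (minimalPrimes R).Finite := minimalPrimes.finite_of_isNoetherianRing R
  by_cases hmax : maximalIdeal R ∈ minimalPrimes R
  · refine CMFlatLib.cm_of_dim_zero ?_
    refine Ring.krullDimLE_iff (n := 0).1 ?_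
    refine Ring.KrullDimLE.mk₀ fun p hp => ?_
    obtain rfl : p = maximalIdeal R :=
      le_antisymm (le_maximalIdeal hp.ne_top) (hmax.2 ⟨hp, bot_le⟩ (le_maximalIdeal hp.ne_top))
    exact maximalIdeal.isMaximal R
  · obtain ⟨r, hr, hrm⟩ : ∃ r ∈ maximalIdeal R, ∀ q ∈ minimalPrimes R, r ∉ q := by
      by_contra hno
      push Not at hno
      obtain ⟨q, hq, hle⟩ := (Ideal.subset_union_prime (f := id) (s := hfin.toFinset) ⊥ ⊥ (fun q hq _ _ => by
        exact (hfin.mem_toFinset.1 hq).1.1)).1 (show ((maximalIdeal R : Ideal R) : Set R) ⊆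
          ⋃ q ∈ (hfin.toFinset : Set (Ideal R)), ((id q : Ideal R) : Set R) from fun x hx => by
        obtain ⟨q, hq, hxq⟩ := hno x hx
        exact Set.mem_iUnion₂.2 ⟨q, hfin.mem_toFinset.2 hq, hxq⟩)
      rw [Set.Finite.mem_toFinset] at hq
      refine hmax ?_
      rwa [le_antisymm hle (le_maximalIdeal hq.1.1.ne_top)]
    have hreg : IsSMulRegular R r := by
      refine isSMulRegular_iff_right_eq_zero_of_smul.2 fun x hx => ?_
      have hx' : x ∈ (⊥ : Ideal R).radical := by
        rw [← Ideal.sInf_minimalPrimes]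
        refine Ideal.mem_sInf.2 fun {q} hq => ?_
        exact ((hq.1.1).mem_or_mem (show r * x ∈ q by rw [← smul_eq_mul, hx]; exact q.zero_mem)).resolve_left
          (hrm q hq)
      obtain ⟨n, hn⟩ := hx'
      exact IsReduced.eq_zero x ⟨n, hn⟩
    refine CMGraded.isCohenMacaulayLocalRing_of_seq (rs := [r]) (fun s hs => by
      rw [List.mem_singleton] at hs; exact hs ▸ hr) ?_ (by simpa using h)
    exact (RingTheory.Sequence.isWeaklyRegular_cons_iff R r []).2 ⟨hreg, RingTheory.Sequence.IsWeaklyRegular.nil R _⟩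

variable {S : Scheme.{u}} {n : ℕ}

/-- If the geometric fibres of a family of curves are reduced, its structure map is Cohen–Macaulay. -/
theorem locPAt_cm_of_reduced {A : CurvSt.SpFamObj S n} (hA : CurvSt.IsCurveFam A)
    (h : GFib (fun _ _ _ X' _ => IsReduced X') A) (x : Points A.X) :
    LocPAt (fun g u => MoreMor.IsCMAt g u) A.f x := by
  obtain ⟨s, hs⟩ := (Points.schemeHomeo A.base).surjective (Points.map A.f x)
  let K := ↥(A.base.left.residueField s)
  let Ω := AlgebraicClosure K
  let t : Spec (CommRingCat.of Ω) ⟶ A.base.left :=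
    Spec.map (CommRingCat.ofHom (algebraMap K Ω)) ≫ A.base.left.fromSpecResidueField s
  obtain ⟨X', q, i, hP⟩ := exists_geomFibre hA Ω t
  haveI : IsReduced X' := h Ω t X' q i hP
  haveI := lft_fibre hA hP
  obtain ⟨x', hx', -⟩ := points_exists_of_isPullback hP x
    (Points.schemeHomeo (A.ptOver t) (IsLocalRing.closedPoint Ω))
    (by
      rw [← hs, Points.map_yon_map_apply]
      refine congrArg _ ?_
      show s = t (IsLocalRing.closedPoint Ω)
      exact ((congrArg (fun g : Spec (CommRingCat.of Ω) ⟶ A.base.left => g (IsLocalRing.closedPoint Ω))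
        (Category.comp_id t).symm).trans (apply_closedPoint_residueField s (𝟙 _) _)).symm)
  obtain ⟨hX, hfl, hprop, hfp, hdim⟩ := hA
  have hlft' : LocP @LocallyOfFiniteType ((yon S).map (A.fibHom t q)) :=
    locP_of_isPullback (P := @LocallyOfFiniteType) hP.flip hX (IsAlgSpace.yon_obj _) (IsAlgSpace.yon_obj _)
      hprop.2.1.1
  have hfl' : LocP @Flat ((yon S).map (A.fibHom t q)) :=
    locP_of_isPullback (P := @Flat) hP.flip hX (IsAlgSpace.yon_obj _) (IsAlgSpace.yon_obj _) hfl
  rw [← hx', ← CurvLocLib.locPAt_cm_baseChange_iff hX (IsAlgSpace.yon_obj _) hfl hfp.1 (IsAlgSpace.yon_obj _)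
    (IsAlgSpace.yon_obj _) hP hfl' hlft' x']
  obtain ⟨z, rfl⟩ := (Points.schemeHomeo (A.ptOver (q ≫ t))).surjective x'
  have hz : Points.schemeHomeo (A.ptOver (q ≫ t)) z = Points.ofPt (𝟙 _) z := rfl
  rw [hz, CurvLocLib.locPAt_cm_iff_of_chart hfl' hlft' (repWith_of_isIso _) (repWith_of_isIso (𝟙 _))
    ((Category.id_comp _).trans (Category.comp_id _).symm) z]
  show MoreMor.IsCMAt q z
  rw [CurvLocLib.isCMAt_iff_stalk q z (DimFormulaLib.isField_stalk _ _).1]
  haveI : IsLocallyNoetherian X' := LocallyOfFiniteType.isLocallyNoetherian q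
  refine cm_of_isReduced_dim_le_one ((FibreComp.ringKrullDim_stalk_le_topologicalKrullDim z).trans ?_)
  refine (topologicalKrullDim_le_iff q 1).2 fun u => ?_
  obtain ⟨U, V, a, b, k, u', ha, hb, e, hu', hd⟩ :=
    relDimLE_baseChange hX (IsAlgSpace.yon_obj _) (IsAlgSpace.yon_obj _) (IsAlgSpace.yon_obj _) hP hprop.2.1.1 hdim
      (Points.ofPt (𝟙 ((yon S).obj (A.ptOver (q ≫ t)))) u)
  have := FibreDimEt.fibreDimAt_eq_of_charts (X := (yon S).obj (A.ptOver (q ≫ t))) (repWith_of_isIso _)
    (repWith_of_isIso (𝟙 _)) (show 𝟙 _ ≫ (yon S).map (A.fibHom t q) = (yon S).map (A.fibHom t q) ≫ 𝟙 _ by simp)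
    ha hb e hu'.symm
  exact this.le.trans (by exact_mod_cast hd)

end Groth.Agent.CurveSchLib
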