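import Groth.Agent.CurveSchLib.GeomFibre
import Groth.Agent.CurvLocLib.GeomFibScheme
import Groth.Agent.ASp.GeomRedSpace
import Groth.Agent.S10682
import Groth.Agent.S10686

/-!
The locus of the base over which the geometric fibres of a family of curves are reduced is open.
-/

set_option autoImplicit false
set_option backward.isDefEq.respectTransparency false
set_option backward.isDefEq.respectTransparency.types false
set_option linter.style.haveILetI false

universe u

open CategoryTheory CategoryTheory.Limits AlgebraicGeometry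

namespace Groth.Agent.CurveSchLib

open _root_.AlgSp Groth.Agent.ASp

variable {S : Scheme.{u}} {n : ℕ}

/-- The reduced fibre predicate. -/
abbrev RedP : FibPred.{u} := fun _ _ _ X' _ => IsReduced X'

theorem isReduced_bc_of_perfect {k : Type u} [Field k] [PerfectField k] {X : Scheme.{u}}
    (p : X ⟶ Spec (CommRingCat.of k)) [IsReduced X] (K : Type u) [Field K] [Algebra k K] :
    IsReduced (FBase.bc p K) := by
  haveI : IsReduced (Over.mk p).left := inferInstanceAs (IsReduced X)
  haveI : ∀ z : ↥(FBase.bc p K), _root_.IsReduced ↥((FBase.bc p K).presheaf.stalk z) := fun z =>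
    isGeomReducedAt_of_isReduced_of_perfect (Over.mk p) (FBase.bcπ p K z) K z rfl
  exact isReduced_of_isReduced_stalk _

theorem invExt_reduced : InvExt RedP.{u} := by
  intro Ω _ _ Ω' _ _ σ X' q X'' q' π _ hπ
  obtain ⟨φ, rfl⟩ := Spec.map_surjective σ
  obtain ⟨h1, h2⟩ := flat_surjective_specMap_field φ.hom
  constructor
  · intro h
    haveI : IsReduced X' := h
    letI := φ.hom.toAlgebra
    haveI := isReduced_bc_of_perfect q Ω'
    exact isReduced_of_isOpenImmersion (X := X'') (Y := FBase.bc q Ω') hπ.isoPullback.hom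
  · intro h
    haveI : IsReduced X'' := h
    haveI : Flat π := MorphismProperty.of_isPullback hπ.flip h1
    haveI : Surjective π := MorphismProperty.of_isPullback hπ.flip h2
    exact isReduced_of_flat_surjective π

/-- The field valued point of a scheme given by a morphism from the spectrum of a field. -/
noncomputable def schPt {T : Over S} {K : Type u} [Field K] (t : Spec (CommRingCat.of K) ⟶ T.left) :
    FieldPt ((yon S).obj T) :=
  ⟨K, t ≫ T.hom, ULift.up (Over.homMk t rfl)⟩

theorem toHom_schPt {T : Over S} {K : Type u} [Field K] (t : Spec (CommRingCat.of K) ⟶ T.left) :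
    (schPt t).toHom = (yon S).map (Over.homMk t rfl : Over.mk (t ≫ T.hom) ⟶ T) := by
  apply (J S).uliftYonedaEquiv.injective
  rw [FieldPt.toHom, Equiv.apply_symm_apply]
  rfl

theorem mk_schPt {T : Over S} {K : Type u} [Field K] (t : Spec (CommRingCat.of K) ⟶ T.left) :
    Points.mk (schPt t) = Points.schemeHomeo T (t (IsLocalRing.closedPoint K)) :=
  (Points.ofScheme_apply_eq_mk T t rfl).symm

/-- The locus of geometrically reduced fibres is open. -/
theorem isOpen_allAt_reduced {A : CurvSt.SpFamObj S n} (hA : CurvSt.IsCurveFam A) :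
    IsOpen {s | AllAt A RedP s} := by
  let X : Space S := ⟨A.X, hA.1⟩
  let Y : Space S := ⟨(yon S).obj A.base, IsAlgSpace.yon_obj _⟩
  let f : X ⟶ Y := ObjectProperty.homMk A.f
  have ho := Groth.Agent.S10682.result f hA.2.1 hA.2.2.1 hA.2.2.2.1
  convert ho.preimage (Points.schemeHomeo A.base).continuous using 1
  ext s
  constructor
  · intro h k hk
    let K := ↥(A.base.left.residueField s)
    let k₀ : FieldPt Y.obj := schPt (A.base.left.fromSpecResidueField s)
    have hk₀ : Points.mk k₀ = Points.schemeHomeo A.base s :=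
      (mk_schPt _).trans (congrArg _ (Scheme.fromSpecResidueField_apply _ _))
    have htf := (geomReduced_fibre_tfae f (Points.schemeHomeo A.base s)).out 0 1
    refine htf.1 ⟨k₀, hk₀, fun k' _ φ Xk' a b sq => ?_⟩ k hk
    let Ω := AlgebraicClosure k'
    let c₀ : CommRingCat.of k' ⟶ CommRingCat.of Ω := CommRingCat.ofHom (algebraMap k' Ω)
    let tk : Spec (CommRingCat.of k') ⟶ A.base.left :=
      Spec.map (CommRingCat.ofHom φ) ≫ A.base.left.fromSpecResidueField s
    obtain ⟨X', q, i, hP⟩ := exists_geomFibre hA Ω (Spec.map c₀ ≫ tk)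
    have hred : IsReduced X' := h Ω _ (by
      show (Spec.map c₀ ≫ Spec.map (CommRingCat.ofHom φ) ≫ A.base.left.fromSpecResidueField s)
        (IsLocalRing.closedPoint Ω) = s
      rw [Scheme.Hom.comp_apply, Scheme.Hom.comp_apply]
      exact Scheme.fromSpecResidueField_apply _ _) X' q i hP
    let kb : Over.mk (Spec.map (CommRingCat.ofHom φ) ≫ k₀.str) ⟶ k₀.pt :=
      Over.homMk (Spec.map (CommRingCat.ofHom φ)) rfl
    let co : A.ptOver (Spec.map c₀ ≫ tk) ⟶ Over.mk (Spec.map (CommRingCat.ofHom φ) ≫ k₀.str) :=
      Over.homMk (Spec.map c₀) (by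
        show Spec.map c₀ ≫ Spec.map (CommRingCat.ofHom φ) ≫ A.base.left.fromSpecResidueField s ≫ A.base.hom =
          (Spec.map c₀ ≫ Spec.map (CommRingCat.ofHom φ) ≫ A.base.left.fromSpecResidueField s) ≫ A.base.hom
        simp only [Category.assoc])
    haveI : Flat co.left := (flat_surjective_specMap_field (algebraMap k' Ω)).1
    haveI : Surjective co.left := (flat_surjective_specMap_field (algebraMap k' Ω)).2
    let o₀ : k₀.pt ⟶ A.base := Over.homMk (A.base.left.fromSpecResidueField s) rfl
    have hk : k₀.toHom = (yon S).map o₀ := toHom_schPt _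
    have sqA : IsPullback a b A.f ((yon S).map (kb ≫ o₀)) := by
      rw [Functor.map_comp, ← hk]
      exact sq
    have hco : co ≫ kb ≫ o₀ = A.ptHom (Spec.map c₀ ≫ tk) := Over.OverMorphism.ext rfl
    obtain ⟨l, hl1, hl2⟩ : ∃ l, l ≫ a = i ∧ l ≫ b = (yon S).map (A.fibHom _ q) ≫ (yon S).map co :=
      ⟨sqA.lift i ((yon S).map (A.fibHom _ q) ≫ (yon S).map co) (by
        rw [hP.w, Category.assoc, ← Functor.map_comp, ← Functor.map_comp, hco, Functor.map_comp]),
        sqA.lift_fst _ _ _, sqA.lift_snd _ _ _⟩
    refine reducedSp_of_flat_surjective co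
      (isAlgSpace_of_isPullback (IsAlgSpace.yon_obj _).diag hA.1 (IsAlgSpace.yon_obj _) sqA)
      (q := b) (fst := l) (snd := (yon S).map (A.fibHom _ q)) ?_ ⟨_, 𝟙 _, repWith_of_isIso _, repWith_of_isIso _, hred⟩
    refine IsPullback.of_right ?_ hl2 sqA
    rw [hl1, ← Functor.map_comp, hco]
    exact hP
  · intro h Ω _ _ t ht X' q i hP
    have hk : Points.mk (schPt t) = Points.schemeHomeo A.base s := by rw [mk_schPt, ht]
    have htf := (geomReduced_fibre_tfae f (Points.schemeHomeo A.base s)).out 1 2
    have h3 := htf.1 h (schPt t) hk _ i ((yon S).map (A.fibHom t q)) (by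
      rw [toHom_schPt]; exact hP)
    exact isReduced_of_chart h3 (repWith_of_isIso (𝟙 _))

end Groth.Agent.CurveSchLib
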