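import Groth.Agent.CurveSchLib.Basic
import Groth.Agent.CurveSchLib.QF
import Groth.Agent.CurveSchLib.Noether
import Groth.Agent.S10337
import Groth.Agent.S10259
import Groth.Agent.S10197
import Groth.Agent.DecSec.Basic
import Groth.Agent.ASp.LocSepDecent
import Groth.Agent.ASp.Affine
import Groth.Agent.ASp.MorCancel
import Groth.Agent.ASp.ClosedIdeal

/-!
A reduced separated space of finite type and dimension at most one over a field is a scheme.
-/

set_option autoImplicit false
set_option backward.isDefEq.respectTransparency false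
set_option backward.isDefEq.respectTransparency.types false
set_option linter.style.haveILetI false

universe u

open CategoryTheory CategoryTheory.Limits AlgebraicGeometry TopologicalSpace Polynomial

namespace Groth.Agent.CurveSchLib

open _root_.AlgSp Groth.Agent.ASp

variable {S : Scheme.{u}}

/-- The points of an open immersion of an affine scheme are the points of its image. -/
theorem range_ofPt {F : Sp S} {T : Over S} (g : (yon S).obj T ⟶ F) :
    Set.range (Points.ofPt g) = Set.range (Points.map g) := by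
  rw [ofPt_comp_eq_map, (Points.schemeHomeo T).surjective.range_comp]

theorem mono_of_openImmersion {F G : Sp S} {f : F ⟶ G} (hf : RepWith @IsOpenImmersion f) : Mono f :=
  mono_of_repWith (P := @IsOpenImmersion) (fun g hg => by haveI : IsOpenImmersion g := hg; infer_instance) hf

theorem etale_of_openImmersion {F G : Sp S} {f : F ⟶ G} (hf : RepWith @IsOpenImmersion f) : RepWith @Etale f :=
  repWith_mono (fun _ _ g (hg : IsOpenImmersion g) => inferInstanceAs (Etale g)) hf

theorem injective_of_openImmersion {F G : Sp S} {f : F ⟶ G} (hf : RepWith @IsOpenImmersion f) :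
    Function.Injective (Points.map f) :=
  injective_map_of_repWith (P := @IsOpenImmersion)
    (fun g hg => haveI : IsOpenImmersion g := hg; g.isOpenEmbedding.injective) hf

/-- A decent space with Noetherian point space contains a dense affine open. -/
theorem exists_dense_affine (X : Space S) (hdec : IsDecent X.obj) [NoetherianSpace (Points X.obj)] :
    ∃ (A : CommRingCat.{u}) (oA : Spec A ⟶ S) (j : (yon S).obj (Over.mk oA) ⟶ X.obj),
      RepWith @IsOpenImmersion j ∧ Dense (Set.range (Points.ofPt j)) := by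
  obtain ⟨X₀, j₀, hj₀, ⟨T₀, ⟨r⟩⟩, hd⟩ := Groth.Agent.S10337.result X hdec
  let e := isoOfRepresentableBy r
  let j' : (yon S).obj T₀ ⟶ X.obj := e.hom ≫ j₀.hom
  have hj' : RepWith @IsOpenImmersion j' := repWith_comp (repWith_of_isIso e.hom) hj₀
  have hd' : DenseRange (Points.ofPt j') := by
    refine hd.mono ?_
    rintro _ ⟨x, rfl⟩
    rw [range_ofPt]
    exact ⟨Points.map e.inv x, by rw [← Points.map_comp, e.inv_hom_id_assoc]⟩
  have hemb : Topology.IsOpenEmbedding (Points.ofPt j') := by
    refine Topology.IsOpenEmbedding.of_continuous_injective_isOpenMap (Points.continuous_ofPt j') ?_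
      (isOpenMap_ofPt_of_etale (etale_of_openImmersion hj'))
    rw [ofPt_comp_eq_map]
    exact (injective_of_openImmersion hj').comp (Points.schemeHomeo T₀).injective
  haveI : NoetherianSpace ↥T₀.left := hemb.isInducing.noetherianSpace
  obtain ⟨U, hU, hUd⟩ := exists_dense_affineOpen T₀.left
  let ι : Over.mk (hU.fromSpec ≫ T₀.hom) ⟶ T₀ := Over.homMk hU.fromSpec rfl
  refine ⟨Γ(T₀.left, U), hU.fromSpec ≫ T₀.hom, (yon S).map ι ≫ j',
    repWith_comp ((repWith_yon_map_iff _ ι).2 (inferInstanceAs (IsOpenImmersion hU.fromSpec))) hj', ?_⟩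
  refine (hd'.dense_image (Points.continuous_ofPt j') hUd).mono ?_
  rintro _ ⟨t, ht, rfl⟩
  obtain ⟨u, rfl⟩ : t ∈ Set.range hU.fromSpec := by rw [hU.range_fromSpec]; exact ht
  exact ⟨u, ofPt_yon_map_comp ι j' u⟩

theorem quasiCompact_of_affine {X Y : Scheme.{u}} (f : X ⟶ Y) [CompactSpace ↥X] [IsAffine Y] : QuasiCompact f :=
  (quasiCompact_iff_compactSpace f).2 inferInstance

/-- A reduced separated space of finite type and dimension at most one over a field is a scheme. -/
theorem isRepresentable_of_curve_reduced {k : Type u} [Field k] (bK : Spec (CommRingCat.of k) ⟶ S)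
    (X : Space S) (p : X.obj ⟶ (yon S).obj (Over.mk bK)) (hsep : IsSeparatedMor p)
    (hlft : LocP @LocallyOfFiniteType p) (hqc : IsQuasiCompactSp X.obj) (hred : IsReducedSp X.obj)
    (hdim : ∀ (R : CommRingCat.{u}) (oR : Spec R ⟶ S) (a : (yon S).obj (Over.mk oR) ⟶ X.obj),
      RepWith @Etale a → Ring.KrullDimLE 1 R) :
    X.obj.obj.IsRepresentable := by
  classical
  have hX : IsSeparatedSp X.obj := DecSec.isSeparatedSp_of_mor (DecSec.isSeparatedSp_yon_field bK) hsep
  have hdec : IsDecent X.obj := isDecent_of_isLocallySeparated X.property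
    (repWith_mono (fun _ _ g (hg : IsClosedImmersion g) => inferInstanceAs (IsImmersion g)) hX)
  -- the affine chart
  haveI := compactSpace_of_isQuasiCompactSp hqc
  obtain ⟨U, a₀, hUa, ha₀, ha₀s⟩ := exists_affine_chart X.property
  let B : CommRingCat.{u} := Γ(U.left, ⊤)
  let oB : Spec B ⟶ S := U.left.isoSpec.inv ≫ U.hom
  let OB : Over S := Over.mk oB
  let ιU : OB ⟶ U := Over.homMk U.left.isoSpec.inv rfl
  let a : (yon S).obj OB ⟶ X.obj := (yon S).map ιU ≫ a₀
  have ha : RepWith @Etale a :=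
    repWith_comp ((repWith_yon_map_iff _ ιU).2 (inferInstanceAs (Etale U.left.isoSpec.inv))) ha₀
  have has : RepWith @Surjective a :=
    repWith_comp ((repWith_yon_map_iff _ ιU).2 (inferInstanceAs (Surjective U.left.isoSpec.inv))) ha₀s
  haveI hBdim : Ring.KrullDimLE 1 B := hdim B oB a ha
  obtain ⟨mB, hmB⟩ := (yon S).map_surjective (a ≫ p)
  obtain ⟨κB', hκB'⟩ := Spec.map_surjective (R := CommRingCat.of k) (S := B) mB.left
  let κB : k →+* B := κB'.hom
  have hBlft : LocallyOfFiniteType (Spec.map κB') := by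
    rw [hκB']
    exact hlft a (𝟙 _) mB ha (repWith_of_isIso _) (by rw [Category.comp_id]; exact hmB.symm)
  have hκBft : κB.FiniteType := (HasRingHomProperty.Spec_iff (P := @LocallyOfFiniteType)).1 hBlft
  haveI : IsNoetherianRing B := by
    algebraize [κB]
    exact Algebra.FiniteType.isNoetherianRing k B
  haveI : IsReduced (Spec B) := isReduced_of_chart hred ha
  haveI : _root_.IsReduced B := affine_isReduced_iff B |>.1 inferInstance
  haveI : JacobsonSpace ↥(Spec B) := by
    haveI := hBlft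
    haveI : JacobsonSpace ↥(Spec (CommRingCat.of k)) := inferInstanceAs (JacobsonSpace (PrimeSpectrum k))
    exact LocallyOfFiniteType.jacobsonSpace (Spec.map κB')
  haveI : NoetherianSpace ↥(Spec B) := inferInstanceAs (NoetherianSpace (PrimeSpectrum B))
  haveI : NoetherianSpace ↥OB.left := inferInstanceAs (NoetherianSpace ↥(Spec B))
  haveI : IsReduced OB.left := inferInstanceAs (IsReduced (Spec B))
  haveI : NoetherianSpace (Points X.obj) :=
    noetherianSpace_of_surjective (Points.ofPt a) (Points.continuous_ofPt a) (surjective_ofPt has)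
  -- the dense affine open
  obtain ⟨A, oA, j, hj, hjd⟩ := exists_dense_affine X hdec
  haveI := mono_of_openImmersion hj
  haveI hAdim : Ring.KrullDimLE 1 A := hdim A oA j (etale_of_openImmersion hj)
  obtain ⟨mA, hmA⟩ := (yon S).map_surjective (j ≫ p)
  obtain ⟨κA', hκA'⟩ := Spec.map_surjective (R := CommRingCat.of k) (S := A) mA.left
  let κA : k →+* A := κA'.hom
  have hκAft : κA.FiniteType := (HasRingHomProperty.Spec_iff (P := @LocallyOfFiniteType)).1 (by
    rw [hκA']
    exact hlft j (𝟙 _) mA (etale_of_openImmersion hj) (repWith_of_isIso _)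
      (by rw [Category.comp_id]; exact hmA.symm))
  have hoA : Spec.map κA' ≫ bK = oA := by rw [hκA']; exact Over.w mA
  have hoB : Spec.map κB' ≫ bK = oB := by rw [hκB']; exact Over.w mB
  obtain ⟨s, hs⟩ := exists_eval_isIntegral κA hκAft
  -- their intersection
  obtain ⟨W', c, d, sq⟩ := exists_isPullback_yon hj.1 a
  haveI : IsOpenImmersion d.left := hj.2 a _ d sq
  haveI : Etale c.left := ha.2 j _ c sq.flip
  have hcd : c.left ≫ Spec.map κA' = d.left ≫ Spec.map κB' := by
    have h : c ≫ mA = d ≫ mB := (yon S).map_injective (by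
      rw [Functor.map_comp, Functor.map_comp, hmA, hmB, ← Category.assoc, ← Category.assoc, sq.w])
    rw [hκA', hκB']
    exact congrArg CommaMorphism.left h
  let Wo : (Spec B).Opens := d.left.opensRange
  let wv : Wo.toScheme ⟶ W'.left := IsOpenImmersion.lift d.left Wo.ι (by
    rw [Scheme.Opens.range_ι]; rfl)
  have hwv : wv ≫ d.left = Wo.ι := IsOpenImmersion.lift_fac _ _ _
  haveI : IsOpenImmersion wv := by
    haveI : IsOpenImmersion (wv ≫ d.left) := by rw [hwv]; infer_instance
    exact IsOpenImmersion.of_comp wv d.left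
  let w : Wo.toScheme ⟶ Spec A := wv ≫ c.left
  haveI : Etale w := inferInstanceAs (Etale (wv ≫ c.left))
  have hw : w ≫ Spec.map (CommRingCat.ofHom κA) = Wo.ι ≫ Spec.map (CommRingCat.ofHom κB) := by
    show (wv ≫ c.left) ≫ Spec.map κA' = Wo.ι ≫ Spec.map κB'
    rw [Category.assoc, hcd, ← Category.assoc, hwv]
  have hpre : ∀ u : ↥(Spec B), Points.ofPt a u ∈ Set.range (Points.ofPt j) ↔ u ∈ Wo := by
    intro u
    have h := Set.ext_iff.1 (preimage_ofPt_image sq Set.univ) u
    rw [Set.image_univ, Set.preimage_univ, Set.image_univ, ← range_ofPt] at h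
    exact h
  have hWd : Dense (Wo : Set ↥(Spec B)) := by
    have := hjd.preimage (isOpenMap_ofPt_of_etale ha)
    rwa [show Points.ofPt a ⁻¹' Set.range (Points.ofPt j) = (Wo : Set ↥(Spec B)) from Set.ext hpre] at this
  -- functions with poles along the missing points
  obtain ⟨N₀, hN₀⟩ := exists_extend_invPow (B := B) (A := A) κB Wo hWd κA w hw s (by
    intro L _ R α β χ hα hβ hB hsR z hz
    have hκ : α.comp κB = β.comp κA := by
      have : CommRingCat.ofHom κA ≫ CommRingCat.ofHom β = CommRingCat.ofHom κB ≫ CommRingCat.ofHom α := by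
        apply Spec.map_injective
        rw [Spec.map_comp, Spec.map_comp, ← hβ, ← hα, Category.assoc, Category.assoc]
        exact congrArg (χ ≫ ·) hw
      exact (congrArg CommRingCat.Hom.hom this).symm
    have hA : ∀ x, β x ∈ R := fun x => by
      let ρ : k[X] →+* R := eval₂RingHom ((α.comp κB).codRestrict R fun c => hB _) ⟨β s, hsR⟩
      have hρ : (algebraMap R L).comp ρ = β.comp (eval₂RingHom κA s) := by
        refine Polynomial.ringHom_ext (fun c => ?_) (by simp [ρ]; try rfl)
        have := RingHom.congr_fun hκ c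
        simpa [ρ] using this
      obtain ⟨f, hf, hf0⟩ := hs x
      have hint : IsIntegral R (β x) := ⟨f.map ρ, hf.map ρ, by
        rw [eval₂_map, hρ, ← hom_eval₂, hf0, map_zero]⟩
      obtain ⟨y, hy⟩ := IsIntegrallyClosed.isIntegral_iff.1 hint
      rw [← hy]
      exact y.2
    let αR : B →+* R := α.codRestrict R hB
    let βR : A →+* R := β.codRestrict R hA
    let OR : Over S := Over.mk (Spec.map (CommRingCat.ofHom αR) ≫ oB)
    let iB : OR ⟶ OB := Over.homMk (Spec.map (CommRingCat.ofHom αR)) rfl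
    let iA : OR ⟶ Over.mk oA := Over.homMk (Spec.map (CommRingCat.ofHom βR)) (by
      show Spec.map _ ≫ oA = Spec.map _ ≫ oB
      rw [← hoA, ← hoB, ← Spec.map_comp_assoc, ← Spec.map_comp_assoc]
      congr 2
      exact CommRingCat.hom_ext (RingHom.ext fun c => Subtype.ext (RingHom.congr_fun hκ c).symm))
    let OL : Over S := Over.mk (χ ≫ Wo.ι ≫ oB)
    let i : OL ⟶ OR := Over.homMk (Spec.map (CommRingCat.ofHom R.subtype)) (by
      show Spec.map _ ≫ Spec.map _ ≫ oB = χ ≫ Wo.ι ≫ oB
      rw [← Spec.map_comp_assoc, ← Category.assoc χ, hα]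
      rfl)
    let e : OL ⟶ W' := Over.homMk (χ ≫ wv) (by
      show (χ ≫ wv) ≫ W'.hom = χ ≫ Wo.ι ≫ oB
      rw [Category.assoc, ← hwv, Category.assoc]
      exact congrArg (fun t => χ ≫ wv ≫ t) (Over.w d).symm)
    have hed : e ≫ d = i ≫ iB := Over.OverMorphism.ext (by
      show (χ ≫ wv) ≫ d.left = Spec.map _ ≫ Spec.map _
      rw [Category.assoc, hwv, hα, ← Spec.map_comp]
      rfl)
    have hec : e ≫ c = i ≫ iA := Over.OverMorphism.ext (by
      show (χ ≫ wv) ≫ c.left = Spec.map _ ≫ Spec.map _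
      rw [Category.assoc, hβ, ← Spec.map_comp]
      rfl)
    haveI : IsReduced OR.left := inferInstanceAs (IsReduced (Spec (CommRingCat.of R)))
    haveI : IsDominant i.left :=
      ⟨PrimeSpectrum.denseRange_comap_iff_ker_le_nilRadical (R.subtype) |>.2 (fun x hx => by
        rw [RingHom.mem_ker] at hx
        rw [show x = 0 from Subtype.ext hx]
        exact zero_mem _)⟩
    have hfg := eq_of_dominant hX i ((yon S).map iB ≫ a) ((yon S).map iA ≫ j) (by
      calc (yon S).map i ≫ (yon S).map iB ≫ a = (yon S).map (e ≫ d) ≫ a := by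
            rw [hed, Functor.map_comp, Category.assoc]
        _ = (yon S).map (e ≫ c) ≫ j := by
            rw [Functor.map_comp, Functor.map_comp, Category.assoc, Category.assoc, sq.w]
        _ = (yon S).map i ≫ (yon S).map iA ≫ j := by
            rw [hec, Functor.map_comp, Category.assoc])
    have hc0 := congrArg (fun f => Points.ofPt f (IsLocalRing.closedPoint R)) hfg
    simp only [ofPt_yon_map_comp] at hc0
    have hzc : iB.left (IsLocalRing.closedPoint R) = z := PrimeSpectrum.ext (Ideal.ext fun x => by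
      show αR x ∈ IsLocalRing.maximalIdeal R ↔ x ∈ z.asIdeal
      rw [hz x, ValuationSubring.mem_nonunits_iff_exists_mem_maximalIdeal]
      exact ⟨fun h => ⟨hB x, h⟩, fun ⟨_, h⟩ => h⟩)
    rw [hzc] at hc0
    exact (hpre z).1 ⟨_, hc0.symm⟩)
  let N := max N₀ 1
  -- the zeros of `s`
  let Vs : Set ↥(Spec A) := PrimeSpectrum.zeroLocus {s}
  have hVsfin : Vs.Finite := by
    have hfin : (eval₂RingHom κA s).Finite := RingHom.IsIntegral.to_finite hs
      (RingHom.FiniteType.of_comp_finiteType (f := C)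
        (by rwa [show (eval₂RingHom κA s).comp C = κA from RingHom.ext fun c => by simp]))
    haveI := (IsFinite.SpecMap_iff (CommRingCat.ofHom (eval₂RingHom κA s))).2 hfin
    have hXmax : (Ideal.span {(Polynomial.X : k[X])}).IsMaximal :=
      PrincipalIdealRing.isMaximal_of_irreducible Polynomial.irreducible_X
    refine ((Spec.map (CommRingCat.ofHom (eval₂RingHom κA s))).finite_preimage_singleton
      (⟨Ideal.span {(Polynomial.X : k[X])}, hXmax.isPrime⟩ : PrimeSpectrum k[X])).subset fun x hx => ?_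
    have hx' : s ∈ x.asIdeal := Set.singleton_subset_iff.1 ((PrimeSpectrum.mem_zeroLocus _ _).1 hx)
    refine PrimeSpectrum.ext (hXmax.eq_of_le (Ideal.comap_ne_top _ x.2.ne_top) ?_).symm
    rw [Ideal.span_singleton_le_iff_mem, Ideal.mem_comap]
    simpa using hx'
  haveI : CompactSpace ↥W'.left := by
    haveI : NoetherianSpace ↥W'.left := d.left.isOpenEmbedding.isInducing.noetherianSpace
    infer_instance
  haveI : QuasiCompact c.left := quasiCompact_of_affine (Y := Spec A) c.left
  haveI : LocallyQuasiFinite c.left := Groth.Agent.Unibranch.locallyQuasiFinite_of_etale c.left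
  let F : Set ↥(Spec B) := d.left '' (c.left ⁻¹' Vs)
  have hFfin : F.Finite := (c.left.finite_preimage hVsfin).image _
  have hFcl : IsClosed F := isClosed_of_finite_of_isLocallyClosed hFfin
    ((((PrimeSpectrum.isClosed_zeroLocus _).preimage c.left.continuous).isLocallyClosed).image
      d.left.isOpenEmbedding.isInducing d.left.isOpenEmbedding.isOpen_range.isLocallyClosed)
  let G : Set (Points X.obj) := Points.ofPt j '' Vs
  have hGF : Points.ofPt a ⁻¹' G = F := by
    ext u
    constructor
    · rintro ⟨v, hv, hvu⟩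
      obtain ⟨y, hy1, hy2⟩ := (ofPt_eq_ofPt_iff sq v u).1 hvu
      exact ⟨y, by rwa [Set.mem_preimage, hy1], hy2⟩
    · rintro ⟨y, hy, rfl⟩
      exact ⟨c.left y, hy, (ofPt_eq_ofPt_iff sq _ _).2 ⟨y, rfl, rfl⟩⟩
  have hGo : IsOpen Gᶜ := (isOpen_iff_chart ha has).2 (by
    rw [Set.preimage_compl, hGF]; exact hFcl.isOpen_compl)
  -- the open subspace on which the inverse power is defined
  have hsub := repWith_subι X.obj Gᶜ hGo
  let X₁ : Space S := ⟨subSp X.obj Gᶜ, isAlgSpace_subSp X.property hGo⟩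
  obtain ⟨P, fst, snd, sqP⟩ : ∃ (P : Over S) (fst : (yon S).obj P ⟶ X₁.obj) (snd : P ⟶ OB),
      IsPullback fst ((yon S).map snd) (subι X.obj Gᶜ) a := ⟨_, hsub.1.fst a, hsub.1.snd a, hsub.1.isPullback a⟩
  haveI : IsOpenImmersion snd.left := hsub.2 a _ snd sqP
  have hfste : RepWith @Etale fst := repWith_of_isPullback sqP.flip ha
  have hfsts : RepWith @Surjective fst := repWith_of_isPullback sqP.flip has
  have hsnd : Set.range snd.left = Fᶜ := by
    have h := preimage_ofPt_image sqP Set.univ
    rw [Set.image_univ, Set.preimage_univ, Set.image_univ, range_map_subι, Set.preimage_compl, hGF] at h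
    exact h.symm
  let U₁ : (Spec B).Opens := snd.left.opensRange
  obtain ⟨γ, hγC, hγW⟩ := hN₀ N (le_max_left _ _) U₁ (fun x hx => by
    rw [range_awayι]
    intro hsx
    have hx' : Wo.ι x ∈ Fᶜ := hsnd ▸ hx
    refine hx' ⟨wv x, ?_, ?_⟩
    · show c.left (wv x) ∈ PrimeSpectrum.zeroLocus {s}
      rw [PrimeSpectrum.mem_zeroLocus, Set.singleton_subset_iff]
      exact hsx
    · rw [← Scheme.Hom.comp_apply, hwv]; try rfl)
  let l : P.left ⟶ U₁.toScheme := IsOpenImmersion.lift U₁.ι snd.left (by rw [Scheme.Opens.range_ι]; rfl)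
  have hl : l ≫ U₁.ι = snd.left := IsOpenImmersion.lift_fac _ _ _
  let γP : P.left ⟶ Spec (CommRingCat.of k[X]) := l ≫ γ
  have hγPC : γP ≫ Spec.map (CommRingCat.ofHom C) = snd.left ≫ Spec.map κB' := by
    show (l ≫ γ) ≫ _ = _
    rw [Category.assoc, hγC, ← Category.assoc, hl]
    rfl
  let T₁ : Over S := Over.mk (Spec.map (CommRingCat.ofHom (C : k →+* k[X])) ≫ bK)
  let mP : P ⟶ T₁ := Over.homMk γP (by
    show γP ≫ Spec.map _ ≫ bK = P.hom
    rw [← Category.assoc, hγPC, Category.assoc, hoB]
    exact Over.w snd)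
  haveI : IsReduced P.left := isReduced_of_isOpenImmersion snd.left
  obtain ⟨Rr, r₁, r₂, sqR⟩ := exists_isPullback_yon hfste.1 fst
  haveI : Etale r₁.left := hfste.2 fst _ r₁ sqR.flip
  haveI : IsReduced Rr.left := ASp.isReduced_of_etale r₁.left
  haveI := isOpenImmersion_awayι (B := A) s
  -- on the part over the dense open, the morphism is the inverse power
  have hpart : ∀ (Q : Scheme.{u}) (q : Q ⟶ P.left) (e : Q ⟶ Wo.toScheme),
      q ≫ snd.left = e ≫ Wo.ι → ∃ e' : Q ⟶ Spec (CommRingCat.of (Localization.Away s)),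
        e' ≫ awayι (B := A) s = e ≫ w ∧ q ≫ γP = e' ≫ invPowMap κA s N := by
    intro Q q e he
    obtain ⟨e', he'⟩ : ∃ e' : Q ⟶ Spec (CommRingCat.of (Localization.Away s)), e' ≫ awayι (B := A) s = e ≫ w := by
      refine ⟨IsOpenImmersion.lift (awayι (B := A) s) (e ≫ w) ?_, IsOpenImmersion.lift_fac _ _ _⟩
      rintro _ ⟨y, rfl⟩
      rw [range_awayι]
      intro hsx
      have hy : Wo.ι (e y) ∈ Fᶜ := by
        rw [← hsnd, ← Scheme.Hom.comp_apply, ← he]
        exact ⟨q y, rfl⟩
      refine hy ⟨wv (e y), ?_, ?_⟩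
      · show c.left (wv (e y)) ∈ PrimeSpectrum.zeroLocus {s}
        rw [PrimeSpectrum.mem_zeroLocus, Set.singleton_subset_iff]
        exact hsx
      · rw [← Scheme.Hom.comp_apply, hwv]; try rfl
    refine ⟨e', he', ?_⟩
    show q ≫ l ≫ γ = _
    rw [← Category.assoc]
    exact hγW Q (q ≫ l) e e' (by rw [Category.assoc, hl, he]) he'
  have hdesc : (yon S).map r₁ ≫ (yon S).map mP = (yon S).map r₂ ≫ (yon S).map mP := by
    rw [← Functor.map_comp, ← Functor.map_comp]
    refine congrArg (yon S).map (Over.OverMorphism.ext ?_)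
    show r₁.left ≫ γP = r₂.left ≫ γP
    let Q : Rr.left.Opens := (r₁.left ≫ snd.left) ⁻¹ᵁ Wo
    haveI : IsDominant Q.ι := ⟨by
      show DenseRange Q.ι
      rw [DenseRange, Scheme.Opens.range_ι]
      exact hWd.preimage (r₁.left ≫ snd.left).isOpenMap⟩
    have heq : ∀ t, Points.ofPt a (snd.left (r₁.left t)) = Points.ofPt a (snd.left (r₂.left t)) := fun t => by
      have e : (yon S).map (r₁ ≫ snd) ≫ a = (yon S).map (r₂ ≫ snd) ≫ a := by
        simp only [Functor.map_comp, Category.assoc, ← sqP.w, reassoc_of% sqR.w]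
      have h1 := ofPt_yon_map_comp (r₁ ≫ snd) a t
      have h2 := ofPt_yon_map_comp (r₂ ≫ snd) a t
      rw [e, h2] at h1
      exact h1.symm
    let e₁ : Q.toScheme ⟶ Wo.toScheme := IsOpenImmersion.lift Wo.ι (Q.ι ≫ r₁.left ≫ snd.left) (by
      rintro _ ⟨t, rfl⟩
      rw [Scheme.Opens.range_ι, Scheme.Hom.comp_apply]
      exact t.2)
    let e₂ : Q.toScheme ⟶ Wo.toScheme := IsOpenImmersion.lift Wo.ι (Q.ι ≫ r₂.left ≫ snd.left) (by
      rintro _ ⟨t, rfl⟩
      rw [Scheme.Opens.range_ι, SetLike.mem_coe]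
      refine (hpre (snd.left (r₂.left (Q.ι t)))).1 ?_
      have h := (hpre (snd.left (r₁.left (Q.ι t)))).2 t.2
      rw [heq (Q.ι t)] at h
      exact h)
    have he₁ : e₁ ≫ Wo.ι = Q.ι ≫ r₁.left ≫ snd.left := IsOpenImmersion.lift_fac _ _ _
    have he₂ : e₂ ≫ Wo.ι = Q.ι ≫ r₂.left ≫ snd.left := IsOpenImmersion.lift_fac _ _ _
    obtain ⟨f₁, hf₁, h₁⟩ := hpart _ (Q.ι ≫ r₁.left) e₁ (by rw [he₁, Category.assoc])
    obtain ⟨f₂, hf₂, h₂⟩ := hpart _ (Q.ι ≫ r₂.left) e₂ (by rw [he₂, Category.assoc])
    refine ext_of_isDominant Q.ι ?_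
    refine ((Category.assoc _ _ _).symm.trans h₁).trans (Eq.trans ?_ ((Category.assoc _ _ _).symm.trans h₂).symm)
    congr 1
    rw [← cancel_mono (awayι (B := A) s), hf₁, hf₂]
    let OQ : Over S := Over.mk (Q.ι ≫ Rr.hom)
    let qι : OQ ⟶ Rr := Over.homMk Q.ι rfl
    let g₁ : OQ ⟶ W' := Over.homMk (e₁ ≫ wv) (by
      show (e₁ ≫ wv) ≫ W'.hom = Q.ι ≫ Rr.hom
      rw [← Over.w d, ← Category.assoc, Category.assoc e₁, hwv, he₁, Category.assoc, Category.assoc, Over.w snd,
        Over.w r₁])
    let g₂ : OQ ⟶ W' := Over.homMk (e₂ ≫ wv) (by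
      show (e₂ ≫ wv) ≫ W'.hom = Q.ι ≫ Rr.hom
      rw [← Over.w d, ← Category.assoc, Category.assoc e₂, hwv, he₂, Category.assoc, Category.assoc, Over.w snd,
        Over.w r₂])
    have hg₁ : g₁ ≫ d = qι ≫ r₁ ≫ snd := Over.OverMorphism.ext (by
      show (e₁ ≫ wv) ≫ d.left = _
      rw [Category.assoc, hwv, he₁]; rfl)
    have hg₂ : g₂ ≫ d = qι ≫ r₂ ≫ snd := Over.OverMorphism.ext (by
      show (e₂ ≫ wv) ≫ d.left = _
      rw [Category.assoc, hwv, he₂]; rfl)
    have hg : g₁ ≫ c = g₂ ≫ c := (yon S).map_injective ((cancel_mono j).1 (by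
      calc (yon S).map (g₁ ≫ c) ≫ j = (yon S).map (g₁ ≫ d) ≫ a := by
            rw [Functor.map_comp, Functor.map_comp, Category.assoc, Category.assoc, sq.w]
        _ = (yon S).map (qι ≫ r₁ ≫ snd) ≫ a := by rw [hg₁]
        _ = (yon S).map (qι ≫ r₂ ≫ snd) ≫ a := by
            simp only [Functor.map_comp, Category.assoc, ← sqP.w, reassoc_of% sqR.w]
        _ = (yon S).map (g₂ ≫ d) ≫ a := by rw [hg₂]
        _ = (yon S).map (g₂ ≫ c) ≫ j := by
            rw [Functor.map_comp, Functor.map_comp, Category.assoc, Category.assoc, sq.w]))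
    have := congrArg CommaMorphism.left hg
    exact (Category.assoc _ _ _).symm.trans (this.trans (Category.assoc _ _ _))
  haveI : Epi fst := epi_of_etale_surjective hfste hfsts
  obtain ⟨g, hg⟩ := exists_desc_of_epi fst sqR ((yon S).map mP) hdesc
  -- it is quasi-finite and separated
  have hγPlft : LocallyOfFiniteType γP := by
    haveI := hBlft
    haveI : LocallyOfFiniteType (γP ≫ Spec.map (CommRingCat.ofHom C)) := by rw [hγPC]; infer_instance
    exact locallyOfFiniteType_of_comp γP (Spec.map (CommRingCat.ofHom C))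
  have hγPqf : LocallyQuasiFinite γP := by
    haveI := hγPlft
    let Wp : P.left.Opens := snd.left ⁻¹ᵁ Wo
    have hWpfin : (Wp : Set ↥P.left)ᶜ.Finite := by
      obtain ⟨h, hhW, -, -, hhz⟩ := exists_regular_basicOpen_le (B := B) (W := (Wo : Set ↥(Spec B))) Wo.2 hWd
      have hf : {z : PrimeSpectrum B | h ∈ z.asIdeal}.Finite :=
        Set.Finite.of_finite_image
          ((Ideal.finite_minimalPrimes_of_isNoetherianRing B (Ideal.span {h})).subset (by
            rintro _ ⟨z, hz, rfl⟩
            exact (hhz z hz).2))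
          (fun z _ z' _ e => PrimeSpectrum.ext e)
      exact (hf.preimage snd.left.isOpenEmbedding.injective.injOn).subset fun x hx =>
        by_contra fun hh => hx (hhW hh)
    let e : Wp.toScheme ⟶ Wo.toScheme := IsOpenImmersion.lift Wo.ι (Wp.ι ≫ snd.left) (by
      rintro _ ⟨t, rfl⟩
      rw [Scheme.Opens.range_ι, Scheme.Hom.comp_apply]
      exact t.2)
    have he : e ≫ Wo.ι = Wp.ι ≫ snd.left := IsOpenImmersion.lift_fac _ _ _
    haveI : IsOpenImmersion e := by
      haveI : IsOpenImmersion (e ≫ Wo.ι) := by rw [he]; infer_instance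
      exact IsOpenImmersion.of_comp e Wo.ι
    obtain ⟨e', he', hq⟩ := hpart _ Wp.ι e he.symm
    haveI : LocallyQuasiFinite w := Groth.Agent.Unibranch.locallyQuasiFinite_of_etale w
    haveI : LocallyQuasiFinite e' := by
      haveI : LocallyQuasiFinite (e' ≫ awayι (B := A) s) := by rw [he']; infer_instance
      exact LocallyQuasiFinite.of_comp e' (awayι (B := A) s)
    haveI := locallyQuasiFinite_invPowMap κA s hs hκAft (N := N) (show 0 < max N₀ 1 by omega)
    haveI : LocallyQuasiFinite (Wp.ι ≫ γP) := by rw [hq]; infer_instance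
    haveI : CompactSpace ↥Wp.toScheme := by
      haveI : NoetherianSpace ↥Wp.toScheme := (Wp.ι ≫ snd.left).isOpenEmbedding.isInducing.noetherianSpace
      infer_instance
    haveI : QuasiCompact (Wp.ι ≫ γP) := quasiCompact_of_affine (Y := Spec (CommRingCat.of k[X])) _
    exact locallyQuasiFinite_of_open_compl_finite γP Wp hWpfin
  have hgqf : LocP (@LocallyQuasiFinite ⊓ @LocallyOfFiniteType) g := by
    refine locP_of_comp_chart (IsAlgSpace.yon_obj T₁) hfste hfsts ?_
    rw [hg]
    exact ASp.locP_of_repWith ((repWith_yon_map_iff _ mP).2 ⟨hγPqf, hγPlft⟩)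
  have hgsep : IsSeparatedMor g := by
    let t₁ : T₁ ⟶ Over.mk bK := Over.homMk (Spec.map (CommRingCat.ofHom C)) rfl
    refine separated_of_comp X₁.property g ((yon S).map t₁) ?_
    have e : g ≫ (yon S).map t₁ = subι X.obj Gᶜ ≫ p := by
      rw [← cancel_epi fst, ← Category.assoc, hg, ← Category.assoc, sqP.w, Category.assoc, ← hmB,
        ← Functor.map_comp, ← Functor.map_comp]
      refine congrArg (yon S).map (Over.OverMorphism.ext ?_)
      show γP ≫ _ = snd.left ≫ mB.left
      rw [← hκB']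
      exact hγPC
    rw [e]
    exact Groth.Agent.ASt.repWith_diagonal_comp (repWith_diagonal_of_mono (P := @IsClosedImmersion) (subι X.obj Gᶜ)) hsep
  have hX₁ : X₁.obj.obj.IsRepresentable :=
    Groth.Agent.S10259.result T₁ X₁ (ObjectProperty.homMk g) hgqf hgsep
  -- conclusion
  obtain ⟨X', i', hi', hrep', hmax⟩ := Groth.Agent.S10197.result X
  obtain ⟨k₀, hk₀⟩ := hmax ((AlgSp.ofScheme S).obj (Over.mk oA)) (ObjectProperty.homMk j) hj
    ⟨⟨_, ⟨representableByOfIso (Iso.refl _)⟩⟩⟩
  obtain ⟨k₁, hk₁⟩ := hmax X₁ (ObjectProperty.homMk (subι X.obj Gᶜ)) hsub hX₁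
  have hsurj : Function.Surjective (Points.map i'.hom) := fun x => by
    by_cases hx : x ∈ G
    · obtain ⟨v, -, rfl⟩ := hx
      refine ⟨Points.ofPt k₀.hom v, ?_⟩
      rw [Points.map_ofPt]
      exact congrArg (fun f => Points.ofPt f v) (congrArg InducedCategory.Hom.hom hk₀)
    · obtain ⟨y, hy⟩ := (range_map_subι X.obj Gᶜ).ge hx
      refine ⟨Points.map k₁.hom y, ?_⟩
      rw [← Points.map_comp, ← hy]
      exact congrArg (fun f => Points.map f y) (congrArg InducedCategory.Hom.hom hk₁)
  haveI := mono_of_openImmersion hi'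
  haveI := isIso_of_mono_etale_surjective X'.property X.property i'.hom
    (ASp.locP_of_repWith (etale_of_openImmersion hi')) hsurj
  obtain ⟨T', ⟨r'⟩⟩ := hrep'
  exact isRepresentable_of_iso_yon (isoOfRepresentableBy r' ≪≫ asIso i'.hom)

end Groth.Agent.CurveSchLib
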